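import Cfsg.Agent.OddHalf.D6.PglType
import Cfsg.Agent.GH.L2AutFix
import Cfsg.Agent.TwoFusion.SLTwoFacts
import Cfsg.Agent.Lib.ComponentSolvable
import Cfsg.Agent.GH.AltOut

/-!
# The subfield subgroup of a field automorphism of order two (ODD D6, helper446)

`R : Rep F L`, `φ` an automorphism of `L` with `φ φ = 1` and `fld φ ≠ 1`, `9 < |F|`.
`exists_sub` : there is a quasisimple `M ≤ L` which is fixed elementwise by `φ`, is normal in the group of
fixed points of `φ`, and such that an automorphism of odd order of `L` fixing `M` elementwise is trivial.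
-/

set_option autoImplicit false

namespace Cfsg.Agent.OddHalf.D6.SubFix

open Cfsg.Agent.GH.L2Aut Cfsg.Agent.Lib.SL2Mat

variable {F : Type*} [Field F] [Finite F] {L : Type*} [Group L] (R : Cfsg.Agent.GH.L2Aut.Rep F L)

omit [Finite F] in
theorem ker_eq_center : R.π.ker = Subgroup.center (Matrix.SpecialLinearGroup (Fin 2) F) := by
  ext x
  rw [MonoidHom.mem_ker, R.ker, Cfsg.Agent.GH.L2Aut.mem_center_iff R.two]

include R in
theorem isSimple (h : 3 < Nat.card F) : IsSimpleGroup L := by
  have := Fintype.ofFinite F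
  have h1 : IsSimpleGroup (Matrix.ProjectiveSpecialLinearGroup (Fin 2) F) :=
    Cfsg.Agent.TwoFusion.SLTwoFacts.isSimpleGroup_psl (by rwa [Nat.card_eq_fintype_card] at h)
  have e : L ≃* Matrix.ProjectiveSpecialLinearGroup (Fin 2) F :=
    (QuotientGroup.quotientKerEquivOfSurjective R.π R.surj).symm.trans
      (QuotientGroup.quotientMulEquivOfEq (ker_eq_center R))
  exact (MulEquiv.isSimpleGroup_congr e).2 h1

include R in
theorem isQuasisimple (h : 3 < Nat.card F) : Cfsg.IsQuasisimple L := by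
  have h1 := isSimple R h
  refine Cfsg.Agent.GH.AltOut.quasisimple ?_
  intro hc
  have h2 := R.center_eq_bot
  have h3 : Subgroup.center L = ⊤ := by
    rw [eq_top_iff]
    intro x _
    rw [Subgroup.mem_center_iff]
    intro y
    exact hc.is_comm.comm y x
  rw [h3] at h2
  have h4 := h1.toNontrivial
  exact absurd h2.symm bot_ne_top

/-- an involutory field automorphism and one that fixes its fixed field -/
theorem sq_eq_one {σ τ : F ≃+* F} (hσ2 : σ * σ = 1) (hσ : σ ≠ 1) (h2 : (2 : F) ≠ 0)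
    (h : ∀ a, σ a = a → τ a = a) : τ * τ = 1 := by
  obtain ⟨u, hu, hu'⟩ := Cfsg.Agent.GH.L2Aut.Rep.exists_anti hσ2 hσ
  have hss : ∀ a, σ (σ a) = a := fun a => congrArg (fun ρ : F ≃+* F => ρ a) hσ2
  have h1 : τ (u * u) = u * u := h _ (by rw [map_mul, hu']; ring)
  have h3 : (τ u - u) * (τ u + u) = 0 := by
    rw [map_mul] at h1
    linear_combination h1
  have h4 : τ (τ u) = u := by
    rcases mul_eq_zero.1 h3 with h5 | h5
    · have h6 : τ u = u := by linear_combination h5
      rw [h6, h6]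
    · have h6 : τ u = -u := by linear_combination h5
      rw [h6, map_neg, h6, neg_neg]
  ext a
  show τ (τ a) = a
  have h5 : a = (a + σ a) / 2 + (a - σ a) / (2 * u) * u := by
    field_simp
    ring
  have h6 : ∀ b, σ b = b → τ (τ b) = b := fun b hb => by rw [h b hb, h b hb]
  have e2 : σ 2 = 2 := map_ofNat σ 2
  rw [h5, map_add, map_add, map_mul, map_mul, h4, h6, h6]
  · rw [map_div₀, map_mul, map_sub, hss, hu', e2]
    have : (2 : F) * u ≠ 0 := mul_ne_zero h2 hu
    field_simp
    ring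
  · rw [map_div₀, map_add, hss, e2, add_comm]

/-- if `π (conjGL g x) = π x` and `x` is unitriangular then `g` commutes with `x` -/
theorem conj_up {g : GL (Fin 2) F} {a : F} (h : R.gl g (R.π (up a)) = R.π (up a)) :
    conjGL g (up a) = up a := by
  rw [R.gl_apply, R.π_eq_iff] at h
  rcases h with h | h
  · exact h
  · exfalso
    have h1 : (conjGL g (up a)).1.trace = (up a).1.trace := by
      rw [conjGL_val, Matrix.trace_mul_comm, ← Matrix.mul_assoc, ← Units.val_mul, inv_mul_cancel,
        Units.val_one, Matrix.one_mul]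
    rw [h] at h1
    have h2 : (-(up a)).1.trace = -(up a).1.trace := by
      show (-(up a).1).trace = _
      rw [Matrix.trace_neg]
    have h3 : (up a).1.trace = 2 := by
      rw [Matrix.trace_fin_two]
      show ent (up a) 0 0 + ent (up a) 1 1 = 2
      rw [up_00, up_11]; norm_num
    rw [h2, h3] at h1
    have h4 : (2 : F) * 2 = 0 := by linear_combination -h1
    rcases mul_eq_zero.1 h4 with h5 | h5 <;> exact R.two h5

theorem conj_lo {g : GL (Fin 2) F} {a : F} (h : R.gl g (R.π (lo a)) = R.π (lo a)) :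
    conjGL g (lo a) = lo a := by
  rw [R.gl_apply, R.π_eq_iff] at h
  rcases h with h | h
  · exact h
  · exfalso
    have h1 : (conjGL g (lo a)).1.trace = (lo a).1.trace := by
      rw [conjGL_val, Matrix.trace_mul_comm, ← Matrix.mul_assoc, ← Units.val_mul, inv_mul_cancel,
        Units.val_one, Matrix.one_mul]
    rw [h] at h1
    have h2 : (-(lo a)).1.trace = -(lo a).1.trace := by
      show (-(lo a).1).trace = _
      rw [Matrix.trace_neg]
    have h3 : (lo a).1.trace = 2 := by
      rw [Matrix.trace_fin_two]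
      show ent (lo a) 0 0 + ent (lo a) 1 1 = 2
      rw [lo_00, lo_11]; norm_num
    rw [h2, h3] at h1
    have h4 : (2 : F) * 2 = 0 := by linear_combination -h1
    rcases mul_eq_zero.1 h4 with h5 | h5 <;> exact R.two h5

theorem fa_up (τ : F ≃+* F) (a : F) : R.fa τ (R.π (up a)) = R.π (up (τ a)) := by
  rw [R.fa_apply, fieldAut_up]

theorem fa_lo (τ : F ≃+* F) (a : F) : R.fa τ (R.π (lo a)) = R.π (lo (τ a)) := by
  rw [R.fa_apply, fieldAut_lo]

/-- an automorphism fixing `up 1` and `lo 1` is a field automorphism -/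
theorem eq_fa {β : MulAut L} (h1 : β (R.π (up 1)) = R.π (up 1)) (h2 : β (R.π (lo 1)) = R.π (lo 1)) :
    β = R.fa (R.fld β) := by
  obtain ⟨g, hg⟩ := R.exists_eq β
  have h3 : R.gl g = 1 := by
    rw [R.gl_eq_one_iff]
    have h4 : conjGL g (up 1) = up 1 := by
      apply conj_up R
      rw [hg, MulAut.mul_apply, fa_up, map_one] at h1
      exact h1
    have h5 : conjGL g (lo 1) = lo 1 := by
      apply conj_lo R
      rw [hg, MulAut.mul_apply, fa_lo, map_one] at h2
      exact h2
    have h6 := of_conjGL_eq h4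
    have h7 := of_conjGL_eq h5
    have a1 := congrFun (congrFun h6 0) 0
    have a2 := congrFun (congrFun h6 0) 1
    have a3 := congrFun (congrFun h6 1) 1
    have b1 := congrFun (congrFun h7 0) 0
    rw [mat_mul, mat_mul] at a1 a2 a3 b1
    have e00 : (up (1 : F)).1 0 0 = 1 := rfl
    have e01 : (up (1 : F)).1 0 1 = 1 := rfl
    have e10 : (up (1 : F)).1 1 0 = 0 := rfl
    have e11 : (up (1 : F)).1 1 1 = 1 := rfl
    have l00 : (lo (1 : F)).1 0 0 = 1 := rfl
    have l01 : (lo (1 : F)).1 0 1 = 0 := rfl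
    have l10 : (lo (1 : F)).1 1 0 = 1 := rfl
    have l11 : (lo (1 : F)).1 1 1 = 1 := rfl
    rw [e00, e01, e10] at a1
    rw [e00, e01, e11] at a2
    rw [e01, e10, e11] at a3
    rw [l00, l01, l10] at b1
    refine ⟨g.1 0 0, ?_⟩
    apply mat_ext
    · simp
    · rw [Matrix.smul_apply, Matrix.one_apply_ne (by decide), smul_zero]
      linear_combination b1
    · rw [Matrix.smul_apply, Matrix.one_apply_ne (by decide), smul_zero]
      linear_combination -a1
    · rw [Matrix.smul_apply, Matrix.one_apply_eq, smul_eq_mul, mul_one]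
      linear_combination -a2
  rw [h3, one_mul] at hg
  exact hg

/-- an automorphism of odd order fixing the subfield subgroup of an involutory field automorphism is
trivial -/
theorem eq_one_of_sub {K : Subfield F} {σ : F ≃+* F} (hσ2 : σ * σ = 1) (hσ : σ ≠ 1)
    (hK : ∀ a, a ∈ K ↔ σ a = a) {β : MulAut L} (hodd : Odd (orderOf β))
    (hf : ∀ y ∈ R.sub K, β y = y) : β = 1 := by
  have hup : ∀ a : F, σ a = a → β (R.π (up a)) = R.π (up a) := by
    intro a ha
    apply hf
    rw [R.mem_sub]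
    refine ⟨up ⟨a, (hK a).2 ha⟩, ?_⟩
    congr 1
    apply Subtype.ext
    apply mat_ext <;> rfl
  have hlo : ∀ a : F, σ a = a → β (R.π (lo a)) = R.π (lo a) := by
    intro a ha
    apply hf
    rw [R.mem_sub]
    refine ⟨lo ⟨a, (hK a).2 ha⟩, ?_⟩
    congr 1
    apply Subtype.ext
    apply mat_ext <;> rfl
  have h1 := eq_fa R (hup 1 (map_one σ)) (hlo 1 (map_one σ))
  have h2 : ∀ a, σ a = a → R.fld β a = a := by
    intro a ha
    have h3 := hup a ha
    rw [h1, fa_up, R.π_eq_iff] at h3
    rcases h3 with h3 | h3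
    · exact up_inj h3
    · exfalso
      have h4 := congrArg (fun y => ent y 0 0) h3
      have h5 : ent (-(up a)) 0 0 = -ent (up a) 0 0 := rfl
      simp only [h5, up_00] at h4
      exact R.two (by linear_combination h4)
  have h3 := sq_eq_one hσ2 hσ R.two h2
  have h4 : β * β = 1 := by
    rw [h1, ← map_mul, h3, map_one]
  exact PglType.eq_one_of_odd_sq h4 hodd

/-- **the subfield subgroup** -/
theorem exists_sub (hF : 9 < Nat.card F) {φ : MulAut L} (h : φ * φ = 1) (hf : R.fld φ ≠ 1) :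
    ∃ M : Subgroup L, (∀ m ∈ M, φ m = m) ∧ Cfsg.IsQuasisimple M ∧
      (∀ c, φ c = c → ∀ m ∈ M, c * m * c⁻¹ ∈ M) ∧
      (∀ β : MulAut L, Odd (orderOf β) → (∀ m ∈ M, β m = m) → β = 1) := by
  obtain ⟨σ, hσ⟩ : ∃ σ, σ = R.fld φ := ⟨_, rfl⟩
  rw [← hσ] at hf
  have hσ2 : σ * σ = 1 := by rw [hσ, ← map_mul, h, map_one]
  have hord : orderOf σ = 2 := by
    rw [orderOf_eq_prime_iff]
    exact ⟨by rw [sq]; exact hσ2, hf⟩
  obtain ⟨R', -, -, hR'⟩ := R.exists_rep φ (by rw [← hσ, hord, sq, h])
  rw [← hσ] at hR'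
  obtain ⟨K, hK, hcard⟩ := Cfsg.Agent.GH.L2Aut.exists_fixed_field σ
  have heven : Even (orderOf σ) := by rw [hord]; decide
  obtain ⟨w, hw, hwn, hwx⟩ := R'.exists_outer heven hK hcard
  have hfix : ∀ m ∈ R'.sub K, φ m = m := by
    intro m hm
    rw [hR']
    exact R'.sub_le_fix hK hm
  refine ⟨R'.sub K, hfix, isQuasisimple (R'.subRep K) ?_, ?_, ?_⟩
  · rw [hord] at hcard
    rw [hcard] at hF
    by_contra hcon
    push Not at hcon
    have := Nat.pow_le_pow_left hcon 2
    omega
  · intro c hc m hm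
    rw [hR'] at hc
    by_cases h1 : c ∈ R'.sub K
    · exact mul_mem (mul_mem h1 hm) (inv_mem h1)
    · -- `w c` and `w (c m⁻¹)` are in `sub K`
      have h2 := hwx c hc h1
      have h3 : c * m⁻¹ ∉ R'.sub K := fun h4 => h1 (by
        have := mul_mem h4 hm
        rwa [inv_mul_cancel_right] at this)
      have h4 : (R'.fa σ) (c * m⁻¹) = c * m⁻¹ := by
        rw [map_mul, map_inv]
        have h5 := hfix m hm
        rw [hR'] at h5
        rw [hc, h5]
      have h6 := hwx c⁻¹ (by rw [Cfsg.Agent.GH.L2Aut.mem_fixSub, map_inv, hc])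
        (fun h7 => h1 (inv_mem_iff.1 h7))
      have h7 := hwx (c * m⁻¹) h4 h3
      -- `c m c⁻¹ = (w c⁻¹... )`
      have h8 : (w * (c * m⁻¹))⁻¹ * (w * c) = m := by group
      have h9 : c * m * c⁻¹ ∈ Cfsg.Agent.GH.L2Aut.fixSub (R'.fa σ) := by
        rw [Cfsg.Agent.GH.L2Aut.mem_fixSub, map_mul, map_mul, map_inv, hc]
        have h5 := hfix m hm
        rw [hR'] at h5
        rw [h5]
      by_contra h10
      have h11 := hwx _ h9 h10
      -- `w c m c⁻¹ ∈ sub` and `w c ∈ sub` : `c⁻¹ ... `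
      have h12 : c⁻¹ ∈ R'.sub K := by
        have h13 : (w * c * m)⁻¹ * (w * (c * m * c⁻¹)) = c⁻¹ := by group
        rw [← h13]
        exact mul_mem (inv_mem (mul_mem h2 hm)) h11
      exact h1 (inv_mem_iff.1 h12)
  · intro β hβ hβf
    exact eq_one_of_sub R' hσ2 hf hK hβ hβf

end Cfsg.Agent.OddHalf.D6.SubFix
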