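import Mathlib
import Cfsg.Agent.GH.L2AutField
import Cfsg.Agent.GH.L2AutD
import Cfsg.Agent.LFourA.FieldOdd
import Cfsg.Agent.TwoFusion.SLTwoFacts
import Cfsg.Agent.SmallSimple.PSLTwoPart
import Cfsg.Agent.S0144

/-!
# ODD D6: components of centralizers of involutory automorphisms of `PSL(2,q)`, `q` odd (helper419)

`IsL2o X`: `X ≅ PSL(2,F)`, `F` finite of odd order at least 5.

* `of_fixed`: `α` an involutory automorphism of `X`, `M ≠ 1` a perfect subnormal subgroup of the fixed subgroup: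
  `IsL2o M`.
-/

set_option autoImplicit false

namespace Cfsg.Agent.OddHalf.D6.PumpDown

open Subgroup Cfsg.Agent.GH.L2Aut Cfsg.Agent.LFourA.FieldInv

/-- `X ≅ PSL(2,F)`, `F` finite of odd order at least 5 -/
def IsL2o (X : Type*) [Group X] : Prop :=
  ∃ (F : Type) (_ : Field F) (_ : Fintype F), Odd (Fintype.card F) ∧ 5 ≤ Fintype.card F ∧
    Nonempty (X ≃* Matrix.ProjectiveSpecialLinearGroup (Fin 2) F)

theorem IsL2o.of_equiv {X Y : Type*} [Group X] [Group Y] (h : IsL2o X) (e : X ≃* Y) : IsL2o Y := by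
  obtain ⟨F, i1, i2, h1, h2, ⟨f⟩⟩ := h
  exact ⟨F, i1, i2, h1, h2, ⟨e.symm.trans f⟩⟩

/-- a perfect subgroup of a metabelian group is trivial -/
theorem eq_bot_of_metabelian {G : Type*} [Group G] {C M : Subgroup G} (hMC : M ≤ C)
    (hC : ∀ a ∈ ⁅C, C⁆, ∀ b ∈ ⁅C, C⁆, a * b = b * a) (hM : ⁅M, M⁆ = M) : M = ⊥ := by
  have h1 : M ≤ ⁅C, C⁆ := by rw [← hM]; exact commutator_mono hMC hMC
  rw [eq_bot_iff, ← hM, commutator_le]
  intro a ha b hb
  rw [mem_bot, commutatorElement_def, hC a (h1 ha) b (h1 hb)]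
  group

/-- a group with an abelian subgroup `B` all whose other elements are involutions inverting `B` is metabelian -/
theorem metabelian_of_inv {G : Type*} [Group G] {C B : Subgroup G} (hBc : ∀ x ∈ B, ∀ y ∈ B, x * y = y * x)
    (h : ∀ x ∈ C, x ∈ B ∨ (x * x = 1 ∧ ∀ y ∈ B, x * y * x⁻¹ = y⁻¹)) :
    ∀ a ∈ ⁅C, C⁆, ∀ b ∈ ⁅C, C⁆, a * b = b * a := by
  by_cases hex : ∃ x ∈ C, ∃ y ∈ C, x ∉ B ∧ y ∉ B ∧ x * y ∉ B
  · -- `B` has exponent 2, so does `C`
    obtain ⟨x, hx, y, hy, hxB, hyB, hxyB⟩ := hex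
    have hB2 : ∀ b ∈ B, b * b = 1 := by
      intro b hb
      have h1 := ((h x hx).resolve_left hxB).2
      have h2 := ((h y hy).resolve_left hyB).2
      have h3 := ((h _ (mul_mem hx hy)).resolve_left hxyB).2 b hb
      have h4 : x * y * b * (x * y)⁻¹ = b := by
        calc x * y * b * (x * y)⁻¹ = x * (y * b * y⁻¹) * x⁻¹ := by group
          _ = b := by rw [h2 b hb, h1 _ (inv_mem hb), inv_inv]
      rw [h4] at h3
      nth_rw 1 [h3]
      rw [inv_mul_cancel]
    have hC2 : ∀ c ∈ C, c * c = 1 := by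
      intro c hc
      rcases h c hc with h1 | h1
      · exact hB2 c h1
      · exact h1.1
    have hcomm : ∀ a ∈ C, ∀ b ∈ C, a * b = b * a := by
      intro a ha b hb
      have h1 := hC2 _ (mul_mem ha hb)
      have h2 := hC2 a ha
      have h3 := hC2 b hb
      calc a * b = a * (a * b * (a * b)) * b := by rw [h1, mul_one]
        _ = a * a * (b * a) * (b * b) := by group
        _ = b * a := by rw [h2, h3, one_mul, mul_one]
    have hle : ⁅C, C⁆ ≤ C := by
      rw [commutator_le]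
      intro a ha b hb
      exact mul_mem (mul_mem (mul_mem ha hb) (inv_mem ha)) (inv_mem hb)
    exact fun a ha b hb => hcomm a (hle ha) b (hle hb)
  · push Not at hex
    have hle : ⁅C, C⁆ ≤ B := by
      rw [commutator_le]
      intro x hx y hy
      rw [commutatorElement_def]
      by_cases hxB : x ∈ B
      · by_cases hyB : y ∈ B
        · exact mul_mem (mul_mem (mul_mem hxB hyB) (inv_mem hxB)) (inv_mem hyB)
        · have h1 := ((h y hy).resolve_left hyB).2 x⁻¹ (inv_mem hxB)
          have : x * y * x⁻¹ * y⁻¹ = x * (y * x⁻¹ * y⁻¹) := by group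
          rw [this, h1]
          exact mul_mem hxB (inv_mem (inv_mem hxB))
      · have hinv : ∀ g ∈ C, g ∉ B → g⁻¹ = g := fun g hg hgB =>
          inv_eq_of_mul_eq_one_left ((h g hg).resolve_left hgB).1
        by_cases hyB : y ∈ B
        · have h1 := ((h x hx).resolve_left hxB).2 y hyB
          rw [h1]
          exact mul_mem (inv_mem hyB) (inv_mem hyB)
        · rw [hinv x hx hxB, hinv y hy hyB]
          have h1 := hex x hx y hy hxB hyB
          have : x * y * x * y = x * y * (x * y) := by group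
          rw [this]
          exact mul_mem h1 h1
    exact fun a ha b hb => hBc a (hle ha) b (hle hb)

section

variable {F L : Type*} [Field F] [Finite F] [Group L]

/-- the case `fld α = 1` -/
theorem eq_bot_of_pgl (R : GH.L2Aut.Rep F L) {α : MulAut L} (h2 : α * α = 1) (h1 : α ≠ 1)
    (hσ : R.fld α = 1) {M : Subgroup L} (hfix : ∀ m ∈ M, α m = m) (hperf : ⁅M, M⁆ = M) : M = ⊥ := by
  let C : Subgroup L :=
    { carrier := {x | α x = x}
      one_mem' := map_one _
      mul_mem' := fun {a b} (ha : _ = a) (hb : _ = b) => by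
        change α (a * b) = a * b
        rw [map_mul, ha, hb]
      inv_mem' := fun {a} (ha : _ = a) => by
        change α a⁻¹ = a⁻¹
        rw [map_inv, ha] }
  have hC : ∀ x, x ∈ C ↔ α x = x := fun x => Iff.rfl
  have hP := R.mem_PGL_iff_fld.2 hσ
  by_cases hi : α ∈ Inn L
  · obtain ⟨t, ht, rfl⟩ := R.inn_inv hi h2
    have ht1 : t ≠ 1 := fun h => h1 (by rw [h, map_one])
    obtain ⟨B, -, hB, -, hcov⟩ := R.inner_cent ht ht1
    refine eq_bot_of_metabelian (C := C) (fun m hm => hfix m hm) (metabelian_of_inv hB ?_) hperf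
    intro x hx
    apply hcov
    have h3 : t * x * t⁻¹ = x := hx
    rw [mul_inv_eq_iff_eq_mul] at h3
    exact h3.symm
  · obtain ⟨B, -, hB, -, hcov⟩ := R.dtype_cent hP hi h2
    exact eq_bot_of_metabelian (C := C) (fun m hm => hfix m hm) (metabelian_of_inv hB hcov) hperf

/-- `Rep F L` gives `L ≅ PSL(2,F)` -/
theorem nonempty_equiv {F L : Type*} [Field F] [Group L] (R : GH.L2Aut.Rep F L) :
    Nonempty (L ≃* Matrix.ProjectiveSpecialLinearGroup (Fin 2) F) := by
  have hk : R.π.ker = Subgroup.center (Matrix.SpecialLinearGroup (Fin 2) F) := by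
    ext x
    rw [MonoidHom.mem_ker, R.ker, GH.L2Aut.mem_center_iff R.two]
  exact ⟨((QuotientGroup.quotientMulEquivOfEq hk.symm).trans
    (QuotientGroup.quotientKerEquivOfSurjective _ R.surj)).symm⟩

theorem isSolvable_of_card_three {F L : Type*} [Field F] [Finite F] [Group L] (R : GH.L2Aut.Rep F L)
    (h : Nat.card F = 3) : Group.IsSolvable L := by
  have : Fintype F := Fintype.ofFinite F
  have hF : Fintype.card F = 3 := by rw [← Nat.card_eq_fintype_card, h]
  obtain ⟨e⟩ := nonempty_equiv R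
  have h1 := Cfsg.Agent.SmallSimple.PSLTwoPart.card_psl_two_odd (F := F) (by rw [hF]; decide)
  rw [hF] at h1
  have h2 : Nat.card L = 2 ^ 2 * 3 ^ 1 := by
    rw [Nat.card_congr e.toEquiv]
    omega
  have := R.finite
  exact Cfsg.Agent.S0144.result 2 3 2 1 Nat.prime_two Nat.prime_three h2

/-- the fixed subgroup of an automorphism -/
def fixed {L : Type*} [Group L] (α : MulAut L) : Subgroup L where
  carrier := {x | α x = x}
  one_mem' := map_one _
  mul_mem' := fun {a b} (ha : _ = a) (hb : _ = b) => by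
    change α (a * b) = a * b
    rw [map_mul, ha, hb]
  inv_mem' := fun {a} (ha : _ = a) => by
    change α a⁻¹ = a⁻¹
    rw [map_inv, ha]

theorem mem_fixed {L : Type*} [Group L] {α : MulAut L} {x : L} : x ∈ fixed α ↔ α x = x := Iff.rfl

/-- **(PU), K-level.** -/
theorem of_fixed_rep (R : GH.L2Aut.Rep F L) {α : MulAut L} (h2 : α * α = 1) (h1 : α ≠ 1)
    {M : Subgroup L} (hfix : M ≤ fixed α) (hperf : ⁅M, M⁆ = M) (hne : M ≠ ⊥)
    (hsub : (M.subgroupOf (fixed α)).IsSubnormal) :
    ∃ K : Subfield F, Odd (Nat.card K) ∧ 5 ≤ Nat.card K ∧ Nonempty (GH.L2Aut.Rep K M) := by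
  have hσ : R.fld α ≠ 1 := fun h => hne (eq_bot_of_pgl R h2 h1 h (fun m hm => hfix hm) hperf)
  obtain ⟨g, K, H, -⟩ := GH.L2AutField.exists_fInv R h2 hσ
  have hodd : Odd (Nat.card K) := H.odd_card_sub
  -- `M ≤ PSL(2,K)`
  have hcomm : ∀ a ∈ fixed α, ∀ b ∈ fixed α, a * b * a⁻¹ * b⁻¹ ∈ H.sub.range := by
    intro a ha b hb
    have e1 := H.mem_sub_of_sq (mem_fixed.1 (mul_mem ha hb))
    have e2 := H.mem_sub_of_sq (mem_fixed.1 (mul_mem (mul_mem (inv_mem hb) (inv_mem ha)) hb))
    have e3 := H.mem_sub_of_sq (mem_fixed.1 (inv_mem hb))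
    have e : a * b * a⁻¹ * b⁻¹ = (a * b * (a * b)) * (b⁻¹ * a⁻¹ * b * (b⁻¹ * a⁻¹ * b)) * (b⁻¹ * b⁻¹) := by
      group
    rw [e]
    exact mul_mem (mul_mem e1 e2) e3
  have hMN : M ≤ H.sub.range := by
    rw [← hperf, commutator_le]
    intro a ha b hb
    rw [commutatorElement_def]
    exact hcomm a (hfix ha) b (hfix hb)
  have hNC : H.sub.range ≤ fixed α := by
    rintro _ ⟨x, rfl⟩
    exact H.sub_fixed x
  let RN : GH.L2Aut.Rep K H.sub.range :=
    { π := H.sub.rangeRestrict
      surj := H.sub.rangeRestrict_surjective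
      ker := fun x => by
        rw [← H.sub_eq_one_iff]
        constructor
        · intro h; exact congrArg Subtype.val h
        · intro h; exact Subtype.ext h
      two := H.two_ne' }
  have : Finite K := inferInstance
  have : Fintype K := Fintype.ofFinite K
  have hcK : Nat.card K = Fintype.card K := Nat.card_eq_fintype_card
  have h1K : 1 < Fintype.card K := Fintype.one_lt_card
  have hMsub : (M.subgroupOf H.sub.range).IsSubnormal := by
    have := (hsub.comap (inclusion hNC))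
    have e : (M.subgroupOf (fixed α)).comap (inclusion hNC) = M.subgroupOf H.sub.range := by
      ext x; rfl
    rwa [e] at this
  have hc3 : Nat.card K ≠ 3 := by
    intro h3
    have hs := isSolvable_of_card_three RN h3
    have hs' : Group.IsSolvable M :=
      Group.isSolvable_of_isSolvable_injective (f := inclusion hMN) (inclusion_injective hMN)
    have : Nontrivial M := (nontrivial_iff_ne_bot M).2 hne
    have hlt := Group.IsSolvable.commutator_lt_top_of_nontrivial M
    apply hlt.ne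
    apply Subgroup.map_injective M.subtype_injective
    rw [_root_.commutator_def, map_commutator, ← MonoidHom.range_eq_map, range_subtype, hperf]
  have h5 : 5 ≤ Nat.card K := by
    obtain ⟨k, hk⟩ := hodd
    omega
  refine ⟨K, hodd, h5, ?_⟩
  have hsimp : IsSimpleGroup H.sub.range := by
    obtain ⟨e⟩ := nonempty_equiv RN
    have := Cfsg.Agent.TwoFusion.SLTwoFacts.isSimpleGroup_psl (F := K) (by omega)
    exact e.isSimpleGroup
  rcases hMsub.eq_bot_or_top_of_isSimpleGroup hsimp with h | h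
  · exfalso
    apply hne
    rw [subgroupOf_eq_bot] at h
    exact disjoint_self.1 (h.mono_right hMN)
  · rw [subgroupOf_eq_top] at h
    have hM : M = H.sub.range := le_antisymm hMN h
    subst hM
    exact ⟨RN⟩

end

theorem IsL2o.simple {X : Type*} [Group X] (h : IsL2o X) : IsSimpleGroup X := by
  obtain ⟨F, _, _, -, h2, ⟨e⟩⟩ := h
  have := Cfsg.Agent.TwoFusion.SLTwoFacts.isSimpleGroup_psl (F := F) (by omega)
  exact e.isSimpleGroup

theorem IsL2o.rep {X : Type*} [Group X] (h : IsL2o X) :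
    ∃ (F : Type) (_ : Field F) (_ : Finite F), Nonempty (GH.L2Aut.Rep F X) := by
  obtain ⟨F, _, _, h1, h2, ⟨e⟩⟩ := h
  exact ⟨F, _, inferInstance, ⟨GH.L2Aut.Rep.ofEquiv (GH.L2Aut.two_ne_zero_of_odd h1) e⟩⟩

/-- **(PU).** A perfect subnormal subgroup `M ≠ 1` of the fixed subgroup of an involutory automorphism of
`PSL(2,F)`, `|F|` odd, is of the same kind. -/
theorem of_fixed {X : Type*} [Group X] (hX : IsL2o X) {α : MulAut X} (h2 : α * α = 1) (h1 : α ≠ 1)
    {M : Subgroup X} (hfix : M ≤ fixed α) (hperf : ⁅M, M⁆ = M) (hne : M ≠ ⊥)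
    (hsub : (M.subgroupOf (fixed α)).IsSubnormal) : IsL2o M := by
  obtain ⟨F, _, _, ⟨R⟩⟩ := hX.rep
  obtain ⟨K, hodd, h5, ⟨RK⟩⟩ := of_fixed_rep R h2 h1 hfix hperf hne hsub
  obtain ⟨e⟩ := nonempty_equiv RK
  have : Fintype K := Fintype.ofFinite K
  exact ⟨K, inferInstance, this, by rwa [← Nat.card_eq_fintype_card],
    by rwa [← Nat.card_eq_fintype_card], ⟨e⟩⟩

variable {G : Type*} [Group G]

/-- **(PU), vertical pump-up.** `D ≅ PSL(2,q)` is `x`-invariant, `K ≤ D` is perfect, nontrivial and subnormal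
in `C_D(x)`. -/
theorem of_le {D K : Subgroup G} {x : G} (hD : IsL2o D) (hx : x * x = 1)
    (hxD : ∀ d ∈ D, x * d * x⁻¹ ∈ D) (hKD : K ≤ D) (hKx : ∀ k ∈ K, k * x = x * k)
    (hperf : ⁅K, K⁆ = K) (hne : K ≠ ⊥)
    (hsub : (K.subgroupOf (D ⊓ centralizer ({x} : Set G))).IsSubnormal) : IsL2o K := by
  have hxi : x⁻¹ = x := inv_eq_of_mul_eq_one_left hx
  have hxD' : ∀ d ∈ D, x⁻¹ * d * x ∈ D := by
    intro d hd
    have := hxD d hd
    rw [hxi] at this ⊢
    exact this
  let α : MulAut D :=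
    { toFun := fun l => ⟨x * l * x⁻¹, hxD l l.2⟩
      invFun := fun l => ⟨x⁻¹ * l * x, hxD' l l.2⟩
      left_inv := fun l => Subtype.ext (by simp only; group)
      right_inv := fun l => Subtype.ext (by simp only; group)
      map_mul' := fun a b => Subtype.ext (by
        show x * ((a : G) * b) * x⁻¹ = x * a * x⁻¹ * (x * b * x⁻¹)
        group) }
  have hα : ∀ l : D, ((α l : D) : G) = x * l * x⁻¹ := fun l => rfl
  have h2 : α * α = 1 := by
    refine MulEquiv.ext fun l => Subtype.ext ?_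
    rw [MulAut.mul_apply, hα, hα]
    calc x * (x * l * x⁻¹) * x⁻¹ = x * x * l * (x * x)⁻¹ := by group
      _ = l := by rw [hx]; group
  have hfix : ∀ l : D, α l = l ↔ (l : G) ∈ centralizer ({x} : Set G) := by
    intro l
    rw [mem_centralizer_singleton_iff]
    constructor
    · intro h
      have := congrArg Subtype.val h
      rw [hα, mul_inv_eq_iff_eq_mul] at this
      exact this.symm
    · intro h
      apply Subtype.ext
      rw [hα, ← h, mul_inv_cancel_right]
  have hMfix : K.subgroupOf D ≤ fixed α := by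
    intro l hl
    rw [mem_fixed, hfix, mem_centralizer_singleton_iff]
    exact hKx l (mem_subgroupOf.1 hl)
  have hMperf : ⁅K.subgroupOf D, K.subgroupOf D⁆ = K.subgroupOf D := by
    apply map_injective D.subtype_injective
    rw [map_commutator, subgroupOf_map_subtype, inf_eq_left.2 hKD, hperf]
  have hMne : K.subgroupOf D ≠ ⊥ := by
    intro h
    rw [subgroupOf_eq_bot] at h
    exact hne (disjoint_self.1 (h.mono_right hKD))
  have hMsub : ((K.subgroupOf D).subgroupOf (fixed α)).IsSubnormal := by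
    let ι : fixed α →* (D ⊓ centralizer ({x} : Set G) : Subgroup G) :=
      { toFun := fun l => ⟨((l : D) : G), ⟨(l : D).2, (hfix _).1 l.2⟩⟩
        map_one' := rfl
        map_mul' := fun _ _ => rfl }
    have h := hsub.comap ι
    have e : (K.subgroupOf (D ⊓ centralizer ({x} : Set G))).comap ι =
        (K.subgroupOf D).subgroupOf (fixed α) := by
      ext l; rfl
    rwa [e] at h
  have eK : ↥(K.subgroupOf D) ≃* ↥K := subgroupOfEquivOfLe hKD
  by_cases h1 : α = 1
  · -- `x` centralizes `D`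
    have hD' : D ⊓ centralizer ({x} : Set G) = D := by
      rw [inf_eq_left]
      intro d hd
      exact (hfix ⟨d, hd⟩).1 (by rw [h1]; rfl)
    rw [hD'] at hsub
    rcases hsub.eq_bot_or_top_of_isSimpleGroup hD.simple with h | h
    · exact absurd h hMne
    · rw [subgroupOf_eq_top] at h
      exact (le_antisymm hKD h) ▸ hD
  · exact (of_fixed hD h2 h1 hMfix hMperf hMne hMsub).of_equiv eK

/-- **(PU), diagonal pump-up.** `D ≅ PSL(2,q)` commutes with `D ^ x`, `K` is a nontrivial subnormal subgroup of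
`C_{D D^x}(x)`. -/
theorem of_diag {D K : Subgroup G} {x : G} (hD : IsL2o D) (hx : x * x = 1)
    (hc : ∀ a ∈ D, ∀ b ∈ D, a * (x * b * x⁻¹) = x * b * x⁻¹ * a)
    (hKD : ∀ k ∈ K, ∃ a ∈ D, ∃ b ∈ D, k = a * (x * b * x⁻¹)) (hKx : ∀ k ∈ K, k * x = x * k)
    (hne : K ≠ ⊥)
    (hsub : ∀ Δ : Subgroup G, (∀ g, g ∈ Δ ↔ ∃ d ∈ D, g = d * (x * d * x⁻¹)) → (K.subgroupOf Δ).IsSubnormal) :
    IsL2o K := by
  have hcen : ∀ a ∈ D, (∀ b ∈ D, a * b = b * a) → a = 1 := by
    intro a ha h
    obtain ⟨F, _, _, ⟨R⟩⟩ := hD.rep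
    have h1 : (⟨a, ha⟩ : D) ∈ Subgroup.center D := by
      rw [Subgroup.mem_center_iff]
      intro m
      exact Subtype.ext (h m m.2).symm
    rw [R.center_eq_bot, mem_bot] at h1
    exact congrArg Subtype.val h1
  have hint : ∀ a ∈ D, ∀ b ∈ D, a = x * b * x⁻¹ → a = 1 := by
    intro a ha b hb h
    apply hcen a ha
    intro c hc'
    rw [h]
    exact (hc c hc' b hb).symm
  let f : D →* G :=
    { toFun := fun d => (d : G) * (x * d * x⁻¹)
      map_one' := by simp
      map_mul' := fun a b => by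
        show (a : G) * b * (x * ((a : G) * b) * x⁻¹) = a * (x * a * x⁻¹) * (b * (x * b * x⁻¹))
        have h := hc b b.2 a a.2
        calc (a : G) * b * (x * ((a : G) * b) * x⁻¹) = a * (b * (x * a * x⁻¹)) * (x * b * x⁻¹) := by group
          _ = a * (x * a * x⁻¹ * b) * (x * b * x⁻¹) := by rw [h]
          _ = a * (x * a * x⁻¹) * (b * (x * b * x⁻¹)) := by group }
  have hf : ∀ d : D, f d = (d : G) * (x * d * x⁻¹) := fun _ => rfl
  have hinj : Function.Injective f := by
    rw [injective_iff_map_eq_one]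
    intro d hd
    rw [hf] at hd
    have h1 : (d : G) = x * (d : G)⁻¹ * x⁻¹ := by
      rw [mul_eq_one_iff_eq_inv] at hd
      calc (d : G) = (x * d * x⁻¹)⁻¹ := hd
        _ = x * (d : G)⁻¹ * x⁻¹ := by group
    exact Subtype.ext (hint d d.2 _ (inv_mem d.2) h1)
  have hrange : ∀ g, g ∈ f.range ↔ ∃ d ∈ D, g = d * (x * d * x⁻¹) := by
    intro g
    constructor
    · rintro ⟨d, rfl⟩
      exact ⟨d, d.2, rfl⟩
    · rintro ⟨d, hd, rfl⟩
      exact ⟨⟨d, hd⟩, rfl⟩
  have hKle : K ≤ f.range := by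
    intro k hk
    obtain ⟨a, ha, b, hb, rfl⟩ := hKD k hk
    have h1 := hKx _ hk
    have h2 : x * (a * (x * b * x⁻¹)) * x⁻¹ = b * (x * a * x⁻¹) := by
      have hxi : x⁻¹ = x := inv_eq_of_mul_eq_one_left hx
      have h3 := hc b hb a ha
      calc x * (a * (x * b * x⁻¹)) * x⁻¹ = x * a * x⁻¹ * (x * x * b * (x * x)⁻¹) := by group
        _ = x * a * x⁻¹ * b := by rw [hx]; group
        _ = b * (x * a * x⁻¹) := h3.symm
    have h4 : b * (x * a * x⁻¹) = a * (x * b * x⁻¹) := by
      rw [← h2, ← h1, mul_inv_cancel_right]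
    -- `a⁻¹ b = x (b a⁻¹) x⁻¹`
    have h5 : a⁻¹ * b = x * (b * a⁻¹) * x⁻¹ := by
      have : a⁻¹ * (b * (x * a * x⁻¹)) = x * b * x⁻¹ := by rw [h4, inv_mul_cancel_left]
      calc a⁻¹ * b = a⁻¹ * (b * (x * a * x⁻¹)) * (x * a * x⁻¹)⁻¹ := by group
        _ = x * b * x⁻¹ * (x * a * x⁻¹)⁻¹ := by rw [this]
        _ = x * (b * a⁻¹) * x⁻¹ := by group
    have h6 := hint _ (mul_mem (inv_mem ha) hb) _ (mul_mem hb (inv_mem ha)) h5
    rw [inv_mul_eq_one] at h6
    rw [hrange]
    exact ⟨a, ha, by rw [← h6]⟩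
  have e : D ≃* f.range := MonoidHom.ofInjective hinj
  have hsimp : IsSimpleGroup f.range := (hD.of_equiv e).simple
  rcases (hsub f.range hrange).eq_bot_or_top_of_isSimpleGroup hsimp with h | h
  · exfalso
    apply hne
    rw [subgroupOf_eq_bot] at h
    exact disjoint_self.1 (h.mono_right hKle)
  · rw [subgroupOf_eq_top] at h
    exact (le_antisymm hKle h) ▸ hD.of_equiv e

end Cfsg.Agent.OddHalf.D6.PumpDown
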