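import Cfsg.Agent.OddHalf.D6.AutFix
import Cfsg.Agent.SignalizersComponents.OddFixed
import Cfsg.Agent.Lib.ThompsonPQ

/-!
# ODD D6: balance of `A₀ = O(C_K(z))` on the components of `C_G(z)` (bb ODD 7030 (2), (3))

`Bal x A`: `x` an involution of `H`, `A` a cyclic group of odd order, centralised by `x`, inverted by an element of
`C_H(x)`, with `[y, v] ∈ A` for all `y, v ∈ C_H(x)`, `y` of odd order.
-/

set_option autoImplicit false

open Subgroup Cfsg Cfsg.Agent.GH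
open Cfsg.Agent.GH.L2Aut (Four)

namespace Cfsg.Agent.OddHalf.D6

/-- `L ≅ PSL(2,F)`, `F` a finite field of odd characteristic. -/
def IsL2 (L : Type*) [Group L] : Prop :=
  ∃ (F : Type) (_ : Field F) (_ : Finite F), Nonempty (L2Aut.Rep F L)

/-- The hypotheses. -/
structure Bal {H : Type*} [Group H] (x : H) (A : Subgroup H) : Prop where
  xx : x * x = 1
  odd : Odd (Nat.card A)
  cyc : ∃ g ∈ A, ∀ a ∈ A, a ∈ zpowers g
  ax : ∀ a ∈ A, a * x = x * a
  inv : ∃ v, v * x = x * v ∧ ∀ a ∈ A, v * a * v⁻¹ = a⁻¹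
  res : ∀ y v, y * x = x * y → v * x = x * v → Odd (orderOf y) → y * v * y⁻¹ * v⁻¹ ∈ A

section gp

variable {H : Type*} [Group H]

/-- an element of odd order is a power of its square -/
theorem mem_of_sq_mem {A : Subgroup H} {y : H} (h : y * y ∈ A) (ho : Odd (orderOf y)) : y ∈ A := by
  obtain ⟨k, hk⟩ := ho
  have h1 : (y * y) ^ (k + 1) = y := by
    rw [← sq, ← pow_mul, show 2 * (k + 1) = orderOf y + 1 by omega, pow_succ, pow_orderOf_eq_one,
      one_mul]
  rw [← h1]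
  exact A.pow_mem h _

theorem eq_one_of_sq {y : H} (h : y * y = 1) (ho : Odd (orderOf y)) : y = 1 := by
  have := mem_of_sq_mem (A := ⊥) (by rw [h]; exact one_mem _) ho
  exact mem_bot.1 this

theorem conj_pow' {x y : H} (n : ℕ) : (x * y * x⁻¹) ^ n = x * y ^ n * x⁻¹ := conj_pow

/-- the automorphism of `L` induced by `h` -/
noncomputable def act (L : Subgroup H) (h : H) (hn : h ∈ normalizer (L : Set H)) : MulAut L :=
  L.normalizerMonoidHom ⟨h, hn⟩

theorem act_apply (L : Subgroup H) (h : H) (hn : h ∈ normalizer (L : Set H)) (l : L) :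
    ((act L h hn l : L) : H) = h * l * h⁻¹ := rfl

theorem act_eq_iff {L : Subgroup H} {h : H} {hn : h ∈ normalizer (L : Set H)} {l : L} :
    act L h hn l = l ↔ h * (l : H) = l * h := by
  rw [← Subtype.coe_inj, act_apply, mul_inv_eq_iff_eq_mul]

theorem act_mul {L : Subgroup H} {h k : H} (hn : h ∈ normalizer (L : Set H))
    (kn : k ∈ normalizer (L : Set H)) : act L h hn * act L k kn = act L (h * k) (mul_mem hn kn) :=
  (map_mul L.normalizerMonoidHom ⟨h, hn⟩ ⟨k, kn⟩).symm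

theorem act_congr {L : Subgroup H} {h k : H} (hn : h ∈ normalizer (L : Set H))
    (kn : k ∈ normalizer (L : Set H)) (e : h = k) : act L h hn = act L k kn := by
  subst e; rfl

theorem act_one_iff {L : Subgroup H} {h : H} (hn : h ∈ normalizer (L : Set H)) :
    act L h hn = 1 ↔ ∀ l ∈ L, h * l = l * h := by
  constructor
  · intro h1 l hl
    have h2 : act L h hn ⟨l, hl⟩ = ⟨l, hl⟩ := by rw [h1]; rfl
    exact act_eq_iff.1 h2
  · intro h1
    ext l
    rw [act_eq_iff.2 (h1 l l.2)]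
    rfl

theorem orderOf_act_dvd {L : Subgroup H} {h : H} (hn : h ∈ normalizer (L : Set H)) :
    orderOf (act L h hn) ∣ orderOf h := by
  have h1 : orderOf (act L h hn) ∣ orderOf (⟨h, hn⟩ : normalizer (L : Set H)) :=
    orderOf_map_dvd L.normalizerMonoidHom _
  rwa [orderOf_mk] at h1

theorem mem_norm_of [Finite H] {L : Subgroup H} {h : H} (h1 : ∀ l ∈ L, h * l * h⁻¹ ∈ L) :
    h ∈ normalizer (L : Set H) := by
  have h3 : L.map (MulAut.conj h).toMonoidHom = L := by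
    apply Subgroup.eq_of_le_of_card_ge
    · rintro _ ⟨s, hs, rfl⟩
      exact h1 s hs
    · rw [card_map_of_injective (MulAut.conj h).injective]
  rw [mem_normalizer_iff]
  intro l
  refine ⟨h1 l, fun h2 => ?_⟩
  rw [← h3] at h2
  obtain ⟨s, hs, hs'⟩ := h2
  have h4 : s = l := by
    change h * s * h⁻¹ = h * l * h⁻¹ at hs'
    exact mul_left_cancel (mul_right_cancel hs')
  rwa [← h4]

theorem isPGroup_zpowers {y : H} (h : ∃ n, y ^ 2 ^ n = 1) : IsPGroup 2 (zpowers y) :=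
  L2Aut.isPGroup_zpowers h

/-- Sylow's theorem in `C(x)` -/
theorem exists_conj_le [Finite H] {x : H} {T P : Subgroup H} (pT : IsPGroup 2 T)
    (hTx : ∀ t ∈ T, t * x = x * t)
    (max : ∀ P : Subgroup H, IsPGroup 2 P → T ≤ P → (∀ y ∈ P, y * x = x * y) → P ≤ T)
    (hP : IsPGroup 2 P) (hPx : ∀ p ∈ P, p * x = x * p) :
    ∃ g, g * x = x * g ∧ ∀ p ∈ P, g * p * g⁻¹ ∈ T := by
  have hmem : ∀ g, g ∈ centralizer ({x} : Set H) ↔ g * x = x * g := fun g =>
    mem_centralizer_singleton_iff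
  have hTC : T ≤ centralizer ({x} : Set H) := fun t ht => (hmem t).2 (hTx t ht)
  have hPC : P ≤ centralizer ({x} : Set H) := fun t ht => (hmem t).2 (hPx t ht)
  obtain ⟨S, hS⟩ := (show IsPGroup 2 (T.subgroupOf (centralizer ({x} : Set H))) from
    pT.comap_subtype).exists_le_sylow
  obtain ⟨Q, hQ⟩ := (show IsPGroup 2 (P.subgroupOf (centralizer ({x} : Set H))) from
    hP.comap_subtype).exists_le_sylow
  have h1 : (S : Subgroup _).map (centralizer ({x} : Set H)).subtype ≤ T := by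
    refine max _ (S.2.map _) ?_ ?_
    · intro t ht
      exact ⟨⟨t, hTC ht⟩, hS ht, rfl⟩
    · rintro _ ⟨y, -, rfl⟩
      exact (hmem y).1 y.2
  obtain ⟨g, hg⟩ := MulAction.exists_smul_eq (centralizer ({x} : Set H)) Q S
  refine ⟨g, (hmem g).1 g.2, fun p hp => ?_⟩
  have h2 : (⟨p, hPC hp⟩ : centralizer ({x} : Set H)) ∈ Q := hQ hp
  exact h1 ⟨g * ⟨p, hPC hp⟩ * g⁻¹, L2Aut.conj_mem_syl hg h2, rfl⟩

end gp

open scoped Pointwise

theorem smul_mem_iff {H : Type*} [Group H] [Finite H] {L : Subgroup H} {h : H} :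
    MulAut.conj h • L = L ↔ ∀ l ∈ L, h * l * h⁻¹ ∈ L := by
  constructor
  · intro h1 l hl
    rw [← h1]
    exact SignalizersComponents.OddFixed.conj_mem_smul h hl
  · intro h1
    apply Subgroup.eq_of_le_of_card_ge
    · rintro _ ⟨s, hs, rfl⟩
      exact h1 s hs
    · exact (Nat.card_congr (Subgroup.equivSMul (MulAut.conj h) L).toEquiv).le

/-- conjugates of elements of a component by a non normalising element commute with it -/
theorem comm_of_not {H : Type*} [Group H] [Finite H] {L : Subgroup H} (hL : IsComponent L) {h : H}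
    (hn : ¬ ∀ l ∈ L, h * l * h⁻¹ ∈ L) {a b : H} (ha : a ∈ L) (hb : b ∈ L) :
    h * a * h⁻¹ * b = b * (h * a * h⁻¹) := by
  have h1 : MulAut.conj h • L ≠ L := fun h2 => hn (smul_mem_iff.1 h2)
  exact SignalizersComponents.OddFixed.commute_of_ne
    (SignalizersComponents.OddFixed.isComponent_smul _ hL) hL h1
    (SignalizersComponents.OddFixed.conj_mem_smul h ha) hb

namespace Bal

variable {H : Type*} [Group H] {x : H} {A : Subgroup H} (B : Bal x A)

include B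

theorem ab : ∀ a ∈ A, ∀ b ∈ A, a * b = b * a := by
  obtain ⟨g, -, hg⟩ := B.cyc
  intro a ha b hb
  obtain ⟨i, rfl⟩ := mem_zpowers_iff.1 (hg a ha)
  obtain ⟨j, rfl⟩ := mem_zpowers_iff.1 (hg b hb)
  rw [← zpow_add, ← zpow_add, add_comm]

theorem odd_order [Finite H] {a : H} (ha : a ∈ A) : Odd (orderOf a) := by
  have h1 := orderOf_dvd_natCard (⟨a, ha⟩ : A)
  rw [orderOf_mk] at h1
  exact Odd.of_dvd_nat B.odd h1

theorem one_of_sq [Finite H] {a : H} (ha : a ∈ A) (h : a * a = 1) : a = 1 :=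
  eq_one_of_sq h (B.odd_order ha)

theorem norm [Finite H] {a h : H} (ha : a ∈ A) (hh : h * x = x * h) : h * a * h⁻¹ ∈ A := by
  have h1 := B.res a h (B.ax a ha) hh (B.odd_order ha)
  have h2 := A.mul_mem (A.inv_mem ha) h1
  have h3 : a⁻¹ * (a * h * a⁻¹ * h⁻¹) = (h * a * h⁻¹)⁻¹ := by group
  rw [h3] at h2
  exact (A.inv_mem_iff).1 h2

theorem comm_mem [Finite H] {a h : H} (ha : a ∈ A) (hh : h * x = x * h) :
    a * h * a⁻¹ * h⁻¹ ∈ A := B.res a h (B.ax a ha) hh (B.odd_order ha)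

/-- no `A₄` in `C(x)` -/
theorem no_four [Finite H] {a b y : H} (hy : y * x = x * y) (ha : a * x = x * a)
    (hyo : y * y * y = 1) (hab : y * a * y⁻¹ = b) (haa : a * a = 1) (hbb : b * b = 1)
    (hc : a * b = b * a) : a = b := by
  have h1 : Odd (orderOf y) := by
    have h2 : orderOf y ∣ 3 := orderOf_dvd_of_pow_eq_one (by rw [pow_succ, sq, hyo])
    exact Odd.of_dvd_nat (by decide) h2
  have h2 := B.res y a hy ha h1
  rw [hab] at h2
  have ha' : a⁻¹ = a := inv_eq_of_mul_eq_one_left haa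
  rw [ha'] at h2
  have h3 := B.one_of_sq h2 (by
    rw [mul_assoc, ← mul_assoc a, hc, mul_assoc, haa, mul_one, hbb])
  have h4 := congrArg (· * a) h3
  simp only [mul_assoc, haa, mul_one, one_mul] at h4
  exact h4.symm

variable [Finite H] {L : Subgroup H}

omit B [Finite H] in
theorem eq_one_of_central {F : Type*} [Field F] [Finite F] {L : Subgroup H} (R : L2Aut.Rep F L) {l : H} (hl : l ∈ L)
    (h : ∀ m ∈ L, l * m = m * l) : l = 1 := by
  have h1 : (⟨l, hl⟩ : L) ∈ center L := by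
    rw [mem_center_iff]
    intro m
    exact Subtype.ext (h m m.2).symm
  rw [R.center_eq_bot, mem_bot] at h1
  exact congrArg Subtype.val h1

/-- `x` normalises every component -/
theorem norm_comp {F : Type*} [Field F] [Finite F] (R : L2Aut.Rep F L) (hL : IsComponent L) :
    ∀ l ∈ L, x * l * x⁻¹ ∈ L := by
  by_contra hn
  obtain ⟨a, b, hab⟩ := R.exists_four
  obtain ⟨-, y, -, -, -, -, -, hyy, -, hya, -, -, -, -, -, -, -, -⟩ := R.exists_frame hab
  have hxi : x⁻¹ = x := inv_eq_of_mul_eq_one_left B.xx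
  have hc : ∀ a b : L, x * (a : H) * x * b = b * (x * a * x) := by
    intro a b
    have := comm_of_not hL hn a.2 b.2
    rwa [hxi] at this
  -- the diagonal elements
  have hd : ∀ a : L, ((a : H) * (x * a * x)) * x = x * ((a : H) * (x * a * x)) := by
    intro a
    calc ((a : H) * (x * a * x)) * x = a * (x * a) * (x * x) := by simp only [mul_assoc]
      _ = a * (x * a) := by rw [B.xx, mul_one]
      _ = a * (x * a * x) * x := by simp only [mul_assoc, B.xx, mul_one]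
      _ = x * a * x * a * x := by rw [← hc a a]
      _ = _ := by simp only [mul_assoc]
  have hxx : ∀ w : H, x * (x * w) = w := fun w => by rw [← mul_assoc, B.xx, one_mul]
  have hmul : ∀ a b : L, (a : H) * (x * a * x) * (b * (x * b * x)) =
      ((a * b : L) : H) * (x * (a * b : L) * x) := by
    intro a b
    rw [Subgroup.coe_mul]
    calc (a : H) * (x * a * x) * (b * (x * b * x)) = a * ((x * a * x) * b) * (x * b * x) := by
          simp only [mul_assoc]
      _ = a * (b * (x * a * x)) * (x * b * x) := by rw [hc]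
      _ = _ := by simp only [mul_assoc, hxx]
  have hone : ((1 : L) : H) * (x * (1 : L) * x) = 1 := by
    rw [Subgroup.coe_one, mul_one, one_mul, B.xx]
  have h1 := B.no_four (a := (a : H) * (x * a * x)) (b := (b : H) * (x * b * x))
    (y := (y : H) * (x * y * x)) (hd y) (hd a)
    (by rw [hmul, hmul, hyy, hone])
    (by
      rw [mul_inv_eq_iff_eq_mul, hmul, hmul]
      have : y * a = b * y := by rw [← hya, inv_mul_cancel_right]
      rw [this])
    (by rw [hmul, hab.aa, hone]) (by rw [hmul, hab.bb, hone])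
    (by rw [hmul, hmul, hab.comm])
  -- `a b ∈ L ∩ L^x`
  have h2 : ((b⁻¹ * a : L) : H) = x * (b * a⁻¹ : L) * x := by
    have h3 : (b : H)⁻¹ * (a * (x * a * x)) = x * b * x := by
      rw [h1, inv_mul_cancel_left]
    have h4 : (b : H)⁻¹ * a = x * b * x * (x * a * x)⁻¹ := by
      rw [← h3]; group
    rw [Subgroup.coe_mul, Subgroup.coe_inv, h4, Subgroup.coe_mul, Subgroup.coe_inv, mul_inv_rev,
      mul_inv_rev, hxi]
    simp only [mul_assoc, hxx]
  have h3 : ((b⁻¹ * a : L) : H) = 1 := by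
    refine eq_one_of_central R (b⁻¹ * a : L).2 fun m hm => ?_
    rw [h2]
    exact hc (b * a⁻¹) ⟨m, hm⟩
  have h4 : b⁻¹ * a = 1 := Subtype.ext h3
  exact hab.ne (inv_mul_eq_one.1 h4).symm

theorem x_norm {F : Type*} [Field F] [Finite F] (R : L2Aut.Rep F L) (hL : IsComponent L) :
    x ∈ normalizer (L : Set H) := mem_norm_of (B.norm_comp R hL)

/-- the action of `x` on a component: an involution of `PGL(2,F)` -/
theorem act_x {F : Type*} [Field F] [Finite F] (R : L2Aut.Rep F L)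
    (hx : x ∈ normalizer (L : Set H)) :
    act L x hx * act L x hx = 1 ∧ act L x hx ≠ 1 ∧ act L x hx ∈ R.PGL := by
  have hcx : ∀ l : L, act L x hx l = l → (l : H) * x = x * l := fun l h => (act_eq_iff.1 h).symm
  have h1 : act L x hx * act L x hx = 1 := by
    rw [act_mul, act_one_iff]
    intro l _
    rw [B.xx, one_mul, mul_one]
  have key : ∀ a b y : L, Four a b → act L x hx a = a → act L x hx y = y →
      y * y * y = 1 → y * a * y⁻¹ = b → False := by
    intro a b y hab ha hy hyy hya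
    apply hab.ne
    apply Subtype.ext
    exact B.no_four (hcx y hy) (hcx a ha) (congrArg Subtype.val hyy) (congrArg Subtype.val hya)
      (congrArg Subtype.val hab.aa) (congrArg Subtype.val hab.bb) (congrArg Subtype.val hab.comm)
  refine ⟨h1, ?_, ?_⟩
  · intro h2
    obtain ⟨a, b, hab⟩ := R.exists_four
    obtain ⟨-, y, -, -, -, -, -, hyy, -, hya, -⟩ := R.exists_frame hab
    exact key a b y hab (by rw [h2]; rfl) (by rw [h2]; rfl) hyy hya
  · by_contra h2
    obtain ⟨a, b, y, hab, ha, -, hy, hyy, hya⟩ := R.field_four h2 h1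
    exact key a b y hab ha hy hyy hya

/-- the elements of odd order of `C_L(x)` are in `A`; the structure of `C_L(x)` -/
theorem cent_data {F : Type*} [Field F] [Finite F] (R : L2Aut.Rep F L)
    (hx : x ∈ normalizer (L : Set H)) :
    ∃ (C : Subgroup L) (v : L), (∀ y ∈ C, (y : H) * x = x * y) ∧ (∀ y ∈ C, ∀ w ∈ C, y * w = w * y) ∧
      (∀ y ∈ C, y * y = 1 → y = 1 ∨ MulAut.conj y = act L x hx) ∧
      (∀ y : L, (y : H) * x = x * y → y ∈ C ∨ (y * y = 1 ∧ ∀ w ∈ C, y * w * y⁻¹ = w⁻¹)) ∧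
      (∀ y w : L, (y : H) * x = x * y → (w : H) * x = x * w → y ∉ C → w ∉ C → y * w ∈ C) ∧
      (v : H) * x = x * v ∧ v * v = 1 ∧ v ∉ C ∧
      (∀ y : L, (y : H) * x = x * y → Odd (orderOf (y : H)) → y ∈ C ∧ (y : H) ∈ A) := by
  obtain ⟨h1, h2, h3⟩ := B.act_x R hx
  obtain ⟨C, v, c1, c2, c3, c4, c5, c6, c7, c8⟩ := R.cent_data h3 h2 h1
  have hcx : ∀ l : L, act L x hx l = l ↔ (l : H) * x = x * l := fun l =>
    act_eq_iff.trans eq_comm
  refine ⟨C, v, fun y hy => (hcx y).1 (c1 y hy), c2, c3, fun y hy => c4 y ((hcx y).2 hy),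
    fun y w hy hw => c5 y w ((hcx y).2 hy) ((hcx w).2 hw), (hcx v).1 c6, c7, c8, ?_⟩
  intro y hy ho
  have hyC : y ∈ C := by
    rcases c4 y ((hcx y).2 hy) with h | ⟨h, -⟩
    · exact h
    · have h4 : (y : H) = 1 := eq_one_of_sq (congrArg Subtype.val h) ho
      have h5 : y = 1 := Subtype.ext h4
      rw [h5]; exact one_mem _
  refine ⟨hyC, mem_of_sq_mem ?_ ho⟩
  have h4 := B.res y v hy ((hcx v).1 c6) ho
  have h5 : v * y⁻¹ * v⁻¹ = y := by
    rcases c4 v c6 with h | ⟨-, h⟩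
    · exact absurd h c8
    · rw [h _ (C.inv_mem hyC), inv_inv]
  have h6 : (v : H) * (y : H)⁻¹ * (v : H)⁻¹ = y := congrArg Subtype.val h5
  have h7 : (y : H) * v * (y : H)⁻¹ * (v : H)⁻¹ = y * (v * (y : H)⁻¹ * (v : H)⁻¹) := by
    simp only [mul_assoc]
  rw [h7, h6] at h4
  exact h4

/-- `A` normalises every component -/
theorem A_norm {F : Type*} [Field F] [Finite F] (R : L2Aut.Rep F L) (hL : IsComponent L) {a : H}
    (ha : a ∈ A) : ∀ l ∈ L, a * l * a⁻¹ ∈ L := by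
  by_contra hn
  have hx := B.x_norm R hL
  obtain ⟨C, v, -, -, -, -, -, c6, c7, c8, -⟩ := B.cent_data R hx
  have h1 := B.comm_mem ha c6
  have hvv : (v : H) * v = 1 := congrArg Subtype.val c7
  have hvi : (v : H)⁻¹ = v := inv_eq_of_mul_eq_one_left hvv
  have h2 := comm_of_not hL hn v.2 v.2
  have h3 : a * v * a⁻¹ * (v : H)⁻¹ = 1 := by
    refine B.one_of_sq h1 ?_
    rw [hvi]
    calc a * v * a⁻¹ * v * (a * v * a⁻¹ * v) = a * v * a⁻¹ * (v * (a * v * a⁻¹)) * v := by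
          simp only [mul_assoc]
      _ = a * v * a⁻¹ * (a * v * a⁻¹ * v) * v := by rw [h2]
      _ = a * (v * v) * a⁻¹ * (v * v) := by group
      _ = 1 := by rw [hvv]; group
  have h4 : a * v * a⁻¹ = v := by rwa [mul_inv_eq_one] at h3
  have h5 : (v : H) = 1 := by
    refine eq_one_of_central R v.2 fun m hm => ?_
    have := comm_of_not hL hn v.2 hm
    rwa [h4] at this
  apply c8
  rw [show v = 1 from Subtype.ext h5]
  exact one_mem _

/-- `A = (A ⊓ L) C_A(L)` -/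
theorem decomp {F : Type*} [Field F] [Finite F] (R : L2Aut.Rep F L) (hL : IsComponent L) {a : H}
    (ha : a ∈ A) : ∃ b ∈ A, b ∈ L ∧ ∀ l ∈ L, b⁻¹ * a * l = l * (b⁻¹ * a) := by
  have hx := B.x_norm R hL
  obtain ⟨h1, h2, h3⟩ := B.act_x R hx
  obtain ⟨C, v, c1, c2, -, c4, c5, c6, c7, c8, c9⟩ := B.cent_data R hx
  have hcx : ∀ l : L, act L x hx l = l ↔ (l : H) * x = x * l := fun l =>
    act_eq_iff.trans eq_comm
  have hvC : ∀ w ∈ C, v * w * v⁻¹ = w⁻¹ := by
    rcases c4 v c6 with h | ⟨-, h⟩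
    · exact absurd h c8
    · exact h
  -- commutators of elements of `A` with elements of `C_L(x)`
  have hcom : ∀ a ∈ A, ∀ y : L, (y : H) * x = x * y → a * y * a⁻¹ * (y : H)⁻¹ ∈ A ∧
      a * y * a⁻¹ * (y : H)⁻¹ ∈ L := by
    intro a ha y hy
    exact ⟨B.comm_mem ha hy, L.mul_mem (B.A_norm R hL ha y y.2) (L.inv_mem y.2)⟩
  obtain ⟨hcA, hcL⟩ := hcom a ha v c6
  -- the square root
  obtain ⟨b, hb, hbA, hbL⟩ : ∃ b, b * b = a * v * a⁻¹ * (v : H)⁻¹ ∧ b ∈ A ∧ b ∈ L := by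
    obtain ⟨k, hk⟩ := B.odd_order hcA
    refine ⟨(a * v * a⁻¹ * (v : H)⁻¹) ^ (k + 1), ?_, A.pow_mem hcA _, L.pow_mem hcL _⟩
    rw [← pow_add, show k + 1 + (k + 1) = (2 * k + 1) + 1 by omega, ← hk, pow_succ,
      pow_orderOf_eq_one, one_mul]
  refine ⟨b, hbA, hbL, ?_⟩
  have hbx : (((⟨b, hbL⟩ : L) : L) : H) * x = x * (⟨b, hbL⟩ : L) := B.ax b hbA
  have hbC : (⟨b, hbL⟩ : L) ∈ C := (c9 _ hbx (B.odd_order hbA)).1
  have hvb : (v : H) * b = b⁻¹ * v := by
    have h4 := congrArg Subtype.val (hvC _ hbC)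
    change (v : H) * b * (v : H)⁻¹ = b⁻¹ at h4
    rw [← h4, inv_mul_cancel_right]
  obtain ⟨a', ha'⟩ : ∃ a', a' = b⁻¹ * a := ⟨_, rfl⟩
  rw [← ha']
  have ha'A : a' ∈ A := by rw [ha']; exact A.mul_mem (A.inv_mem hbA) ha
  have ha'v : a' * v = v * a' := by
    have h4 : a * v = b * b * v * a := by rw [hb]; group
    rw [ha']
    calc b⁻¹ * a * v = b⁻¹ * (a * v) := by rw [mul_assoc]
      _ = b * v * a := by rw [h4]; group
      _ = v * b⁻¹ * a := by
        congr 1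
        have h5 : (v : H) * b⁻¹ = b * v := by
          calc (v : H) * b⁻¹ = b * (b⁻¹ * v) * b⁻¹ := by group
            _ = b * (v * b) * b⁻¹ := by rw [hvb]
            _ = b * v := by group
        rw [h5]
      _ = v * (b⁻¹ * a) := by rw [mul_assoc]
  -- `a'` centralises `C_L(x)`
  have hC : ∀ y ∈ C, a' * (y : H) = y * a' := by
    intro y hy
    obtain ⟨hcA', hcL'⟩ := hcom a' ha'A y (c1 y hy)
    obtain ⟨c, hc⟩ : ∃ c, c = a' * y * a'⁻¹ * (y : H)⁻¹ := ⟨_, rfl⟩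
    rw [← hc] at hcA' hcL'
    have hcC : (⟨c, hcL'⟩ : L) ∈ C := (c9 _ (B.ax c hcA') (B.odd_order hcA')).1
    have hcy : c * (y : H) = y * c := congrArg Subtype.val (c2 _ hcC y hy)
    have hay : a' * y * a'⁻¹ = c * y := by rw [hc]; group
    -- the odd part of `y`
    obtain ⟨k, m, hm, hkm⟩ := Nat.exists_eq_two_pow_mul_odd (orderOf_pos (y : H)).ne'
    have hodd : Odd (orderOf ((y : H) ^ 2 ^ k)) := by
      rw [orderOf_pow, hkm]
      have : Nat.gcd (2 ^ k * m) (2 ^ k) = 2 ^ k := Nat.gcd_eq_right (Dvd.intro _ rfl)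
      rw [this, Nat.mul_div_cancel_left _ (by positivity)]
      exact hm
    have hyk : (y : H) ^ 2 ^ k ∈ A := by
      have h4 := (c9 (y ^ 2 ^ k) (c1 _ (C.pow_mem hy _)) (by
        rw [Subgroup.coe_pow]; exact hodd)).2
      rwa [Subgroup.coe_pow] at h4
    have h5 : a' * (y : H) ^ 2 ^ k * a'⁻¹ = (c * y) ^ 2 ^ k := by
      rw [← hay, conj_pow]
    have h6 : a' * (y : H) ^ 2 ^ k * a'⁻¹ = (y : H) ^ 2 ^ k := by
      rw [B.ab a' ha'A _ hyk, mul_inv_cancel_right]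
    have h7 : c ^ 2 ^ k = 1 := by
      rw [h6, (show Commute c (y : H) from hcy).mul_pow] at h5
      exact mul_eq_right.1 h5.symm
    have h8 : c = 1 := by
      have h9 : orderOf c ∣ 2 ^ k := orderOf_dvd_of_pow_eq_one h7
      have h10 : Nat.Coprime (orderOf c) (2 ^ k) :=
        Nat.Coprime.pow_right k (Nat.coprime_two_right.2 (B.odd_order hcA'))
      have h11 := Nat.Coprime.eq_one_of_dvd h10 h9
      exact orderOf_eq_one_iff.1 h11
    rw [h8, one_mul] at hay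
    exact mul_inv_eq_iff_eq_mul.1 hay
  have hCL : ∀ y : L, (y : H) * x = x * y → a' * (y : H) = y * a' := by
    intro y hy
    by_cases h : y ∈ C
    · exact hC y h
    · have h4 := hC _ (c5 y v hy c6 h c8)
      rw [Subgroup.coe_mul, ← mul_assoc] at h4
      calc a' * (y : H) = a' * y * v * (v : H)⁻¹ := by group
        _ = y * v * a' * (v : H)⁻¹ := by rw [h4]
        _ = y * (v * a') * (v : H)⁻¹ := by group
        _ = y * (a' * v) * (v : H)⁻¹ := by rw [ha'v]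
        _ = y * a' := by group
  have ha'n : a' ∈ normalizer (L : Set H) := mem_norm_of (B.A_norm R hL ha'A)
  have h4 : act L a' ha'n = 1 := by
    refine R.eq_one_of_fix h3 h2 h1 ?_ ?_ ?_
    · exact Odd.of_dvd_nat (B.odd_order ha'A) (orderOf_act_dvd ha'n)
    · rw [act_mul, act_mul]
      exact act_congr _ _ (B.ax a' ha'A)
    · intro y hy
      exact act_eq_iff.2 (hCL y ((hcx y).1 hy))
  exact (act_one_iff ha'n).1 h4

/-- `A` centralises `O₂(H)` -/
theorem comm_core {a u : H} (ha : a ∈ A) (hu : u ∈ pCore 2 H) : a * u = u * a := by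
  have : Fact (Nat.Prime 2) := ⟨Nat.prime_two⟩
  have hP : IsPGroup 2 (pCore 2 H) := Cfsg.Agent.Lib.Cores.pCore_isPGroup 2
  have hPn : (pCore 2 H).Normal := Cfsg.Agent.Lib.Cores.pCore_normal 2
  have hcop : (Nat.card A).Coprime 2 := Nat.coprime_two_right.2 B.odd
  have key : A ≤ centralizer ((pCore 2 H : Subgroup H) : Set H) := by
    refine Cfsg.Agent.Lib.ThompsonPQ.thompson_p_times_q 2 (zpowers x) A (pCore 2 H) ?_ hcop hP ?_ ?_ ?_ ?_
    · rintro ⟨y, k, rfl⟩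
      refine ⟨1, ?_⟩
      apply Subtype.ext
      change (x ^ k) ^ (2 ^ 1) = 1
      rw [pow_one, ← zpow_natCast, ← zpow_mul, mul_comm, zpow_mul, zpow_natCast, pow_two, B.xx,
        one_zpow]
    · rw [zpowers_le, mem_centralizer_iff]
      intro a ha
      exact B.ax a ha
    · rw [normalizer_eq_top]; exact le_top
    · rw [normalizer_eq_top]; exact le_top
    · rintro y ⟨hyP, hyx⟩
      rw [mem_centralizer_iff]
      intro w hw
      have hy : y * x = x * y := (mem_centralizer_iff.1 hyx x (mem_zpowers x)).symm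
      have h1 := B.comm_mem hw hy
      have h2 : w * y * w⁻¹ * y⁻¹ ∈ pCore 2 H :=
        (pCore 2 H).mul_mem (hPn.conj_mem y hyP w) ((pCore 2 H).inv_mem hyP)
      obtain ⟨n, hn⟩ := hP ⟨_, h2⟩
      have h3 := SignalizersComponents.OddFixed.eq_one_of_mem_of_pow hcop h1 (congrArg Subtype.val hn)
      rw [mul_inv_eq_one, mul_inv_eq_iff_eq_mul] at h3
      exact h3
  exact (mem_centralizer_iff.1 (key ha) u hu).symm

/-- an element of `A` centralising all components is trivial -/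
theorem eq_one_of_comm (hO : oddCore H = ⊥) {a : H} (ha : a ∈ A)
    (h : ∀ L : Subgroup H, IsComponent L → ∀ l ∈ L, a * l = l * a) : a = 1 := by
  have h1 : zpowers a = ⊥ := by
    have hle : zpowers a ≤ A := by rw [zpowers_le]; exact ha
    refine SignalizersComponents.OddFixed.eq_bot_of_centralizes hO ?_ ?_ ?_
    · exact Nat.coprime_two_right.2 (Odd.of_dvd_nat B.odd (card_dvd_of_le hle))
    · intro y hy u hu
      exact B.comm_core (hle hy) hu
    · intro L hL y hy e he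
      obtain ⟨k, rfl⟩ := mem_zpowers_iff.1 hy
      exact (show Commute a e from h L hL e he).zpow_left k
  exact zpowers_eq_bot.1 h1

/-- some component meets `A` -/
theorem exists_comp (hO : oddCore H = ⊥) (hW : ∀ L : Subgroup H, IsComponent L → IsL2 L)
    (hA : A ≠ ⊥) : ∃ L : Subgroup H, IsComponent L ∧ ∃ a ∈ A, a ∈ L ∧ a ≠ 1 := by
  by_contra hcon
  push Not at hcon
  apply hA
  rw [eq_bot_iff]
  intro a ha
  rw [mem_bot]
  refine B.eq_one_of_comm hO ha fun L hL => ?_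
  obtain ⟨F, _, _, ⟨R⟩⟩ := hW L hL
  obtain ⟨b, hbA, hbL, hb⟩ := B.decomp R hL ha
  have h1 := hcon L hL b hbA hbL
  rw [h1, inv_one, one_mul] at hb
  exact hb

/-- if only one component meets `A`, it contains `A` -/
theorem le_of_unique (hO : oddCore H = ⊥) (hW : ∀ L : Subgroup H, IsComponent L → IsL2 L)
    (hL : IsComponent L) (hu : ∀ M : Subgroup H, IsComponent M → (∃ a ∈ A, a ∈ M ∧ a ≠ 1) → M = L) :
    A ≤ L := by
  intro a ha
  obtain ⟨F, _, _, ⟨R⟩⟩ := hW L hL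
  obtain ⟨b, hbA, hbL, hb⟩ := B.decomp R hL ha
  have hcA : b⁻¹ * a ∈ A := A.mul_mem (A.inv_mem hbA) ha
  have h1 : b⁻¹ * a = 1 := by
    refine B.eq_one_of_comm hO hcA fun M hM => ?_
    by_cases hML : M = L
    · rw [hML]; exact hb
    · obtain ⟨F', _, _, ⟨R'⟩⟩ := hW M hM
      obtain ⟨c, hcA', hcM, hc⟩ := B.decomp R' hM hcA
      have h2 : c = 1 := by
        by_contra hc1
        exact hML (hu M hM ⟨c, hcA', hcM, hc1⟩)
      rw [h2, inv_one, one_mul] at hc
      exact hc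
  rw [← inv_mul_eq_one.1 h1]
  exact hbL

omit [Finite H] in
/-- `C_H(x)` normalises the subgroups of `A` -/
theorem conj_mem_zpowers [Finite H] {a h : H} (ha : a ∈ A) (hh : h * x = x * h) :
    h * a * h⁻¹ ∈ zpowers a := by
  obtain ⟨g, hg, hgen⟩ := B.cyc
  obtain ⟨k, hk⟩ := mem_zpowers_iff.1 (hgen _ (B.norm hg hh))
  obtain ⟨m, rfl⟩ := mem_zpowers_iff.1 (hgen _ ha)
  rw [← conj_zpow, ← hk]
  exact mem_zpowers_iff.2 ⟨k, by rw [← zpow_mul, ← zpow_mul, mul_comm]⟩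

/-- `C_H(x)` normalises a component meeting `A` -/
theorem norm_of_mem {F : Type*} [Field F] [Finite F] (R : L2Aut.Rep F L) (hL : IsComponent L)
    {a : H} (ha : a ∈ A) (haL : a ∈ L) (ha1 : a ≠ 1) {h : H} (hh : h * x = x * h) :
    ∀ l ∈ L, h * l * h⁻¹ ∈ L := by
  by_contra hn
  apply ha1
  have h1 := B.conj_mem_zpowers ha hh
  have h2 := B.conj_mem_zpowers ha (h := h⁻¹) (by
    rw [inv_mul_eq_iff_eq_mul, ← mul_assoc, hh, mul_inv_cancel_right])
  -- `a` is a power of `h a h⁻¹`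
  obtain ⟨k, hk⟩ := mem_zpowers_iff.1 h2
  have h3 : a = (h * a * h⁻¹) ^ k := by
    rw [conj_zpow, hk]; group
  refine eq_one_of_central R haL fun m hm => ?_
  have h4 : Commute (h * a * h⁻¹) m := comm_of_not hL hn haL hm
  rw [h3]
  exact (h4.zpow_left k).eq

/-- type (a): `x` induces the inner automorphism of `w`; then `w` is central in `C_H(x)` -/
theorem inner_central {F : Type*} [Field F] [Finite F] (R : L2Aut.Rep F L) (hL : IsComponent L)
    {a : H} (ha : a ∈ A) (haL : a ∈ L) (ha1 : a ≠ 1) {w : H} (hw : w ∈ L)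
    (hxw : ∀ l ∈ L, x * l * x⁻¹ = w * l * w⁻¹) {h : H} (hh : h * x = x * h) : h * w = w * h := by
  have hn := B.norm_of_mem R hL ha haL ha1 hh
  have hn' := B.norm_of_mem R hL ha haL ha1 (h := h⁻¹) (by
    rw [inv_mul_eq_iff_eq_mul, ← mul_assoc, hh, mul_inv_cancel_right])
  rw [inv_inv] at hn'
  have h1 : w⁻¹ * (h * w * h⁻¹) = 1 := by
    refine eq_one_of_central R (L.mul_mem (L.inv_mem hw) (hn w hw)) fun m hm => ?_
    have h2 : h * w * h⁻¹ * m * (h * w * h⁻¹)⁻¹ = w * m * w⁻¹ := by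
      rw [← hxw m hm]
      calc h * w * h⁻¹ * m * (h * w * h⁻¹)⁻¹ = h * (w * (h⁻¹ * m * h) * w⁻¹) * h⁻¹ := by group
        _ = h * (x * (h⁻¹ * m * h) * x⁻¹) * h⁻¹ := by rw [hxw _ (hn' m hm)]
        _ = (h * x) * h⁻¹ * m * h * (h * x)⁻¹ := by group
        _ = (x * h) * h⁻¹ * m * h * (x * h)⁻¹ := by rw [hh]
        _ = x * m * x⁻¹ := by group
    calc w⁻¹ * (h * w * h⁻¹) * m = w⁻¹ * (h * w * h⁻¹ * m * (h * w * h⁻¹)⁻¹) * (h * w * h⁻¹) := by group
      _ = w⁻¹ * (w * m * w⁻¹) * (h * w * h⁻¹) := by rw [h2]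
      _ = m * (w⁻¹ * (h * w * h⁻¹)) := by group
  have h2 := inv_mul_eq_one.1 h1
  rw [eq_mul_inv_iff_mul_eq] at h2
  exact h2.symm

/-- the two types of the action of `x` on a component -/
theorem types {F : Type*} [Field F] [Finite F] (R : L2Aut.Rep F L)
    (hx : x ∈ normalizer (L : Set H)) :
    (∃ w ∈ L, w ≠ 1 ∧ w * w = 1 ∧ (∀ l ∈ L, x * l * x⁻¹ = w * l * w⁻¹)) ∨
      (act L x hx ∈ R.PGL ∧ act L x hx ∉ L2Aut.Inn L) := by
  obtain ⟨h1, h2, h3⟩ := B.act_x R hx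
  by_cases h4 : act L x hx ∈ L2Aut.Inn L
  · left
    obtain ⟨w, hww, hw⟩ := R.inn_inv h4 h1
    refine ⟨w, w.2, ?_, congrArg Subtype.val hww, ?_⟩
    · intro h5
      have h6 : w = 1 := Subtype.ext h5
      rw [h6, map_one] at hw
      exact h2 hw
    · intro l hl
      have h5 : act L x hx ⟨l, hl⟩ = w * ⟨l, hl⟩ * w⁻¹ := by rw [hw]; rfl
      exact congrArg Subtype.val h5
  · exact Or.inr ⟨h3, h4⟩

/-- type (b): involutions of `C_L(x)` commuting with each other are equal and invert `A ∩ L` -/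
theorem outer_data {F : Type*} [Field F] [Finite F] (R : L2Aut.Rep F L)
    (hx : x ∈ normalizer (L : Set H)) (hb : act L x hx ∉ L2Aut.Inn L) :
    (∀ u ∈ L, u * x = x * u → u * u = 1 → u ≠ 1 → ∀ a ∈ A, a ∈ L → u * a * u⁻¹ = a⁻¹) ∧
      (∀ u ∈ L, ∀ w ∈ L, u * x = x * u → w * x = x * w → u * u = 1 → w * w = 1 → u ≠ 1 → w ≠ 1 →
        u * w = w * u → u = w) ∧
      (∃ u ∈ L, u * x = x * u ∧ u * u = 1 ∧ u ≠ 1) ∧
      (∀ u ∈ L, u * x = x * u → ∀ n : ℕ, u ^ 2 ^ n = 1 → u * u = 1) := by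
  obtain ⟨h1, h2, h3⟩ := B.act_x R hx
  obtain ⟨C, v, c1, c2, c3, c4, c5, c6, c7, c8, c9⟩ := B.cent_data R hx
  have hC1 : ∀ y ∈ C, y * y = 1 → y = 1 := by
    intro y hy hyy
    rcases c3 y hy hyy with h | h
    · exact h
    · exact absurd ⟨y, h⟩ hb
  have hinv : ∀ y : L, (y : H) * x = x * y → y * y = 1 → y ≠ 1 → y ∉ C := fun y _ hyy hy1 hyC =>
    hy1 (hC1 y hyC hyy)
  refine ⟨?_, ?_, ⟨v, v.2, c6, congrArg Subtype.val c7, ?_⟩, ?_⟩
  · intro u hu hux huu hu1 a ha haL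
    have hyC : (⟨u, hu⟩ : L) ∉ C := hinv ⟨u, hu⟩ hux (Subtype.ext huu) fun h =>
      hu1 (congrArg Subtype.val h)
    have haC : (⟨a, haL⟩ : L) ∈ C := (c9 ⟨a, haL⟩ (B.ax a ha) (B.odd_order ha)).1
    rcases c4 ⟨u, hu⟩ hux with h | ⟨-, h⟩
    · exact absurd h hyC
    · exact congrArg Subtype.val (h _ haC)
  · intro u hu w hw hux hwx huu hww hu1 hw1 hc
    have h4 := c5 ⟨u, hu⟩ ⟨w, hw⟩ hux hwx
      (hinv ⟨u, hu⟩ hux (Subtype.ext huu) fun h => hu1 (congrArg Subtype.val h))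
      (hinv ⟨w, hw⟩ hwx (Subtype.ext hww) fun h => hw1 (congrArg Subtype.val h))
    have h5 := hC1 _ h4 (by
      apply Subtype.ext
      change u * w * (u * w) = 1
      rw [mul_assoc, ← mul_assoc w, ← hc, mul_assoc u w w, hww, mul_one, huu])
    have h6 : u * w = 1 := congrArg Subtype.val h5
    have h7 : w⁻¹ = w := inv_eq_of_mul_eq_one_left hww
    rw [mul_eq_one_iff_eq_inv, h7] at h6
    exact h6
  · intro h
    apply c8
    rw [show v = 1 from Subtype.ext h]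
    exact one_mem _
  · intro u hu hux n hn
    rcases c4 ⟨u, hu⟩ hux with h | ⟨h, -⟩
    · -- a 2-element of `C` is trivial
      have h4 : ∀ m : ℕ, ∀ y ∈ C, y ^ 2 ^ m = 1 → y = 1 := by
        intro m
        induction m with
        | zero => intro y _ hy; rwa [pow_zero, pow_one] at hy
        | succ m ih =>
          intro y hy hy2
          have h5 : (y ^ 2 ^ m) = 1 := by
            refine hC1 _ (C.pow_mem hy _) ?_
            rw [← pow_add, ← two_mul, ← pow_succ', hy2]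
          exact ih y hy h5
      have h5 := h4 n ⟨u, hu⟩ h (Subtype.ext hn)
      have h6 : u = 1 := congrArg Subtype.val h5
      rw [h6, one_mul]
    · exact congrArg Subtype.val h

/-- (3): both sides. -/
theorem swap_mem {z s : H} (hz : ∀ h, h * z = z * h) (hs : s * x * s⁻¹ = x * z) {a : H}
    (ha : a ∈ A) : s * a * s⁻¹ ∈ A := by
  obtain ⟨v, hv, hva⟩ := B.inv
  -- conjugation by `s` preserves `C_H(x)`
  have hcx : ∀ h : H, h * x = x * h → (s * h * s⁻¹) * x = x * (s * h * s⁻¹) := by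
    intro h hh
    have h1 : (s * h * s⁻¹) * (x * z) = x * z * (s * h * s⁻¹) := by
      rw [← hs]
      calc s * h * s⁻¹ * (s * x * s⁻¹) = s * (h * x) * s⁻¹ := by group
        _ = s * (x * h) * s⁻¹ := by rw [hh]
        _ = s * x * s⁻¹ * (s * h * s⁻¹) := by group
    have h2 : x * z * (s * h * s⁻¹) = x * (s * h * s⁻¹) * z := by
      rw [mul_assoc, ← hz, ← mul_assoc]
    rw [h2, ← mul_assoc] at h1
    exact mul_right_cancel h1
  have hsq : ∃ b ∈ A, b * b = a := by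
    obtain ⟨k, hk⟩ := B.odd_order ha
    refine ⟨a ^ (k + 1), A.pow_mem ha _, ?_⟩
    rw [← pow_add, show k + 1 + (k + 1) = (2 * k + 1) + 1 by omega, ← hk, pow_succ,
      pow_orderOf_eq_one, one_mul]
  obtain ⟨b, hb, hbb⟩ := hsq
  have h1 := B.res (s * b * s⁻¹) (s * v * s⁻¹) (hcx b (B.ax b hb)) (hcx v hv) (by
    have h2 : orderOf (s * b * s⁻¹) = orderOf b :=
      orderOf_injective (MulAut.conj s).toMonoidHom (MulAut.conj s).injective b
    rw [h2]
    exact B.odd_order hb)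
  have h2 : s * b * s⁻¹ * (s * v * s⁻¹) * (s * b * s⁻¹)⁻¹ * (s * v * s⁻¹)⁻¹ = s * a * s⁻¹ := by
    have h3 : v * b⁻¹ * v⁻¹ = b := by
      rw [hva _ (A.inv_mem hb), inv_inv]
    calc s * b * s⁻¹ * (s * v * s⁻¹) * (s * b * s⁻¹)⁻¹ * (s * v * s⁻¹)⁻¹ =
        s * (b * (v * b⁻¹ * v⁻¹)) * s⁻¹ := by group
      _ = s * a * s⁻¹ := by rw [h3, hbb]
  rwa [h2] at h1

/-- (3) for a component containing `A` -/
theorem swap_comp {F : Type*} [Field F] [Finite F] (R : L2Aut.Rep F L) (hL : IsComponent L)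
    (hAL : A ≤ L) {a : H} (ha : a ∈ A) (ha1 : a ≠ 1) {z s : H} (hz : ∀ h, h * z = z * h)
    (hs : s * x * s⁻¹ = x * z) : ∀ l ∈ L, s * l * s⁻¹ ∈ L := by
  by_contra hn
  apply ha1
  have h1 : s * a * s⁻¹ = 1 := eq_one_of_central R (hAL (B.swap_mem hz hs ha)) fun m hm =>
    comm_of_not hL hn (hAL ha) hm
  rw [mul_inv_eq_one] at h1
  exact mul_eq_left.1 h1

omit B [Finite H] in
/-- (3) for the type (a): `w` is centralised by `s` -/
theorem swap_inner {F : Type*} [Field F] [Finite F] (R : L2Aut.Rep F L) {z s w : H}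
    (hz : ∀ h, h * z = z * h) (hs : s * x * s⁻¹ = x * z) (hn : ∀ l ∈ L, s * l * s⁻¹ ∈ L)
    (hn' : ∀ l ∈ L, s⁻¹ * l * s ∈ L) (hw : w ∈ L) (hxw : ∀ l ∈ L, x * l * x⁻¹ = w * l * w⁻¹) :
    s * w * s⁻¹ = w := by
  have h1 : w⁻¹ * (s * w * s⁻¹) = 1 := by
    refine eq_one_of_central R (L.mul_mem (L.inv_mem hw) (hn w hw)) fun m hm => ?_
    have h2 : s * w * s⁻¹ * m * (s * w * s⁻¹)⁻¹ = w * m * w⁻¹ := by
      rw [← hxw m hm]
      calc s * w * s⁻¹ * m * (s * w * s⁻¹)⁻¹ = s * (w * (s⁻¹ * m * s) * w⁻¹) * s⁻¹ := by group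
        _ = s * (x * (s⁻¹ * m * s) * x⁻¹) * s⁻¹ := by rw [hxw _ (hn' m hm)]
        _ = (s * x * s⁻¹) * m * (s * x * s⁻¹)⁻¹ := by group
        _ = x * z * m * (x * z)⁻¹ := by rw [hs]
        _ = x * (z * m) * z⁻¹ * x⁻¹ := by group
        _ = x * (m * z) * z⁻¹ * x⁻¹ := by rw [hz m]
        _ = x * m * x⁻¹ := by group
    calc w⁻¹ * (s * w * s⁻¹) * m = w⁻¹ * (s * w * s⁻¹ * m * (s * w * s⁻¹)⁻¹) * (s * w * s⁻¹) := by group
      _ = w⁻¹ * (w * m * w⁻¹) * (s * w * s⁻¹) := by rw [h2]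
      _ = m * (w⁻¹ * (s * w * s⁻¹)) := by group
  exact (inv_mul_eq_one.1 h1).symm

/-- type (b): `T ∩ L = ⟨v⟩`, `v ∈ Z(T)` -/
theorem outer_sylow {F : Type*} [Field F] [Finite F] (R : L2Aut.Rep F L) (hL : IsComponent L)
    (hx : x ∈ normalizer (L : Set H)) (hb : act L x hx ∉ L2Aut.Inn L)
    {a : H} (ha : a ∈ A) (haL : a ∈ L) (ha1 : a ≠ 1) {T : Subgroup H} (pT : IsPGroup 2 T)
    (hTx : ∀ t ∈ T, t * x = x * t)
    (max : ∀ P : Subgroup H, IsPGroup 2 P → T ≤ P → (∀ y ∈ P, y * x = x * y) → P ≤ T) :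
    ∃ v ∈ T, v ∈ L ∧ v * v = 1 ∧ v ≠ 1 ∧ (∀ t ∈ T, t * v = v * t) ∧
      (∀ u ∈ T, u ∈ L → u = 1 ∨ u = v) ∧ (∀ a ∈ A, a ∈ L → v * a * v⁻¹ = a⁻¹) := by
  obtain ⟨o1, o2, ⟨u₀, hu₀L, hu₀x, hu₀, hu₀1⟩, o4⟩ := B.outer_data R hx hb
  obtain ⟨g, hg, hgP⟩ := exists_conj_le pT hTx max (P := zpowers u₀)
    (isPGroup_zpowers ⟨1, by rw [pow_one, sq, hu₀]⟩) (by
      intro y hy
      obtain ⟨k, rfl⟩ := mem_zpowers_iff.1 hy
      exact ((show Commute u₀ x from hu₀x).zpow_left k).eq)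
  obtain ⟨v, hv⟩ : ∃ v, v = g * u₀ * g⁻¹ := ⟨_, rfl⟩
  have hvT : v ∈ T := by rw [hv]; exact hgP _ (mem_zpowers u₀)
  have hvL : v ∈ L := by rw [hv]; exact B.norm_of_mem R hL ha haL ha1 hg _ hu₀L
  have hvv : v * v = 1 := by
    rw [hv]
    calc g * u₀ * g⁻¹ * (g * u₀ * g⁻¹) = g * (u₀ * u₀) * g⁻¹ := by group
      _ = 1 := by rw [hu₀]; group
  have hv1 : v ≠ 1 := by
    intro h
    apply hu₀1
    rw [hv, mul_inv_eq_one] at h
    exact mul_eq_left.1 h
  have hvx : v * x = x * v := hTx v hvT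
  have h2el : ∀ u ∈ T, u ∈ L → u * u = 1 := by
    intro u hu huL
    obtain ⟨n, hn⟩ := pT ⟨u, hu⟩
    exact o4 u huL (hTx u hu) n (congrArg Subtype.val hn)
  have huniq : ∀ u ∈ T, u ∈ L → u = 1 ∨ u = v := by
    intro u hu huL
    by_cases hu1 : u = 1
    · exact Or.inl hu1
    right
    refine o2 u huL v hvL (hTx u hu) hvx (h2el u hu huL) hvv hu1 hv1 ?_
    have h3 := h2el _ (T.mul_mem hu hvT) (L.mul_mem huL hvL)
    have hui : u⁻¹ = u := inv_eq_of_mul_eq_one_left (h2el u hu huL)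
    have hvi : v⁻¹ = v := inv_eq_of_mul_eq_one_left hvv
    calc u * v = (u * v)⁻¹ := (inv_eq_of_mul_eq_one_left h3).symm
      _ = v * u := by rw [mul_inv_rev, hui, hvi]
  refine ⟨v, hvT, hvL, hvv, hv1, ?_, huniq, fun a ha haL => o1 v hvL hvx hvv hv1 a ha haL⟩
  intro t ht
  rcases huniq (t * v * t⁻¹) (T.mul_mem (T.mul_mem ht hvT) (T.inv_mem ht))
    (B.norm_of_mem R hL ha haL ha1 (hTx t ht) v hvL) with h | h
  · rw [mul_inv_eq_one] at h
    exact absurd (mul_eq_left.1 h) hv1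
  · exact mul_inv_eq_iff_eq_mul.1 h

/-- type (a): `T ∩ L` is a Sylow 2-subgroup of `L` and `w ∈ T` -/
theorem inner_sylow {F : Type*} [Field F] [Finite F] (R : L2Aut.Rep F L) (hL : IsComponent L)
    {a : H} (ha : a ∈ A) (haL : a ∈ L) (ha1 : a ≠ 1) {w : H} (hw : w ∈ L) (hw1 : w ≠ 1)
    (hww : w * w = 1) (hxw : ∀ l ∈ L, x * l * x⁻¹ = w * l * w⁻¹) {T : Subgroup H}
    (pT : IsPGroup 2 T) (hTx : ∀ t ∈ T, t * x = x * t)
    (max : ∀ P : Subgroup H, IsPGroup 2 P → T ≤ P → (∀ y ∈ P, y * x = x * y) → P ≤ T) :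
    w ∈ T ∧ ∀ P : Subgroup H, IsPGroup 2 P → T ⊓ L ≤ P → P ≤ L → P ≤ T := by
  have hxl : ∀ l ∈ L, l * x = x * l ↔ l * w = w * l := by
    intro l hl
    have h1 : l * x = x * l ↔ x * l * x⁻¹ = l := by
      rw [mul_inv_eq_iff_eq_mul]; exact eq_comm
    have h2 : l * w = w * l ↔ w * l * w⁻¹ = l := by
      rw [mul_inv_eq_iff_eq_mul]; exact eq_comm
    rw [h1, h2, hxw l hl]
  have hwx : w * x = x * w := (hxl w hw).2 rfl
  have hwT : w ∈ T := by
    obtain ⟨g, hg, hgP⟩ := exists_conj_le pT hTx max (P := zpowers w)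
      (isPGroup_zpowers ⟨1, by rw [pow_one, sq, hww]⟩) (by
        intro y hy
        obtain ⟨k, rfl⟩ := mem_zpowers_iff.1 hy
        exact ((show Commute w x from hwx).zpow_left k).eq)
    have h1 := hgP w (mem_zpowers w)
    rwa [B.inner_central R hL ha haL ha1 hw hxw hg, mul_inv_cancel_right] at h1
  refine ⟨hwT, ?_⟩
  -- a Sylow subgroup of `L` with `w` in its centre
  obtain ⟨S, hS⟩ : ∃ S : Sylow 2 L, ∀ s ∈ S, (s : H) * w = w * s := by
    have hfinL := R.finite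
    have hww' : (⟨w, hw⟩ : L) * ⟨w, hw⟩ = 1 := Subtype.ext hww
    have hw1' : (⟨w, hw⟩ : L) ≠ 1 := fun h => hw1 (congrArg Subtype.val h)
    obtain ⟨S⟩ : Nonempty (Sylow 2 L) := inferInstance
    obtain ⟨d, r, hd⟩ := R.exists_dih S
    obtain ⟨n, -, hzz, hz1⟩ := hd.exists_z S.2
    obtain ⟨g, hg⟩ := R.inv_conj hzz hz1 hww' hw1'
    refine ⟨g • S, ?_⟩
    rintro s hs
    have hs' : g⁻¹ * s * g ∈ S := by
      have := Subgroup.mem_pointwise_smul_iff_inv_smul_mem.1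
        (show s ∈ MulAut.conj g • (S : Subgroup L) from hs)
      have h0 : g⁻¹ * s * g ∈ (S : Subgroup L) := by
        simpa [MulAut.smul_def, ← map_inv, MulAut.conj_apply] using this
      exact h0
    -- `d ^ 2 ^ n` is central in `S`
    have hc : ∀ y ∈ S, y * d ^ 2 ^ n = d ^ 2 ^ n * y := by
      intro y hy
      have hinv : (d ^ 2 ^ n)⁻¹ = d ^ 2 ^ n := inv_eq_of_mul_eq_one_left hzz
      have hcd : ∀ k : ℤ, d ^ k * d ^ 2 ^ n = d ^ 2 ^ n * d ^ k := fun k =>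
        ((Commute.refl d).zpow_left k).pow_right _
      have hr : r * d ^ 2 ^ n = d ^ 2 ^ n * r := by
        have := hd.r_pow' ((2 ^ n : ℕ) : ℤ)
        rw [zpow_natCast, zpow_neg, zpow_natCast, hinv] at this
        exact this
      rcases hd.cov y hy with h | ⟨k, h⟩
      · obtain ⟨k, rfl⟩ := mem_zpowers_iff.1 h
        exact hcd k
      · rw [h, mul_assoc, hr, ← mul_assoc, hcd, mul_assoc]
    have h1 := hc _ hs'
    have h2 : s * ⟨w, hw⟩ = ⟨w, hw⟩ * s := by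
      rw [← hg]
      calc s * (g * d ^ 2 ^ n * g⁻¹) = g * (g⁻¹ * s * g * d ^ 2 ^ n) * g⁻¹ := by group
        _ = g * (d ^ 2 ^ n * (g⁻¹ * s * g)) * g⁻¹ := by rw [h1]
        _ = g * d ^ 2 ^ n * g⁻¹ * s := by group
    exact congrArg Subtype.val h2
  obtain ⟨g, hg, hgP⟩ := exists_conj_le pT hTx max (P := (S : Subgroup L).map L.subtype)
    (S.2.map _) (by
      rintro _ ⟨y, hy, rfl⟩
      exact (hxl y y.2).2 (hS y hy))
  -- orders
  have hle : Nat.card S ≤ Nat.card (T ⊓ L : Subgroup H) := by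
    have hinj : Function.Injective (fun y : S => (⟨g * ((y : L) : H) * g⁻¹,
        hgP _ ⟨y, y.2, rfl⟩, B.norm_of_mem R hL ha haL ha1 hg _ (y : L).2⟩ :
          (T ⊓ L : Subgroup H))) := by
      intro y y' h
      have h1 := congrArg Subtype.val h
      change g * ((y : L) : H) * g⁻¹ = g * ((y' : L) : H) * g⁻¹ at h1
      exact Subtype.ext (Subtype.ext (mul_left_cancel (mul_right_cancel h1)))
    exact Nat.card_le_card_of_injective _ hinj
  intro P hP hTP hPL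
  have h1 : Nat.card P ≤ Nat.card S := by
    have h2 : IsPGroup 2 (P.subgroupOf L) := hP.comap_subtype
    obtain ⟨Q, hQ⟩ := h2.exists_le_sylow
    have h3 := card_le_of_le hQ
    rw [Nat.card_congr (Sylow.equiv Q S).toEquiv,
      Nat.card_congr (subgroupOfEquivOfLe hPL).toEquiv] at h3
    exact h3
  have h2 : T ⊓ L = P := Subgroup.eq_of_le_of_card_ge hTP (h1.trans hle)
  rw [← h2]
  exact inf_le_left

end Bal

end Cfsg.Agent.OddHalf.D6
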