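import Cfsg.Agent.OddHalf.NI.Rows

/-!
# ODD half, node D6: the rows

`d6_of_rows`: the node D6 (`K` simple of Lie type in odd characteristic, standard, `C(K)` with cyclic Sylow
2-subgroups) for `Z(K) = 1`, from `NI.NoBig` (rank at least 2, `q ≥ 5`) and the rows

* `l27`: `PSL(2,7)`; `l2`: `PSL(2,q)`, `q ≥ 11`; `ree`: the Ree groups;
* `three`: rank at least 2 over the field with 3 elements (`three_of`: by family).
-/

set_option autoImplicit false

namespace Cfsg.Agent.OddHalf.D6.Cut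

open Subgroup Cfsg Cfsg.Agent.OddHalf.Iface Cfsg.Agent.OddHalf.LieOddFam

universe u

/-- The row of a property of `K`: standard, `C(K)` with cyclic Sylow 2-subgroups, `Z(K) = 1`. -/
def Row (P : (X : Type u) → [Group X] → Prop) : Prop :=
  ∀ (G : Type u) [Group G], Ctx G → ∀ K : Subgroup G, Std G K → Cyc K → center ↥K = ⊥ → P ↥K → False

theorem Row.mono {P Q : (X : Type u) → [Group X] → Prop} (h : Row Q)
    (hPQ : ∀ (X : Type u) [Group X], P X → Q X) : Row P :=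
  fun G _ C K S hc hz hP => h G C K S hc hz (hPQ _ hP)

/-- The node `Iface.D6` with `Z(K) = 1`. -/
def D6z : Prop :=
  ∀ (G : Type u) [Group G], Ctx G → ∀ K : Subgroup G, Std G K → Cyc K → center ↥K = ⊥ → LieOdd ↥K →
    ¬ IsAlternating ↥K → False

/-- The rows. -/
structure Rows : Prop where
  l27 : Row.{u} (fun X _ => XL27 X)
  l2 : Row.{u} (fun X _ => XL2Big X)
  ree : Row.{u} (fun X _ => Lie.IsoRee X)
  three : Row.{u} (fun X _ => Rk X 3)

/-- The sub-rows of `three`. -/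
structure Three : Prop where
  /-- `L_3(3)` -/
  l3 : Row.{u} (fun X _ => ∃ (F : Type) (_ : Field F) (_ : Fintype F), Fintype.card F = 3 ∧
    Nonempty (X ≃* Matrix.ProjectiveSpecialLinearGroup (Fin 3) F))
  /-- `U_3(3)` -/
  u3 : Row.{u} (fun X _ => ∃ (F : Type) (_ : Field F) (_ : Fintype F), Fintype.card F = 9 ∧
    Nonempty (X ≃* PSU 3 F 3))
  /-- `L_4(3)` -/
  l4 : Row.{u} (fun X _ => ∃ (F : Type) (_ : Field F) (_ : Fintype F), Fintype.card F = 3 ∧
    Nonempty (X ≃* Matrix.ProjectiveSpecialLinearGroup (Fin 4) F))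
  /-- `U_4(3)` -/
  u4 : Row.{u} (fun X _ => ∃ (F : Type) (_ : Field F) (_ : Fintype F), Fintype.card F = 9 ∧
    Nonempty (X ≃* PSU 4 F 3))
  /-- `PSp_4(3)` -/
  sp4 : Row.{u} (fun X _ => ∃ (F : Type) (_ : Field F) (_ : Fintype F), Fintype.card F = 3 ∧
    Nonempty (X ≃* PSp 2 F))
  /-- `G_2(3)` -/
  g2 : Row.{u} (fun X _ => FG2 X 3)
  /-- `L_n(3)`, `n ≥ 5` -/
  l : Row.{u} (fun X _ => ∃ (F : Type) (_ : Field F) (_ : Fintype F) (n : ℕ), Fintype.card F = 3 ∧ 5 ≤ n ∧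
    Nonempty (X ≃* Matrix.ProjectiveSpecialLinearGroup (Fin n) F))
  /-- `U_n(3)`, `n ≥ 5` -/
  u : Row.{u} (fun X _ => ∃ (F : Type) (_ : Field F) (_ : Fintype F) (n : ℕ), Fintype.card F = 9 ∧ 5 ≤ n ∧
    Nonempty (X ≃* PSU n F 3))
  /-- `PSp_2m(3)`, `m ≥ 3` -/
  sp : Row.{u} (fun X _ => ∃ (F : Type) (_ : Field F) (_ : Fintype F) (m : ℕ), Fintype.card F = 3 ∧ 3 ≤ m ∧
    Nonempty (X ≃* PSp m F))
  /-- `Ω_(2m+1)(3)`, `m ≥ 3` -/
  odd : Row.{u} (fun X _ => FOdd X 3)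
  /-- `PΩ⁺_2m(3)`, `m ≥ 4` -/
  plus : Row.{u} (fun X _ => FPlus X 3)
  /-- `PΩ⁻_2m(3)`, `m ≥ 4` -/
  minus : Row.{u} (fun X _ => FMinus X 3)
  f4 : Row.{u} (fun X _ => FF4 X 3)
  e6 : Row.{u} (fun X _ => FE6 X 3)
  e7 : Row.{u} (fun X _ => FE7 X 3)
  e8 : Row.{u} (fun X _ => FE8 X 3)
  twE6 : Row.{u} (fun X _ => F2E6 X 3)
  twD4 : Row.{u} (fun X _ => F3D4 X 3)

theorem three_of (T : Three.{u}) : Row.{u} (fun X _ => Rk X 3) := by
  intro G _ C K S hc hz h
  rcases h with h | h | h | h | h | h | h | h | h | h | h | h | h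
  · obtain ⟨F, _, _, n, h1, h2, f⟩ := h
    by_cases h3 : n = 3
    · subst h3
      exact T.l3 G C K S hc hz ⟨F, _, _, h1, f⟩
    · by_cases h4 : n = 4
      · subst h4
        exact T.l4 G C K S hc hz ⟨F, _, _, h1, f⟩
      · exact T.l G C K S hc hz ⟨F, _, _, n, h1, by omega, f⟩
  · obtain ⟨F, _, _, m, h1, h2, f⟩ := h
    by_cases h3 : m = 2
    · subst h3
      exact T.sp4 G C K S hc hz ⟨F, _, _, h1, f⟩
    · exact T.sp G C K S hc hz ⟨F, _, _, m, h1, by omega, f⟩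
  · obtain ⟨F, _, _, n, h1, h2, f⟩ := h
    by_cases h3 : n = 3
    · subst h3
      exact T.u3 G C K S hc hz ⟨F, _, _, by simpa using h1, f⟩
    · by_cases h4 : n = 4
      · subst h4
        exact T.u4 G C K S hc hz ⟨F, _, _, by simpa using h1, f⟩
      · exact T.u G C K S hc hz ⟨F, _, _, n, by simpa using h1, by omega, f⟩
  · exact T.odd G C K S hc hz h
  · exact T.plus G C K S hc hz h
  · exact T.minus G C K S hc hz h
  · exact T.g2 G C K S hc hz h
  · exact T.f4 G C K S hc hz h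
  · exact T.e6 G C K S hc hz h
  · exact T.e7 G C K S hc hz h
  · exact T.e8 G C K S hc hz h
  · exact T.twE6 G C K S hc hz h
  · exact T.twD4 G C K S hc hz h

/-- **D6** (`Z(K) = 1`) from `NoBig` and the rows. -/
theorem d6_of_rows (hB : NI.NoBig.{u}) (R : Rows.{u}) : D6z.{u} := by
  intro G _ C K S hc hz hL ha
  rcases lieOdd_cases hL ha with h | h | h | ⟨q, hq, h⟩
  · exact R.l27 G C K S hc hz h
  · exact R.l2 G C K S hc hz h
  · exact R.ree G C K S hc hz h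
  · by_cases h3 : q = 3
    · subst h3
      exact R.three G C K S hc hz h
    · exact NI.Rows.d6_big hB C S.toStd0 hz hq (hq.ne_four h3) h

end Cfsg.Agent.OddHalf.D6.Cut
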