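import Mathlib
import Cfsg.Agent.GH.L2AutOut
import Cfsg.Agent.GH.L2AutD
import Cfsg.Agent.LFourA.FieldInv

/-!
# ODD D6, `K = L₂(q)`: facts on automorphisms of `PSL(2,F)` (helper419)

* `fix_four_syl`: a 2-element of `Aut(L)` centralising a four-group Sylow 2-subgroup of `L` acts as an element of it;
* `exists_move`: if a field involution `α` centralises a Sylow 2-subgroup `S` of `L`, then a central involution `z`
  of `S` is moved inside `S` by an element of `C_L(α)`;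
* `fix_syl`: an element of `PGL(2,F)` centralising a Sylow 2-subgroup with a noncentral involution
  is inner, induced by `1` or the central involution.
-/

set_option autoImplicit false

namespace Cfsg.Agent.OddHalf.D6.FieldFacts

open Subgroup Cfsg.Agent.GH.L2Aut

variable {F L : Type*} [Field F] [Finite F] [Group L]

/-- 2-elements of `Aut(L)` centralising a four-group Sylow 2-subgroup of `L = PSL(2,F)` are inner. -/
theorem fix_four_syl (R : GH.L2Aut.Rep F L) {a b : L}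
    (h : Four a b)
    (hS : ∀ y : L, (∃ n, y ^ 2 ^ n = 1) → y * a * y⁻¹ = b → y * b * y⁻¹ = a → False)
    {α : MulAut L} (h2 : ∃ n, α ^ 2 ^ n = 1) (ha : α a = a) (hb : α b = b) :
    ∃ u : L, (u = 1 ∨ u = a ∨ u = b ∨ u = a * b) ∧ α = MulAut.conj u := by
  obtain ⟨Φ, y, δ, -, -, -, -, -, -, -, -, hδ, hδa, hδb, -, hδi, hα, -⟩ := R.exists_frame h
  obtain ⟨u, hu, hu'⟩ := hα α ha hb
  refine ⟨u, hu, ?_⟩
  by_cases hσ : R.fld α = 1
  · rw [hu', hσ, map_one, mul_one]
  exfalso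
  -- an involution of `Aut F`
  obtain ⟨τ, hτ1, hτ2⟩ : ∃ τ : F ≃+* F, τ ≠ 1 ∧ τ * τ = 1 := by
    obtain ⟨n, hn⟩ := h2
    have hn' : (R.fld α) ^ 2 ^ n = 1 := by rw [← map_pow, hn, map_one]
    clear hn
    induction n with
    | zero => rw [pow_zero, pow_one] at hn'; exact absurd hn' hσ
    | succ n ih =>
      by_cases h1 : (R.fld α) ^ 2 ^ n = 1
      · exact ih h1
      · refine ⟨_, h1, ?_⟩
        rw [← pow_add, ← two_mul, ← pow_succ', hn']
  have hsq : IsSquare (2 : F) := GH.L2Aut.Rep.isSquare_of_fixed R.two hτ2 hτ1 (map_ofNat τ 2)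
  obtain ⟨d, rfl⟩ := hδi.2 hsq
  rw [MulAut.conj_apply] at hδa hδb
  have := R.finite
  -- odd powers of `d` swap `a` and `b`
  have hodd : ∀ m : ℕ, d ^ (2 * m + 1) * a * (d ^ (2 * m + 1))⁻¹ = b ∧
      d ^ (2 * m + 1) * b * (d ^ (2 * m + 1))⁻¹ = a := by
    intro m
    induction m with
    | zero => simpa using ⟨hδa, hδb⟩
    | succ m ih =>
      have e : d ^ (2 * (m + 1) + 1) = d ^ (2 * m + 1) * (d * d) := by
        rw [show 2 * (m + 1) + 1 = 2 * m + 1 + 1 + 1 by ring, pow_succ, pow_succ (n := 2 * m + 1),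
          mul_assoc]
      have e1 : d * d * a * (d * d)⁻¹ = a := by
        calc d * d * a * (d * d)⁻¹ = d * (d * a * d⁻¹) * d⁻¹ := by group
          _ = a := by rw [hδa, hδb]
      have e2 : d * d * b * (d * d)⁻¹ = b := by
        calc d * d * b * (d * d)⁻¹ = d * (d * b * d⁻¹) * d⁻¹ := by group
          _ = b := by rw [hδb, hδa]
      rw [e]
      constructor
      · calc d ^ (2 * m + 1) * (d * d) * a * (d ^ (2 * m + 1) * (d * d))⁻¹
            = d ^ (2 * m + 1) * (d * d * a * (d * d)⁻¹) * (d ^ (2 * m + 1))⁻¹ := by group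
          _ = b := by rw [e1, ih.1]
      · calc d ^ (2 * m + 1) * (d * d) * b * (d ^ (2 * m + 1) * (d * d))⁻¹
            = d ^ (2 * m + 1) * (d * d * b * (d * d)⁻¹) * (d ^ (2 * m + 1))⁻¹ := by group
          _ = a := by rw [e2, ih.2]
  obtain ⟨k, m, hm, hkm⟩ := Nat.exists_eq_two_pow_mul_odd (orderOf_pos d).ne'
  obtain ⟨j, rfl⟩ := hm
  refine hS (d ^ (2 * j + 1)) ⟨k, ?_⟩ (hodd j).1 (hodd j).2
  rw [← pow_mul, mul_comm, ← hkm, pow_orderOf_eq_one]

/-- an element of `PGL(2,F)` centralising a 2-subgroup with a noncentral involution is `1` or the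
conjugation with its central involution -/
theorem fix_syl (R : GH.L2Aut.Rep F L) {z v d : L} (hz : z * z = 1) (hz1 : z ≠ 1) (hv : v * v = 1)
    (hv1 : v ≠ 1) (hvz : v ≠ z) (hc : v * z = z * v) (hd : d * z = z * d) (hdv : d * v ≠ v * d)
    {α : MulAut L} (hα : R.fld α = 1) (hαz : α z = z) (hαv : α v = v) (hαd : α d = d) :
    α = 1 ∨ α = MulAut.conj z := by
  have hf : Four z v :=
    { aa := hz, bb := hv, a1 := hz1, b1 := hv1, ne := fun h => hvz h.symm, comm := hc.symm }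
  rcases R.fix_four hf (R.mem_PGL_iff_fld.2 hα) hαz hαv with h | h | h | h
  · exact Or.inl h
  · exact Or.inr h
  · exfalso
    rw [h, MulAut.conj_apply, mul_inv_eq_iff_eq_mul] at hαd
    exact hdv hαd.symm
  · exfalso
    rw [h, MulAut.conj_apply, mul_inv_eq_iff_eq_mul] at hαd
    apply hdv
    have h1 : z * (v * d) = z * (d * v) := by
      rw [← mul_assoc, hαd, ← mul_assoc, ← mul_assoc, hd]
    exact (mul_left_cancel h1).symm

/-- The involutory automorphisms outside `PGL(2,F)` are field automorphisms for some coordinates. -/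
theorem exists_rep (R : GH.L2Aut.Rep F L) {α : MulAut L} (h2 : α * α = 1) (hσ : R.fld α ≠ 1) :
    ∃ (R' : GH.L2Aut.Rep F L) (σ : F ≃+* F), α = R'.fa σ := by
  have hα : ∀ z, α (α z) = z := fun z => DFunLike.congr_fun h2 z
  have hno : ¬ ∃ g : GL (Fin 2) F, ∀ x, α (R.π x) = R.π (Cfsg.Agent.Lib.SL2Mat.conjGL g x) := by
    rintro ⟨g, hg⟩
    apply hσ
    rw [← R.mem_PGL_iff_fld, R.mem_PGL]
    exact ⟨g, R.ext_π fun x => by rw [hg, R.gl_apply]⟩
  obtain ⟨h, σ, K, hF⟩ := Cfsg.Agent.LFourA.FieldInv.exists_finv R.two R.surj R.ker hα hno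
  let R' : GH.L2Aut.Rep F L := ⟨_, hF.surj, hF.ker, hF.two⟩
  refine ⟨R', σ, ?_⟩
  exact R'.ext_π fun x => by rw [R'.fa_apply]; exact hF.act x

/-- If a field involution `α` centralises the Sylow 2-subgroup `S`, an involution `z ∈ Z(S)` is moved inside `S`
by an element of `C_L(α)`. -/
theorem exists_move (R : GH.L2Aut.Rep F L) {α : MulAut L} (h2 : α * α = 1) (hσ : R.fld α ≠ 1)
    (S : Subgroup L) (hS : IsPGroup 2 S) (hmax : ∀ P : Subgroup L, IsPGroup 2 P → S ≤ P → P ≤ S)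
    (hfix : ∀ s ∈ S, α s = s) {z : L} (hz : z ∈ S) (hz1 : z ≠ 1) (hcen : ∀ s ∈ S, s * z = z * s) :
    ∃ ρ : L, α ρ = ρ ∧ ρ * z * ρ⁻¹ ∈ S ∧ ρ * z * ρ⁻¹ ≠ z := by
  obtain ⟨R', σ, rfl⟩ := exists_rep R h2 hσ
  have := R.finite
  obtain ⟨i, j, w, d, hσi, hσj, hσw, hσd, hi, hj, hij, hwi, hwj, hw3, hdi, hdj, hdd⟩ :=
    exists_std (F := F) R.two
  have hf := R'.four_of_pair hi hj hij
  -- the fixed subgroup
  let C : Subgroup L :=
    { carrier := {x | R'.fa σ x = x}
      one_mem' := map_one _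
      mul_mem' := fun {a b} (ha : _ = a) (hb : _ = b) => by
        change R'.fa σ (a * b) = a * b
        rw [map_mul, ha, hb]
      inv_mem' := fun {a} (ha : _ = a) => by
        change R'.fa σ a⁻¹ = a⁻¹
        rw [map_inv, ha] }
  have hC : ∀ x, x ∈ C ↔ R'.fa σ x = x := fun x => Iff.rfl
  have hSC : S ≤ C := fun s hs => hfix s hs
  have ha : R'.π i ∈ C := by rw [hC, R'.fa_apply, hσi]
  have hb : R'.π j ∈ C := by rw [hC, R'.fa_apply, hσj]
  have hw : R'.π w ∈ C := by rw [hC, R'.fa_apply, hσw]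
  have hV : hf.sub ≤ C := by
    rintro x (rfl | rfl | rfl | rfl)
    · exact one_mem _
    · exact ha
    · exact hb
    · exact mul_mem ha hb
  -- Sylow
  let S' : Sylow 2 C :=
    { toSubgroup := S.subgroupOf C
      isPGroup' := hS.comap_of_injective _ C.subtype_injective
      is_maximal' := by
        intro Q hQ hle
        have h1 : S ≤ Q.map C.subtype := by
          intro s hs
          exact ⟨⟨s, hSC hs⟩, hle (by rw [mem_subgroupOf]; exact hs), rfl⟩
        have h3 := hmax _ (hQ.map _) h1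
        apply le_antisymm _ hle
        intro q hq
        rw [mem_subgroupOf]
        exact h3 ⟨q, hq, rfl⟩ }
  obtain ⟨P1, hP1⟩ := (hf.sub_two.comap_of_injective (C.subtype) C.subtype_injective).exists_le_sylow
  obtain ⟨c, hc⟩ := MulAction.exists_smul_eq C P1 S'
  have hconj : ∀ v ∈ hf.sub, (c : L) * v * (c : L)⁻¹ ∈ S := by
    intro v hv
    have h1 : (⟨v, hV hv⟩ : C) ∈ P1 := hP1 hv
    have h3 : c * ⟨v, hV hv⟩ * c⁻¹ ∈ S' := conj_mem_syl hc h1
    exact h3
  set z1 : L := (c : L)⁻¹ * z * c with hz1def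
  have hzz1 : (c : L) * z1 * (c : L)⁻¹ = z := by rw [hz1def]; group
  have hcomm : ∀ v ∈ hf.sub, z1 * v = v * z1 := by
    intro v hv
    have h1 := hcen _ (hconj v hv)
    rw [← hzz1] at h1
    have h3 : (c : L) * (v * z1) * (c : L)⁻¹ = (c : L) * (z1 * v) * (c : L)⁻¹ := by
      calc (c : L) * (v * z1) * (c : L)⁻¹ = c * v * (c : L)⁻¹ * (c * z1 * (c : L)⁻¹) := by group
        _ = c * z1 * (c : L)⁻¹ * (c * v * (c : L)⁻¹) := h1
        _ = (c : L) * (z1 * v) * (c : L)⁻¹ := by group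
    exact (mul_left_cancel (mul_right_cancel h3)).symm
  have hz11 : z1 ≠ 1 := by
    intro h
    apply hz1
    rw [← hzz1, h]; group
  have hmemsub : z1 = R'.π i ∨ z1 = R'.π j ∨ z1 = R'.π i * R'.π j := by
    have e : ∀ v ∈ hf.sub, MulAut.conj z1 v = v := by
      intro v hv
      rw [MulAut.conj_apply, hcomm v hv, mul_inv_cancel_right]
    rcases R'.fix_four hf (R'.conj_mem_PGL z1) (e _ (Or.inr (Or.inl rfl)))
      (e _ (Or.inr (Or.inr (Or.inl rfl)))) with h | h | h | h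
    · exact absurd (R'.conj_injective (by rw [h, map_one])) hz11
    · exact Or.inl (R'.conj_injective h)
    · exact Or.inr (Or.inl (R'.conj_injective h))
    · exact Or.inr (Or.inr (R'.conj_injective h))
  -- the element of order three
  have hya : R'.π w * R'.π i * (R'.π w)⁻¹ = R'.π j := by
    rw [mul_inv_eq_iff_eq_mul, ← map_mul, ← map_mul, hwi]
  have hyb : R'.π w * R'.π j * (R'.π w)⁻¹ = R'.π i * R'.π j := by
    rw [mul_inv_eq_iff_eq_mul, ← map_mul, ← map_mul, ← map_mul, hwj]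
  have hyab : R'.π w * (R'.π i * R'.π j) * (R'.π w)⁻¹ = R'.π j * (R'.π i * R'.π j) := by
    calc R'.π w * (R'.π i * R'.π j) * (R'.π w)⁻¹
        = (R'.π w * R'.π i * (R'.π w)⁻¹) * (R'.π w * R'.π j * (R'.π w)⁻¹) := by group
      _ = R'.π j * (R'.π i * R'.π j) := by rw [hya, hyb]
  have hyab' : R'.π j * (R'.π i * R'.π j) = R'.π i := by
    rw [hf.comm, ← mul_assoc, hf.bb, one_mul]
  rw [hyab'] at hyab
  have hmoved : R'.π w * z1 * (R'.π w)⁻¹ ∈ hf.sub ∧ R'.π w * z1 * (R'.π w)⁻¹ ≠ z1 := by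
    rcases hmemsub with h | h | h
    · rw [h, hya]
      exact ⟨Or.inr (Or.inr (Or.inl rfl)), fun e => hf.ne e.symm⟩
    · rw [h, hyb]
      exact ⟨Or.inr (Or.inr (Or.inr rfl)), fun e => hf.a1 (mul_eq_right.1 e)⟩
    · rw [h, hyab]
      exact ⟨Or.inr (Or.inl rfl), fun e => hf.b1 (left_eq_mul.1 e)⟩
  have hρ : (c : L) * R'.π w * (c : L)⁻¹ * z * ((c : L) * R'.π w * (c : L)⁻¹)⁻¹ =
      (c : L) * (R'.π w * z1 * (R'.π w)⁻¹) * (c : L)⁻¹ := by
    rw [hz1def]; group
  refine ⟨(c : L) * R'.π w * (c : L)⁻¹, ?_, ?_, ?_⟩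
  · exact mul_mem (mul_mem c.2 hw) (inv_mem c.2)
  · rw [hρ]; exact hconj _ hmoved.1
  · rw [hρ]
    intro h
    apply hmoved.2
    rw [← hzz1] at h
    exact mul_left_cancel (mul_right_cancel h)

end Cfsg.Agent.OddHalf.D6.FieldFacts
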