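import Mathlib
import Cfsg.Agent.OddHalf.D6.FieldFacts
import Cfsg.Agent.Lib.NormalAbelian

/-!
# ODD D6, `K = L₂(q)`, `|Q| = 2`: a component of type (a) of `C(z)` (helper419)

The common end of the cases C1 and C2(α) of helper532's text.

`Base x z T K`: `T` is a Sylow 2-subgroup of `C(x)`, `K ⊴ C(x)`, `D = T ∩ K` is a Sylow 2-subgroup of `K ≅ PSL(2,F)`,
`C_T(D)` is abelian, `C_T(K) = ⟨x⟩`, `K ∩ Z(T) = ⟨z⟩`, `D` is not abelian.

`Over x z T K L w`: `L ≅ PSL(2,F)` is a `T`-invariant subgroup of `C(z)`, `T ∩ L` is a Sylow 2-subgroup of `L`,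
`x` acts on `L` as the involution `w ∈ L`; every noncentral involution `v` of `D` inverts an element of
`C_L(x)` whose square is not 1.

`Base.false_of_over`: if moreover `w ∈ {x, xz}`, this is impossible. (Conjugate the element `ρ₁ ∈ C_K(u)` with
`z ^ ρ₁ = v` by the element of order 3 of `N_L(T ∩ L)`: the result centralises `x`, so normalises `K`, but
does not leave `K ∩ T` invariant.)
-/

set_option autoImplicit false

namespace Cfsg.Agent.OddHalf.D6.TypeA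

open Subgroup Cfsg.Agent.GH.L2Aut

variable {G : Type*} [Group G]

/-- The centralizer side. -/
structure Base (x z : G) (T K : Subgroup G) : Prop where
  xx : x * x = 1
  x1 : x ≠ 1
  zz : z * z = 1
  z1 : z ≠ 1
  xT : x ∈ T
  zT : z ∈ T
  xK : x ∉ K
  zK : z ∈ K
  cx : ∀ t ∈ T, t * x = x * t
  cz : ∀ t ∈ T, t * z = z * t
  pT : IsPGroup 2 T
  /-- `T` is a Sylow 2-subgroup of `C(x)` -/
  max : ∀ P : Subgroup G, IsPGroup 2 P → T ≤ P → (∀ y ∈ P, y * x = x * y) → P ≤ T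
  Kx : ∀ k ∈ K, k * x = x * k
  Kn : ∀ c : G, c * x = x * c → ∀ k ∈ K, c * k * c⁻¹ ∈ K
  /-- `T ∩ K` is a Sylow 2-subgroup of `K` -/
  sylK : ∀ P : Subgroup G, IsPGroup 2 P → T ⊓ K ≤ P → P ≤ K → P ≤ T
  /-- `D` is not abelian: -/
  na : ∃ v ∈ T, v ∈ K ∧ v * v = 1 ∧ v ≠ 1 ∧ v ≠ z ∧ ∃ d ∈ T, d ∈ K ∧ d * v ≠ v * d
  /-- `C_T(D)` is abelian -/
  cD : ∀ a ∈ T, (∀ d ∈ T, d ∈ K → a * d = d * a) → ∀ b ∈ T, (∀ d ∈ T, d ∈ K → b * d = d * b) →
    a * b = b * a
  /-- `K ∩ Z(T) = ⟨z⟩` -/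
  KZ : ∀ e ∈ K, e ∈ T → (∀ t ∈ T, t * e = e * t) → e = 1 ∨ e = z
  /-- `C_T(K) = ⟨x⟩` -/
  CK : ∀ c ∈ T, (∀ k ∈ K, c * k = k * c) → c = 1 ∨ c = x
  iso : ∃ (F : Type) (_ : Field F) (_ : Finite F), Nonempty (GH.L2Aut.Rep F K)

/-- The component of `C(z)`. -/
structure Over (x z : G) (T K L : Subgroup G) (w : G) : Prop where
  Lz : ∀ l ∈ L, l * z = z * l
  TL : ∀ t ∈ T, ∀ l ∈ L, t * l * t⁻¹ ∈ L
  wL : w ∈ L
  ww : w * w = 1
  w1 : w ≠ 1
  wx : ∀ l ∈ L, x * l * x⁻¹ = w * l * w⁻¹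
  iso : ∃ (F : Type) (_ : Field F) (_ : Finite F), Nonempty (GH.L2Aut.Rep F L)
  /-- `T ∩ L` is a Sylow 2-subgroup of `L` -/
  syl : ∀ P : Subgroup G, IsPGroup 2 P → T ⊓ L ≤ P → P ≤ L → P ≤ T
  /-- noncentral involutions of `D` invert something -/
  inv : ∀ v ∈ T, v ∈ K → v * v = 1 → v ≠ 1 → v ≠ z → ∃ a ∈ L, a * a ≠ 1 ∧ a * x = x * a ∧
    v * a * v⁻¹ = a⁻¹

/-- the automorphism induced on an invariant subgroup -/
def act (L : Subgroup G) (t : G) (h : ∀ l ∈ L, t * l * t⁻¹ ∈ L) (h' : ∀ l ∈ L, t⁻¹ * l * t ∈ L) :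
    MulAut L where
  toFun l := ⟨t * l * t⁻¹, h l l.2⟩
  invFun l := ⟨t⁻¹ * l * t, h' l l.2⟩
  left_inv l := Subtype.ext (by simp only; group)
  right_inv l := Subtype.ext (by simp only; group)
  map_mul' a b := Subtype.ext (by
    show t * ((a : G) * b) * t⁻¹ = t * a * t⁻¹ * (t * b * t⁻¹)
    group)

theorem act_apply (L : Subgroup G) (t : G) (h : ∀ l ∈ L, t * l * t⁻¹ ∈ L)
    (h' : ∀ l ∈ L, t⁻¹ * l * t ∈ L) (l : L) : ((act L t h h' l : L) : G) = t * l * t⁻¹ := rfl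

theorem act_pow (L : Subgroup G) (t : G) (h : ∀ l ∈ L, t * l * t⁻¹ ∈ L)
    (h' : ∀ l ∈ L, t⁻¹ * l * t ∈ L) (n : ℕ) (l : L) :
    (((act L t h h') ^ n) l : G) = t ^ n * l * (t ^ n)⁻¹ := by
  induction n with
  | zero => simp
  | succ n ih =>
    rw [pow_succ', MulAut.mul_apply, act_apply, ih, pow_succ']
    group

theorem isPGroup_zpowers {y : G} (h : ∃ n, y ^ 2 ^ n = 1) : IsPGroup 2 (zpowers y) := by
  obtain ⟨n, hn⟩ := h
  rintro ⟨a, ha⟩
  obtain ⟨i, rfl⟩ := mem_zpowers_iff.1 ha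
  refine ⟨n, Subtype.ext ?_⟩
  show (y ^ i) ^ (2 ^ n) = 1
  rw [← zpow_natCast (y ^ i), ← zpow_mul, mul_comm, zpow_mul, zpow_natCast, hn, one_zpow]

namespace Over

variable {x z w : G} {T K L : Subgroup G}

/-- the centre of `L` is trivial -/
theorem center (O : Over x z T K L w) {l : G} (hl : l ∈ L) (h : ∀ m ∈ L, l * m = m * l) : l = 1 := by
  obtain ⟨F, _, _, ⟨R⟩⟩ := O.iso
  have h1 : (⟨l, hl⟩ : L) ∈ Subgroup.center L := by
    rw [Subgroup.mem_center_iff]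
    intro m
    exact Subtype.ext (h m m.2).symm
  rw [R.center_eq_bot, mem_bot] at h1
  exact congrArg Subtype.val h1

/-- two elements of `L` with the same action on `L` are equal -/
theorem eq_of_act (O : Over x z T K L w) {a b : G} (ha : a ∈ L) (hb : b ∈ L)
    (h : ∀ l ∈ L, a * l * a⁻¹ = b * l * b⁻¹) : a = b := by
  have h1 : b⁻¹ * a = 1 := by
    apply O.center (mul_mem (inv_mem hb) ha)
    intro m hm
    have h2 := h m hm
    calc b⁻¹ * a * m = b⁻¹ * (a * m * a⁻¹) * a := by group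
      _ = b⁻¹ * (b * m * b⁻¹) * a := by rw [h2]
      _ = m * (b⁻¹ * a) := by group
  exact (inv_mul_eq_one.1 h1).symm

theorem z_not (O : Over x z T K L w) (hz1 : z ≠ 1) : z ∉ L := fun h =>
  hz1 (O.center h fun m hm => (O.Lz m hm).symm)

theorem w_comm (O : Over x z T K L w) (B : Base x z T K) {t : G} (ht : t ∈ T) : t * w = w * t := by
  have h : t * w * t⁻¹ = w := by
    apply O.eq_of_act (O.TL t ht w O.wL) O.wL
    intro l hl
    have hl' : t⁻¹ * l * t ∈ L := by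
      have := O.TL t⁻¹ (inv_mem ht) l hl
      rwa [inv_inv] at this
    have hx : t * x * t⁻¹ = x := by rw [B.cx t ht]; group
    have hx' : t * x⁻¹ * t⁻¹ = x⁻¹ := by
      calc t * x⁻¹ * t⁻¹ = (t * x * t⁻¹)⁻¹ := by group
        _ = x⁻¹ := by rw [hx]
    calc t * w * t⁻¹ * l * (t * w * t⁻¹)⁻¹ = t * (w * (t⁻¹ * l * t) * w⁻¹) * t⁻¹ := by group
      _ = t * (x * (t⁻¹ * l * t) * x⁻¹) * t⁻¹ := by rw [O.wx _ hl']
      _ = (t * x * t⁻¹) * l * (t * x⁻¹ * t⁻¹) := by group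
      _ = x * l * x⁻¹ := by rw [hx, hx']
      _ = w * l * w⁻¹ := O.wx l hl
  rw [← mul_inv_eq_iff_eq_mul]; exact h

theorem w_mem (O : Over x z T K L w) (B : Base x z T K) : w ∈ T := by
  have h1 : IsPGroup 2 (zpowers w) := isPGroup_zpowers ⟨1, by rw [pow_one, pow_two, O.ww]⟩
  have h2 : zpowers w ≤ normalizer (T : Set G) := by
    rw [zpowers_le, mem_normalizer_iff]
    intro t
    constructor
    · intro ht
      have : w * t * w⁻¹ = t := by rw [← O.w_comm B ht]; group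
      rw [this]; exact ht
    · intro ht
      have h3 := O.w_comm B ht
      have : t = w * t * w⁻¹ := by
        calc t = w⁻¹ * (w * t * w⁻¹ * w) := by group
          _ = w⁻¹ * (w * (w * t * w⁻¹)) := by rw [h3]
          _ = w * t * w⁻¹ := by group
      rw [this]; exact ht
  have h3 : IsPGroup 2 ((zpowers w ⊔ T : Subgroup G)) := h1.to_sup_of_normal_right' B.pT h2
  have hwx : w * x = x * w := (O.w_comm B B.xT).symm
  have h4 : ∀ y ∈ zpowers w ⊔ T, y * x = x * y := by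
    have : zpowers w ⊔ T ≤ centralizer ({x} : Set G) := by
      rw [sup_le_iff, zpowers_le]
      exact ⟨mem_centralizer_singleton_iff.2 hwx, fun y hy => mem_centralizer_singleton_iff.2 (B.cx y hy)⟩
    intro y hy
    exact mem_centralizer_singleton_iff.1 (this hy)
  exact B.max _ h3 le_sup_right h4 ((le_sup_left : zpowers w ≤ _) (mem_zpowers w))

/-- `K ∩ L ∩ T = 1` -/
theorem KL [Finite G] (O : Over x z T K L w) (B : Base x z T K) {e : G} (hT : e ∈ T) (hK : e ∈ K)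
    (hL : e ∈ L) : e = 1 := by
  by_contra he
  let N : Subgroup T := (K ⊓ L).subgroupOf T
  have hN : N.Normal := by
    refine ⟨fun n hn g => ?_⟩
    rw [mem_subgroupOf] at hn ⊢
    exact ⟨B.Kn g (B.cx g g.2) _ hn.1, O.TL g g.2 _ hn.2⟩
  have hN1 : N ≠ ⊥ := by
    intro h
    have h1 : (⟨e, hT⟩ : T) ∈ N := by rw [mem_subgroupOf]; exact ⟨hK, hL⟩
    rw [h, mem_bot] at h1
    exact he (congrArg Subtype.val h1)
  have : Group.IsNilpotent T := B.pT.isNilpotent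
  have h2 := Cfsg.Agent.Lib.NormalAbelian.normal_inf_center_ne_bot N hN1
  obtain ⟨c, hc, hc1⟩ := (N ⊓ Subgroup.center T).bot_or_exists_ne_one.resolve_left h2
  have h3 : (c : G) ∈ K ⊓ L := mem_subgroupOf.1 hc.1
  rcases B.KZ c h3.1 c.2 (fun t ht => congrArg Subtype.val (Subgroup.mem_center_iff.1 hc.2 ⟨t, ht⟩))
    with h | h
  · exact hc1 (Subtype.ext h)
  · exact O.z_not B.z1 (h ▸ h3.2)

/-- `T ∩ L` centralises `D` -/
theorem TL_cent [Finite G] (O : Over x z T K L w) (B : Base x z T K) {y d : G} (hy : y ∈ T)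
    (hyL : y ∈ L) (hd : d ∈ T) (hdK : d ∈ K) : y * d = d * y := by
  have h : y * d * y⁻¹ * d⁻¹ = 1 := by
    apply O.KL B
    · exact mul_mem (mul_mem (mul_mem hy hd) (inv_mem hy)) (inv_mem hd)
    · exact mul_mem (B.Kn y (B.cx y hy) d hdK) (inv_mem hdK)
    · have : y * d * y⁻¹ * d⁻¹ = y * (d * y⁻¹ * d⁻¹) := by group
      rw [this]
      exact mul_mem hyL (O.TL d hd _ (inv_mem hyL))
  rw [mul_inv_eq_one, mul_inv_eq_iff_eq_mul] at h
  exact h

theorem TL_comm [Finite G] (O : Over x z T K L w) (B : Base x z T K) {y y' : G} (hy : y ∈ T)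
    (hyL : y ∈ L) (hy' : y' ∈ T) (hyL' : y' ∈ L) : y * y' = y' * y :=
  B.cD y hy (fun d hd hdK => O.TL_cent B hy hyL hd hdK) y' hy'
    (fun d hd hdK => O.TL_cent B hy' hyL' hd hdK)

/-- the Sylow 2-subgroup of `L` -/
def sylow (O : Over x z T K L w) (B : Base x z T K) : Sylow 2 L where
  toSubgroup := (T ⊓ L).subgroupOf L
  isPGroup' := (B.pT.to_le inf_le_left).comap_of_injective _ L.subtype_injective
  is_maximal' := by
    intro Q hQ hle
    have h1 : T ⊓ L ≤ Q.map L.subtype := by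
      intro s hs
      exact ⟨⟨s, hs.2⟩, hle (by rw [mem_subgroupOf]; exact hs), rfl⟩
    have h3 := O.syl _ (hQ.map _) h1 (by rintro _ ⟨q, -, rfl⟩; exact q.2)
    apply le_antisymm _ hle
    intro q hq
    rw [mem_subgroupOf]
    exact ⟨h3 ⟨q, hq, rfl⟩, q.2⟩

theorem mem_sylow (O : Over x z T K L w) (B : Base x z T K) {l : L} :
    l ∈ O.sylow B ↔ (l : G) ∈ T := by
  change l ∈ (T ⊓ L).subgroupOf L ↔ _
  rw [mem_subgroupOf]
  exact ⟨fun h => h.1, fun h => ⟨h, l.2⟩⟩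

/-- `T ∩ L = {1, w, u, wu}` -/
theorem four [Finite G] (O : Over x z T K L w) (B : Base x z T K) :
    ∃ u : G, u ∈ T ∧ u ∈ L ∧ u * u = 1 ∧ u ≠ 1 ∧ u ≠ w ∧ w * u = u * w ∧
      ∀ y ∈ T, y ∈ L → y = 1 ∨ y = w ∨ y = u ∨ y = w * u := by
  obtain ⟨F, _, _, ⟨R⟩⟩ := O.iso
  obtain ⟨d, r, hD⟩ := R.exists_dih (O.sylow B)
  have hd : (d : G) ∈ T := (O.mem_sylow B).1 hD.d_mem
  have hr : (r : G) ∈ T := (O.mem_sylow B).1 hD.r_mem
  have hcomm : (r : G) * d = d * r := O.TL_comm B hr r.2 hd d.2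
  have hdd : d * d = 1 := by
    have h1 := hD.rd
    have h2 : r * d * r⁻¹ = d := by
      rw [mul_inv_eq_iff_eq_mul]; exact Subtype.ext hcomm
    rw [h2] at h1
    nth_rw 1 [h1]
    rw [inv_mul_cancel]
  have hz : ∀ k : ℤ, d ^ k = 1 ∨ d ^ k = d := by
    intro k
    have hsq : d ^ (2 : ℤ) = 1 := by
      rw [show (2 : ℤ) = 1 + 1 by norm_num, zpow_add, zpow_one, hdd]
    rcases Int.even_or_odd' k with ⟨m, rfl | rfl⟩
    · left; rw [zpow_mul, hsq, one_zpow]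
    · right; rw [zpow_add, zpow_mul, hsq, one_zpow, one_mul, zpow_one]
  have hcov : ∀ y ∈ O.sylow B, y = 1 ∨ y = d ∨ y = r ∨ y = d * r := by
    intro y hy
    rcases hD.cov y hy with h | ⟨k, h⟩
    · obtain ⟨k, rfl⟩ := mem_zpowers_iff.1 h
      rcases hz k with h | h
      · exact Or.inl h
      · exact Or.inr (Or.inl h)
    · rcases hz k with h' | h'
      · rw [h', one_mul] at h; exact Or.inr (Or.inr (Or.inl h))
      · rw [h'] at h; exact Or.inr (Or.inr (Or.inr h))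
  have hrd : r ≠ d := fun h => hD.r_not (by rw [h]; exact mem_zpowers d)
  have hcov' : ∀ y ∈ T, y ∈ L → y = 1 ∨ y = d ∨ y = r ∨ y = d * r := by
    intro y hy hyL
    rcases hcov ⟨y, hyL⟩ ((O.mem_sylow B).2 hy) with h | h | h | h
    · exact Or.inl (congrArg Subtype.val h)
    · exact Or.inr (Or.inl (congrArg Subtype.val h))
    · exact Or.inr (Or.inr (Or.inl (congrArg Subtype.val h)))
    · exact Or.inr (Or.inr (Or.inr (congrArg Subtype.val h)))
  have rr : (r : G) * r = 1 := congrArg Subtype.val hD.rr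
  have dd : (d : G) * d = 1 := congrArg Subtype.val hdd
  have r1 : (r : G) ≠ 1 := fun h => hD.r1 (Subtype.ext h)
  have d1 : (d : G) ≠ 1 := fun h => hD.d1 (Subtype.ext h)
  have rd : (r : G) ≠ d := fun h => hrd (Subtype.ext h)
  rcases hcov' w (O.w_mem B) O.wL with h | h | h | h
  · exact absurd h O.w1
  · refine ⟨r, hr, r.2, rr, r1, by rw [h]; exact rd, by rw [h]; exact hcomm.symm, ?_⟩
    intro y hy hyL
    rw [h]; exact hcov' y hy hyL
  · refine ⟨d, hd, d.2, dd, d1, by rw [h]; exact rd.symm, by rw [h]; exact hcomm, ?_⟩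
    intro y hy hyL
    rw [h, hcomm]
    rcases hcov' y hy hyL with h1 | h1 | h1 | h1
    · exact Or.inl h1
    · exact Or.inr (Or.inr (Or.inl h1))
    · exact Or.inr (Or.inl h1)
    · exact Or.inr (Or.inr (Or.inr h1))
  · refine ⟨r, hr, r.2, rr, r1, ?_, ?_, ?_⟩
    · rw [h]; intro h1; exact d1 (right_eq_mul.1 h1)
    · rw [h, mul_assoc, rr, mul_one, ← hcomm, ← mul_assoc, rr, one_mul]
    · intro y hy hyL
      rw [h, mul_assoc, rr, mul_one]
      rcases hcov' y hy hyL with h1 | h1 | h1 | h1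
      · exact Or.inl h1
      · exact Or.inr (Or.inr (Or.inr h1))
      · exact Or.inr (Or.inr (Or.inl h1))
      · exact Or.inr (Or.inl h1)

/-- the action of a noncentral involution of `D` on `L` -/
theorem vact [Finite G] (O : Over x z T K L w) (B : Base x z T K) {u : G} (huT : u ∈ T)
    (huL : u ∈ L) (huu : u * u = 1) (hu1 : u ≠ 1) (huw : u ≠ w) (hwu : w * u = u * w)
    (hcov : ∀ y ∈ T, y ∈ L → y = 1 ∨ y = w ∨ y = u ∨ y = w * u)
    {v : G} (hvT : v ∈ T) (hvK : v ∈ K) (hvv : v * v = 1) (hv1 : v ≠ 1) (hvz : v ≠ z) :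
    ∃ u0 : G, (u0 = u ∨ u0 = w * u) ∧ ∀ l ∈ L, v * l * v⁻¹ = u0 * l * u0⁻¹ := by
  obtain ⟨F, _, _, ⟨R⟩⟩ := O.iso
  have hwT := O.w_mem B
  have hL' : ∀ l ∈ L, v⁻¹ * l * v ∈ L := by
    intro l hl
    have := O.TL v⁻¹ (inv_mem hvT) l hl
    rwa [inv_inv] at this
  have hf : Four (⟨w, O.wL⟩ : L) ⟨u, huL⟩ :=
    { aa := Subtype.ext O.ww
      bb := Subtype.ext huu
      a1 := fun h => O.w1 (congrArg Subtype.val h)
      b1 := fun h => hu1 (congrArg Subtype.val h)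
      ne := fun h => huw (congrArg Subtype.val h).symm
      comm := Subtype.ext hwu }
  have hfix : ∀ y ∈ T, y ∈ L → v * y * v⁻¹ = y := by
    intro y hy hyL
    rw [← O.TL_cent B hy hyL hvT hvK]; group
  have h2 : ∃ n, (act L v (O.TL v hvT) hL') ^ 2 ^ n = 1 := by
    refine ⟨1, MulEquiv.ext fun l => Subtype.ext ?_⟩
    rw [act_pow, pow_one, pow_two, hvv]
    simp
  have hS : ∀ y : L, (∃ n, y ^ 2 ^ n = 1) → y * (⟨w, O.wL⟩ : L) * y⁻¹ = ⟨u, huL⟩ →
      y * (⟨u, huL⟩ : L) * y⁻¹ = ⟨w, O.wL⟩ → False := by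
    rintro ⟨y, hyL⟩ ⟨n, hn⟩ h1 h3
    have hn' : y ^ 2 ^ n = 1 := congrArg Subtype.val hn
    have h1' : y * w * y⁻¹ = u := congrArg Subtype.val h1
    have h3' : y * u * y⁻¹ = w := congrArg Subtype.val h3
    have hnorm : zpowers y ≤ normalizer ((T ⊓ L : Subgroup G) : Set G) := by
      rw [zpowers_le, mem_normalizer_iff]
      have e1 : ∀ t ∈ T ⊓ L, y * t * y⁻¹ ∈ T ⊓ L := by
        intro t ht
        rcases hcov t ht.1 ht.2 with rfl | rfl | rfl | rfl
        · rw [mul_one, mul_inv_cancel]; exact one_mem _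
        · rw [h1']; exact ⟨huT, huL⟩
        · rw [h3']; exact ⟨hwT, O.wL⟩
        · have : y * (w * u) * y⁻¹ = y * w * y⁻¹ * (y * u * y⁻¹) := by group
          rw [this, h1', h3']
          exact ⟨mul_mem huT hwT, mul_mem huL O.wL⟩
      have h1'' : y⁻¹ * u * y = w := by rw [← h1']; group
      have h3'' : y⁻¹ * w * y = u := by rw [← h3']; group
      have e2 : ∀ t ∈ T ⊓ L, y⁻¹ * t * y ∈ T ⊓ L := by
        intro t ht
        rcases hcov t ht.1 ht.2 with rfl | rfl | rfl | rfl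
        · rw [mul_one, inv_mul_cancel]; exact one_mem _
        · rw [h3'']; exact ⟨huT, huL⟩
        · rw [h1'']; exact ⟨hwT, O.wL⟩
        · have : y⁻¹ * (w * u) * y = y⁻¹ * w * y * (y⁻¹ * u * y) := by group
          rw [this, h1'', h3'']
          exact ⟨mul_mem huT hwT, mul_mem huL O.wL⟩
      intro t
      refine ⟨e1 t, fun ht => ?_⟩
      have := e2 _ ht
      have h5 : y⁻¹ * (y * t * y⁻¹) * y = t := by group
      rwa [h5] at this
    have h4 : IsPGroup 2 ((zpowers y ⊔ (T ⊓ L) : Subgroup G)) :=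
      (isPGroup_zpowers ⟨n, hn'⟩).to_sup_of_normal_right' (B.pT.to_le inf_le_left) hnorm
    have h5 := O.syl _ h4 le_sup_right (sup_le (by rw [zpowers_le]; exact hyL) inf_le_right)
    have h6 : y ∈ T := h5 ((le_sup_left : zpowers y ≤ _) (mem_zpowers y))
    rw [O.TL_comm B h6 hyL hwT O.wL, mul_inv_cancel_right] at h1'
    exact huw h1'.symm
  obtain ⟨u0, hu0, hα⟩ := FieldFacts.fix_four_syl R hf hS h2
    (Subtype.ext (hfix w hwT O.wL)) (Subtype.ext (hfix u huT huL))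
  have hact : ∀ l ∈ L, v * l * v⁻¹ = (u0 : G) * l * (u0 : G)⁻¹ := by
    intro l hl
    have h3 := congrArg Subtype.val (DFunLike.congr_fun hα ⟨l, hl⟩)
    rw [act_apply, MulAut.conj_apply] at h3
    exact h3
  obtain ⟨a, haL, haa, hax, hav⟩ := O.inv v hvT hvK hvv hv1 hvz
  refine ⟨u0, ?_, hact⟩
  rcases hu0 with h | h | h | h
  · exfalso
    rw [hact a haL, h] at hav
    simp only [coe_one, one_mul, inv_one, mul_one] at hav
    apply haa
    nth_rw 1 [hav]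
    rw [inv_mul_cancel]
  · exfalso
    rw [hact a haL, h] at hav
    simp only at hav
    rw [← O.wx a haL, ← hax, mul_inv_cancel_right] at hav
    apply haa
    nth_rw 1 [hav]
    rw [inv_mul_cancel]
  · exact Or.inl (by rw [h])
  · exact Or.inr (by rw [h]; rfl)

end Over

namespace Base

variable {x z : G} {T K : Subgroup G}

theorem comm (B : Base x z T K) : x * z = z * x := B.cz x B.xT

/-- the element `ρ₁ ∈ C_K(u)`, `u` an involution of `C_T(D)` outside `⟨x, z⟩` -/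
theorem exists_rho [Finite G] (B : Base x z T K) {u : G} (huT : u ∈ T) (huu : u * u = 1)
    (hu1 : u ≠ 1) (hux : u ≠ x) (huz : u ≠ z) (huxz : u ≠ x * z)
    (hc : ∀ d ∈ T, d ∈ K → u * d = d * u) :
    ∃ ρ ∈ K, ρ * u = u * ρ ∧ ρ * z * ρ⁻¹ ∈ T ∧ ρ * z * ρ⁻¹ ≠ z := by
  obtain ⟨F, _, _, ⟨R⟩⟩ := B.iso
  have hK := B.Kn u (B.cx u huT)
  have hK' : ∀ k ∈ K, u⁻¹ * k * u ∈ K := by
    intro k hk
    have := B.Kn u⁻¹ (B.cx _ (inv_mem huT)) k hk
    rwa [inv_inv] at this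
  set α := act K u hK hK' with hαdef
  have hα2 : α * α = 1 := by
    refine MulEquiv.ext fun l => Subtype.ext ?_
    rw [← pow_two, hαdef, act_pow, pow_two, huu]
    simp
  have hfixD : ∀ d (hd : d ∈ K), d ∈ T → α ⟨d, hd⟩ = ⟨d, hd⟩ := by
    intro d hd hdT
    apply Subtype.ext
    rw [hαdef, act_apply]
    rw [hc d hdT hd, mul_inv_cancel_right]
  have hne : R.fld α ≠ 1 := by
    intro h1
    obtain ⟨v, hvT, hvK, hvv, hv1, hvz, d, hdT, hdK, hdv⟩ := B.na
    rcases FieldFacts.fix_syl R (z := ⟨z, B.zK⟩) (v := ⟨v, hvK⟩) (d := ⟨d, hdK⟩)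
      (Subtype.ext B.zz) (fun h => B.z1 (congrArg Subtype.val h)) (Subtype.ext hvv)
      (fun h => hv1 (congrArg Subtype.val h)) (fun h => hvz (congrArg Subtype.val h))
      (Subtype.ext (B.cz v hvT)) (Subtype.ext (B.cz d hdT)) (fun h => hdv (congrArg Subtype.val h))
      h1 (hfixD z B.zK B.zT) (hfixD v hvK hvT) (hfixD d hdK hdT) with h | h
    · rcases B.CK u huT (fun k hk => by
        have h3 := congrArg Subtype.val (DFunLike.congr_fun h ⟨k, hk⟩)
        rw [hαdef, act_apply] at h3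
        rw [← mul_inv_eq_iff_eq_mul]; exact h3) with h4 | h4
      · exact hu1 h4
      · exact hux h4
    · rcases B.CK (z⁻¹ * u) (mul_mem (inv_mem B.zT) huT) (fun k hk => by
        have h3 := congrArg Subtype.val (DFunLike.congr_fun h ⟨k, hk⟩)
        rw [hαdef, act_apply, MulAut.conj_apply] at h3
        have h4 : u * k * u⁻¹ = z * k * z⁻¹ := h3
        calc z⁻¹ * u * k = z⁻¹ * (u * k * u⁻¹) * u := by group
          _ = z⁻¹ * (z * k * z⁻¹) * u := by rw [h4]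
          _ = k * (z⁻¹ * u) := by group) with h4 | h4
      · exact huz (inv_mul_eq_one.1 h4).symm
      · apply huxz
        rw [inv_mul_eq_iff_eq_mul] at h4
        rw [h4, B.comm]
  have hmax : ∀ P : Subgroup K, IsPGroup 2 P → (T ⊓ K).subgroupOf K ≤ P → P ≤ (T ⊓ K).subgroupOf K := by
    intro Q hQ hle q hq
    have h1 : T ⊓ K ≤ Q.map K.subtype := by
      intro s hs
      exact ⟨⟨s, hs.2⟩, hle (by rw [mem_subgroupOf]; exact hs), rfl⟩
    have h3 := B.sylK _ (hQ.map _) h1 (by rintro _ ⟨q, -, rfl⟩; exact q.2)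
    rw [mem_subgroupOf]
    exact ⟨h3 ⟨q, hq, rfl⟩, q.2⟩
  obtain ⟨ρ, h1, h2, h3⟩ := FieldFacts.exists_move R hα2 hne ((T ⊓ K).subgroupOf K)
    ((B.pT.to_le inf_le_left).comap_of_injective _ K.subtype_injective) hmax
    (fun s hs => hfixD s s.2 (mem_subgroupOf.1 hs).1) (z := ⟨z, B.zK⟩)
    (by rw [mem_subgroupOf]; exact ⟨B.zT, B.zK⟩) (fun h => B.z1 (congrArg Subtype.val h))
    (fun s hs => Subtype.ext (B.cz s (mem_subgroupOf.1 hs).1))
  refine ⟨ρ, ρ.2, ?_, (mem_subgroupOf.1 h2).1, fun h => h3 (Subtype.ext h)⟩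
  have h4 := congrArg Subtype.val h1
  rw [hαdef, act_apply, mul_inv_eq_iff_eq_mul] at h4
  exact h4.symm

/-- **Type (a) components with `w ∈ {x, xz}` do not exist.** -/
theorem false_of_over [Finite G] (B : Base x z T K) {L : Subgroup G} {w : G}
    (O : Over x z T K L w) (hw : w = x ∨ w = x * z) : False := by
  obtain ⟨u, huT, huL, huu, hu1, huw, hwu, hcov⟩ := O.four B
  have hzL := O.z_not B.z1
  have hwL := O.wL
  have huz : u ≠ z := fun h => hzL (h ▸ huL)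
  have hxx := B.xx
  have hzz := B.zz
  have hxz := B.comm
  have huxz : u ≠ x * z := by
    intro h
    rcases hw with h1 | h1
    · apply hzL
      have : z = w * u := by rw [h1, h, ← mul_assoc, hxx, one_mul]
      rw [this]; exact mul_mem hwL huL
    · exact huw (h.trans h1.symm)
  have hux : u ≠ x := by
    intro h
    rcases hw with h1 | h1
    · exact huw (h.trans h1.symm)
    · apply hzL
      have : z = u * w := by rw [h1, h, ← mul_assoc, hxx, one_mul]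
      rw [this]; exact mul_mem huL hwL
  obtain ⟨ρ, hρK, hρu, hρT, hρz⟩ := B.exists_rho huT huu hu1 hux huz huxz
    (fun d hd hdK => O.TL_cent B huT huL hd hdK)
  set v := ρ * z * ρ⁻¹ with hv
  have hvK : v ∈ K := mul_mem (mul_mem hρK B.zK) (inv_mem hρK)
  have hvv : v * v = 1 := by
    rw [hv]
    calc ρ * z * ρ⁻¹ * (ρ * z * ρ⁻¹) = ρ * (z * z) * ρ⁻¹ := by group
      _ = 1 := by rw [hzz]; group
  have hv1 : v ≠ 1 := by
    intro h
    apply B.z1
    have : z = ρ⁻¹ * v * ρ := by rw [hv]; group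
    rw [this, h]; group
  obtain ⟨u0, hu0, hact⟩ := O.vact B huT huL huu hu1 huw hwu hcov hρT hvK hvv hv1 hρz
  -- `b` of order three
  obtain ⟨F, _, _, ⟨R⟩⟩ := O.iso
  have hf : Four (⟨w, O.wL⟩ : L) ⟨u, huL⟩ :=
    { aa := Subtype.ext O.ww
      bb := Subtype.ext huu
      a1 := fun h => O.w1 (congrArg Subtype.val h)
      b1 := fun h => hu1 (congrArg Subtype.val h)
      ne := fun h => huw (congrArg Subtype.val h).symm
      comm := Subtype.ext hwu }
  obtain ⟨-, ⟨b, hbL⟩, -, -, -, -, -, -, -, h1, h2, -⟩ := R.exists_frame hf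
  have hbw : b * w * b⁻¹ = u := congrArg Subtype.val h1
  have hbu : b * u * b⁻¹ = w * u := congrArg Subtype.val h2
  have hbwu : b * (w * u) * b⁻¹ = w := by
    calc b * (w * u) * b⁻¹ = b * w * b⁻¹ * (b * u * b⁻¹) := by group
      _ = u * (w * u) := by rw [hbw, hbu]
      _ = w := by rw [hwu, ← mul_assoc, huu, one_mul]
  have hbw' : b⁻¹ * u * b = w := by rw [← hbw]; group
  have hbu' : b⁻¹ * (w * u) * b = u := by rw [← hbu]; group
  have hbwu' : b⁻¹ * w * b = w * u := by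
    calc b⁻¹ * w * b = b⁻¹ * (b * (w * u) * b⁻¹) * b := by rw [hbwu]
      _ = w * u := by group
  have hbz : b * z = z * b := O.Lz b hbL
  have hu0L : u0 ∈ L := by
    rcases hu0 with h | h
    · rw [h]; exact huL
    · rw [h]; exact mul_mem hwL huL
  have hu0T : u0 ∈ T := by
    rcases hu0 with h | h
    · rw [h]; exact huT
    · rw [h]; exact mul_mem (O.w_mem B) huT
  -- `v` is `u0` times an element centralising `L`
  have hcen : ∀ l ∈ L, v * u0⁻¹ * l = l * (v * u0⁻¹) := by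
    intro l hl
    have h3 := hact (u0⁻¹ * l * u0) (mul_mem (mul_mem (inv_mem hu0L) hl) hu0L)
    calc v * u0⁻¹ * l = v * (u0⁻¹ * l * u0) * v⁻¹ * (v * u0⁻¹) := by group
      _ = u0 * (u0⁻¹ * l * u0) * u0⁻¹ * (v * u0⁻¹) := by rw [h3]
      _ = l * (v * u0⁻¹) := by group
  have hconj : ∀ l ∈ L, l * v * l⁻¹ = v * (u0⁻¹ * (l * u0 * l⁻¹)) := by
    intro l hl
    calc l * v * l⁻¹ = l * (v * u0⁻¹) * (u0 * l⁻¹) := by group
      _ = v * u0⁻¹ * l * (u0 * l⁻¹) := by rw [hcen l hl]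
      _ = v * (u0⁻¹ * (l * u0 * l⁻¹)) := by group
  -- the end
  have hend : ∀ l ∈ L, l * v * l⁻¹ ∈ K → l * u0 * l⁻¹ ∈ T → l * u0 * l⁻¹ = u0 := by
    intro l hl hlK hlT
    have h4 : u0⁻¹ * (l * u0 * l⁻¹) = 1 := by
      apply O.KL B (mul_mem (inv_mem hu0T) hlT)
      · have h5 : u0⁻¹ * (l * u0 * l⁻¹) = v⁻¹ * (l * v * l⁻¹) := by
          rw [hconj l hl]; group
        rw [h5]
        exact mul_mem (inv_mem hvK) hlK
      · exact mul_mem (inv_mem hu0L) (mul_mem (mul_mem hl hu0L) (inv_mem hl))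
    exact (inv_mul_eq_one.1 h4).symm
  have hwT := O.w_mem B
  have hρx : ρ * x = x * ρ := B.Kx ρ hρK
  rcases hw with hwx | hwx
  · -- `w = x`
    have hcx : b⁻¹ * ρ * b * x = x * (b⁻¹ * ρ * b) := by
      have e1 : b * x * b⁻¹ = u := by rw [← hwx]; exact hbw
      calc b⁻¹ * ρ * b * x = b⁻¹ * ρ * (b * x * b⁻¹) * b := by group
        _ = b⁻¹ * (ρ * u) * b := by rw [e1]; group
        _ = b⁻¹ * (u * ρ) * b := by rw [hρu]
        _ = b⁻¹ * (b * x * b⁻¹ * ρ) * b := by rw [e1]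
        _ = x * (b⁻¹ * ρ * b) := by group
    have hzK := B.Kn _ hcx z B.zK
    have e2 : b⁻¹ * ρ * b * z * (b⁻¹ * ρ * b)⁻¹ = b⁻¹ * v * b⁻¹⁻¹ := by
      calc b⁻¹ * ρ * b * z * (b⁻¹ * ρ * b)⁻¹ = b⁻¹ * ρ * (b * z) * b⁻¹ * ρ⁻¹ * b := by group
        _ = b⁻¹ * ρ * (z * b) * b⁻¹ * ρ⁻¹ * b := by rw [hbz]
        _ = b⁻¹ * v * b⁻¹⁻¹ := by rw [hv]; group
    rw [e2] at hzK
    have h5 := hend b⁻¹ (inv_mem hbL) hzK (by
      rw [inv_inv]
      rcases hu0 with h | h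
      · rw [h, hbw']; exact hwT
      · rw [h, hbu']; exact huT)
    rw [inv_inv] at h5
    rcases hu0 with h | h
    · rw [h, hbw'] at h5; exact huw h5.symm
    · rw [h, hbu'] at h5
      exact O.w1 (right_eq_mul.1 h5)
  · -- `w = xz`
    have hxw : x = w * z := by rw [hwx, mul_assoc, hzz, mul_one]
    have e1 : b⁻¹ * x * b = x * u := by
      have hbz' : b⁻¹ * z = z * b⁻¹ := O.Lz _ (inv_mem hbL)
      calc b⁻¹ * x * b = b⁻¹ * (w * z) * b := by rw [← hxw]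
        _ = b⁻¹ * w * (z * b) := by group
        _ = b⁻¹ * w * (b * z) := by rw [hbz]
        _ = b⁻¹ * w * b * z := by group
        _ = w * u * z := by rw [hbwu']
        _ = w * (u * z) := by group
        _ = w * (z * u) := by rw [B.cz u huT]
        _ = w * z * u := by group
        _ = x * u := by rw [← hxw]
    have hcx : b * ρ * b⁻¹ * x = x * (b * ρ * b⁻¹) := by
      calc b * ρ * b⁻¹ * x = b * (ρ * (b⁻¹ * x * b)) * b⁻¹ := by group
        _ = b * (ρ * (x * u)) * b⁻¹ := by rw [e1]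
        _ = b * (ρ * x * u) * b⁻¹ := by group
        _ = b * (x * ρ * u) * b⁻¹ := by rw [hρx]
        _ = b * (x * (ρ * u)) * b⁻¹ := by group
        _ = b * (x * (u * ρ)) * b⁻¹ := by rw [hρu]
        _ = b * (x * u * ρ) * b⁻¹ := by group
        _ = b * (b⁻¹ * x * b * ρ) * b⁻¹ := by rw [e1]
        _ = x * (b * ρ * b⁻¹) := by group
    have hzK := B.Kn _ hcx z B.zK
    have e2 : b * ρ * b⁻¹ * z * (b * ρ * b⁻¹)⁻¹ = b * v * b⁻¹ := by
      have hbz' : b⁻¹ * z = z * b⁻¹ := O.Lz _ (inv_mem hbL)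
      calc b * ρ * b⁻¹ * z * (b * ρ * b⁻¹)⁻¹ = b * ρ * (b⁻¹ * z) * b * ρ⁻¹ * b⁻¹ := by group
        _ = b * ρ * (z * b⁻¹) * b * ρ⁻¹ * b⁻¹ := by rw [hbz']
        _ = b * v * b⁻¹ := by rw [hv]; group
    rw [e2] at hzK
    have h5 := hend b hbL hzK (by
      rcases hu0 with h | h
      · rw [h, hbu]; exact mul_mem hwT huT
      · rw [h, hbwu]; exact hwT)
    rcases hu0 with h | h
    · rw [h, hbu] at h5
      exact O.w1 (mul_eq_right.1 h5)
    · rw [h, hbwu] at h5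
      exact hu1 (left_eq_mul.1 h5)

end Base

end Cfsg.Agent.OddHalf.D6.TypeA
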