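import Cfsg.Agent.OddHalf.D6.SwapG
import Cfsg.Agent.OddHalf.D6.TypeA

/-!
# ODD D6: the components of `C(z)` meeting `A_i = [A, f]` are of type (b) (helper419)

* `Bal.exists_inverted`: some component contains `b ∈ A`, `b ≠ 1`, inverted by `f`;
* `not_inner`: with `TypeA.Base`, `BalG x z A` and `f`: `x` acts on such a component outside `Inn`;
* `exists_typeB`: both.
-/

set_option autoImplicit false

open Subgroup Cfsg Cfsg.Agent.GH

namespace Cfsg.Agent.OddHalf.D6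

/-- transport of a representation -/
def repCongr {F L L' : Type*} [Field F] [Group L] [Group L'] (R : L2Aut.Rep F L) (e : L ≃* L') :
    L2Aut.Rep F L' where
  π := e.toMonoidHom.comp R.π
  surj := e.surjective.comp R.surj
  ker := fun x => by
    rw [← R.ker]
    change e (R.π x) = 1 ↔ _
    rw [map_eq_one_iff e e.injective]
  two := R.two

theorem IsL2.congr {L L' : Type*} [Group L] [Group L'] (h : IsL2 L) (e : L ≃* L') : IsL2 L' := by
  obtain ⟨F, i1, i2, ⟨R⟩⟩ := h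
  exact ⟨F, i1, i2, ⟨repCongr R e⟩⟩

namespace Bal

variable {H : Type*} [Group H] [Finite H] {x : H} {A : Subgroup H} (B : Bal x A)

include B

/-- some component contains a nontrivial element of `A` inverted by `f` -/
theorem exists_inverted (hO : oddCore H = ⊥) (hW : ∀ L : Subgroup H, IsComponent L → IsL2 L)
    {f a : H} (hf : f * x = x * f) (ha : a ∈ A) (ha1 : a ≠ 1) (hfa : f * a * f⁻¹ = a⁻¹) :
    ∃ L : Subgroup H, IsComponent L ∧ ∃ b ∈ A, b ∈ L ∧ b ≠ 1 ∧ f * b * f⁻¹ = b⁻¹ := by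
  by_contra hcon
  push Not at hcon
  apply ha1
  refine B.eq_one_of_comm hO ha fun L hL => ?_
  obtain ⟨F, _, _, ⟨R⟩⟩ := hW L hL
  obtain ⟨b, hbA, hbL, hb⟩ := B.decomp R hL ha
  by_cases hb1 : b = 1
  · rw [hb1, inv_one, one_mul] at hb
    exact hb
  exfalso
  apply hcon L hL b hbA hbL hb1
  have hfL := B.norm_of_mem R hL hbA hbL hb1 hf
  have hfL' := B.norm_of_mem R hL hbA hbL hb1 (h := f⁻¹) (by
    rw [inv_mul_eq_iff_eq_mul, ← mul_assoc, hf, mul_inv_cancel_right])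
  rw [inv_inv] at hfL'
  set c := b⁻¹ * a with hc
  have hcA : c ∈ A := mul_mem (inv_mem hbA) ha
  have hac : a = b * c := by rw [hc]; group
  -- `b (f b f⁻¹)` centralises `L`
  have h1 : f * b * f⁻¹ * (f * c * f⁻¹) = b⁻¹ * c⁻¹ := by
    calc f * b * f⁻¹ * (f * c * f⁻¹) = f * (b * c) * f⁻¹ := by group
      _ = (b * c)⁻¹ := by rw [← hac, hfa]
      _ = b⁻¹ * c⁻¹ := by
        rw [mul_inv_rev, B.ab _ (inv_mem hcA) _ (inv_mem hbA)]
  have h2 : b * (f * b * f⁻¹) = c⁻¹ * (f * c * f⁻¹)⁻¹ := by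
    rw [eq_mul_inv_iff_mul_eq, mul_assoc, h1]; group
  have hfc : ∀ m ∈ L, (f * c * f⁻¹) * m = m * (f * c * f⁻¹) := by
    intro m hm
    have h3 := hb (f⁻¹ * m * f) (hfL' m hm)
    calc f * c * f⁻¹ * m = f * (c * (f⁻¹ * m * f)) * f⁻¹ := by group
      _ = f * (f⁻¹ * m * f * c) * f⁻¹ := by rw [h3]
      _ = m * (f * c * f⁻¹) := by group
  have h3 : b * (f * b * f⁻¹) = 1 := by
    apply eq_one_of_central R (mul_mem hbL (hfL b hbL))
    intro m hm
    rw [h2]
    have e1 : Commute c m := hb m hm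
    have e2 : Commute (f * c * f⁻¹) m := hfc m hm
    exact (e1.inv_left.mul_left e2.inv_left).eq
  exact (eq_inv_of_mul_eq_one_right h3)

end Bal

variable {G : Type*} [Group G]

/-- A component of `C(z)` containing `b ∈ A`, `b ≠ 1`, inverted by `f` is of type (b). -/
theorem not_inner [Finite G] {x z : G} {T K A : Subgroup G} (B : TypeA.Base x z T K)
    (BG : BalG x z A)
    (hD : ∀ v ∈ T, v ∈ K → v * v = 1 → v ≠ 1 → v ≠ z → ∀ a ∈ A, v * a * v⁻¹ = a⁻¹) {f : G}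
    (hZ : ∀ v ∈ T, v * v = 1 → v ≠ 1 → (∀ t ∈ T, t * v = v * t) → v = x ∨ v = z ∨ v = x * z ∨
      ∀ a ∈ A, f * a * f⁻¹ = a⁻¹ → v * a * v⁻¹ = a⁻¹)
    {L : Subgroup (centralizer ({z} : Set G))} (hL : IsComponent L) (hL2 : IsL2 L)
    {b : centralizer ({z} : Set G)} (hbA : (b : G) ∈ A) (hbL : b ∈ L) (hb1 : b ≠ 1)
    (hfb : f * (b : G) * f⁻¹ = (b : G)⁻¹)
    (hx : BG.x' ∈ normalizer (L : Set (centralizer ({z} : Set G)))) :
    act L BG.x' hx ∉ L2Aut.Inn L := by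
  intro hi
  obtain ⟨F, _, _, ⟨R⟩⟩ := hL2
  have hTz := B.cz
  have hbA' : b ∈ A.subgroupOf (centralizer ({z} : Set G)) := by rw [mem_subgroupOf]; exact hbA
  rcases BG.bal.types R hx with ⟨w, hw, hw1, hww, hxw⟩ | ⟨-, h⟩
  swap
  · exact h hi
  have hc := fun h hh => BG.bal.inner_central R hL hbA' hbL hb1 hw hxw (h := h) hh
  have pT' : IsPGroup 2 (T.subgroupOf (centralizer ({z} : Set G))) :=
    B.pT.comap_of_injective _ (Subgroup.subtype_injective _)
  have hTx' : ∀ t ∈ T.subgroupOf (centralizer ({z} : Set G)), t * BG.x' = BG.x' * t := by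
    intro t ht
    exact Subtype.ext (B.cx t (mem_subgroupOf.1 ht))
  have hmax' := BG.max' (T := T) hTz (fun P hP hle hPx _ => B.max P hP hle hPx)
  obtain ⟨hwT, hsyl⟩ := BG.bal.inner_sylow R hL hbA' hbL hb1 hw hw1 hww hxw pT' hTx' hmax'
  have hwT' : (w : G) ∈ T := mem_subgroupOf.1 hwT
  have hTle : T ≤ centralizer ({z} : Set G) := fun t ht => mem_centralizer_singleton_iff.2 (hTz t ht)
  have hwc : ∀ t ∈ T, t * (w : G) = w * t := by
    intro t ht
    exact congrArg Subtype.val (hc ⟨t, hTle ht⟩ (Subtype.ext (B.cx t ht)))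
  have hww' : (w : G) * w = 1 := congrArg Subtype.val hww
  have hw1' : (w : G) ≠ 1 := fun h => hw1 (Subtype.ext h)
  have hmem : ∀ g : G, g ∈ L.map (Subgroup.subtype _) ↔ ∃ h : g ∈ centralizer ({z} : Set G), ⟨g, h⟩ ∈ L := by
    intro g
    constructor
    · rintro ⟨l, hl, rfl⟩
      exact ⟨l.2, hl⟩
    · rintro ⟨h, hl⟩
      exact ⟨⟨g, h⟩, hl, rfl⟩
  -- `w ∈ {x, xz}`
  have hb2 : (b : G) * b ≠ 1 := by
    intro h
    exact hb1 (BG.bal.one_of_sq hbA' (Subtype.ext h))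
  have hw' : (w : G) = x ∨ (w : G) = x * z := by
    rcases hZ w hwT' hww' hw1' hwc with h | h | h | h
    · exact Or.inl h
    · exfalso
      apply hw1
      apply Bal.eq_one_of_central R hw
      intro m _
      apply Subtype.ext
      show (w : G) * m = m * w
      rw [h]
      exact (mem_centralizer_singleton_iff.1 m.2).symm
    · exact Or.inr h
    · exfalso
      have h1 := h b hbA hfb
      have h2 : (b : G) * w = w * b :=
        congrArg Subtype.val (hc b (Subtype.ext (BG.ax b hbA)))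
      rw [← h2, mul_inv_cancel_right] at h1
      apply hb2
      nth_rw 1 [h1]
      rw [inv_mul_cancel]
  refine B.false_of_over (L := L.map (Subgroup.subtype _)) (w := (w : G)) ?_ hw'
  refine
    { Lz := ?_
      TL := ?_
      wL := ⟨w, hw, rfl⟩
      ww := hww'
      w1 := hw1'
      wx := ?_
      iso := ⟨F, _, inferInstance,
        ⟨repCongr R (L.equivMapOfInjective _ (Subgroup.subtype_injective _))⟩⟩
      syl := ?_
      inv := ?_ }
  · rintro _ ⟨l, -, rfl⟩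
    exact mem_centralizer_singleton_iff.1 l.2
  · rintro t ht _ ⟨l, hl, rfl⟩
    exact ⟨_, BG.bal.norm_of_mem R hL hbA' hbL hb1 (h := ⟨t, hTle ht⟩)
      (Subtype.ext (B.cx t ht)) l hl, rfl⟩
  · rintro _ ⟨l, hl, rfl⟩
    exact congrArg Subtype.val (hxw l hl)
  · intro P hP hle hPL p hp
    have hPz : P ≤ centralizer ({z} : Set G) := by
      intro q hq
      obtain ⟨l, -, rfl⟩ := hPL hq
      exact l.2
    have h1 := hsyl (P.subgroupOf (centralizer ({z} : Set G)))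
      (hP.comap_of_injective _ (Subgroup.subtype_injective _)) (by
        intro y hy
        rw [mem_subgroupOf]
        exact hle ⟨mem_subgroupOf.1 hy.1, ⟨y, hy.2, rfl⟩⟩) (by
        intro y hy
        obtain ⟨l, hl, he⟩ := hPL (mem_subgroupOf.1 hy)
        have : l = y := Subtype.ext he
        rw [← this]; exact hl)
    exact mem_subgroupOf.1 (h1 (x := ⟨p, hPz hp⟩) (by rw [mem_subgroupOf]; exact hp))
  · intro v hvT hvK hvv hv1 hvz
    exact ⟨b, ⟨b, hbL, rfl⟩, hb2, BG.ax b hbA, hD v hvT hvK hvv hv1 hvz b hbA⟩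

/-- There is a component of type (b) containing `b ∈ A`, `b ≠ 1`, inverted by `f`. -/
theorem exists_typeB [Finite G] {x z : G} {T K A : Subgroup G} (B : TypeA.Base x z T K)
    (BG : BalG x z A) (hO : oddCore ↥(centralizer ({z} : Set G)) = ⊥)
    (hW : ∀ L : Subgroup ↥(centralizer ({z} : Set G)), IsComponent L → IsL2 L)
    (hD : ∀ v ∈ T, v ∈ K → v * v = 1 → v ≠ 1 → v ≠ z → ∀ a ∈ A, v * a * v⁻¹ = a⁻¹) {f : G}
    (hfT : f ∈ T)
    (hZ : ∀ v ∈ T, v * v = 1 → v ≠ 1 → (∀ t ∈ T, t * v = v * t) → v = x ∨ v = z ∨ v = x * z ∨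
      ∀ a ∈ A, f * a * f⁻¹ = a⁻¹ → v * a * v⁻¹ = a⁻¹)
    {a : G} (ha : a ∈ A) (ha1 : a ≠ 1) (hfa : f * a * f⁻¹ = a⁻¹) :
    ∃ L : Subgroup (centralizer ({z} : Set G)), IsComponent L ∧ IsL2 L ∧
      ∃ b ∈ A.subgroupOf (centralizer ({z} : Set G)), b ∈ L ∧ b ≠ 1 ∧ f * (b : G) * f⁻¹ = (b : G)⁻¹ ∧
      ∀ hx : BG.x' ∈ normalizer (L : Set (centralizer ({z} : Set G))), act L BG.x' hx ∉ L2Aut.Inn L := by
  have hfz : f ∈ centralizer ({z} : Set G) := mem_centralizer_singleton_iff.2 (B.cz f hfT)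
  obtain ⟨L, hL, b, hbA, hbL, hb1, hfb⟩ := BG.bal.exists_inverted hO hW (f := ⟨f, hfz⟩)
    (a := ⟨a, BG.A_le ha⟩) (Subtype.ext (B.cx f hfT)) (by rw [mem_subgroupOf]; exact ha)
    (fun h => ha1 (congrArg Subtype.val h)) (Subtype.ext hfa)
  have hfb' : f * (b : G) * f⁻¹ = (b : G)⁻¹ := congrArg Subtype.val hfb
  refine ⟨L, hL, hW L hL, b, hbA, hbL, hb1, hfb', fun hx => ?_⟩
  exact not_inner B BG hD hZ hL (hW L hL) (mem_subgroupOf.1 hbA) hbL hb1 hfb' hx

end Cfsg.Agent.OddHalf.D6
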