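import Cfsg.Agent.OddHalf.D6.CentRes
import Cfsg.Agent.OddHalf.D6.TypeB
import Cfsg.Agent.TwoFusion.CyclicAut

/-!
# ODD D6: the components of `C(z)` and of `C(xz)` meeting `A₀ = O(C_K(z))`, at the level of `G`

`f : FrQ x z q₀ K` (`Fr.toQ` for `Q = ⟨x⟩`), `A0 z K`, `z'` with `C(x) ∩ C(z') = C(x) ∩ C(z)` (`z' = z` or `z' = x z`).
-/

set_option autoImplicit false

open Subgroup Cfsg Cfsg.Agent.GH
open Cfsg.Agent.GH.L2Aut (Four)

namespace Cfsg.Agent.OddHalf.D6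

/-- `O(C_K(z))` -/
def A0 {G : Type*} [Group G] (z : G) (K : Subgroup G) : Subgroup G :=
  closure {a | a ∈ K ∧ a * z = z * a ∧ Odd (orderOf a)}

/-- `L` is a component of `C(z)` -/
def Comp {G : Type*} [Group G] (z : G) (L : Subgroup G) : Prop :=
  ∃ L' : Subgroup ↥(centralizer ({z} : Set G)), IsComponent L' ∧
    L'.map (centralizer ({z} : Set G)).subtype = L

/-- all components of `C(z)` are `PSL(2,F)`'s of odd characteristic, and `O(C(z)) = 1` -/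
structure World {G : Type*} [Group G] (z : G) : Prop where
  core : oddCore ↥(centralizer ({z} : Set G)) = ⊥
  comp : ∀ L : Subgroup G, Comp z L → IsL2 L

theorem mem_cent {G : Type*} [Group G] {z g : G} :
    g ∈ centralizer ({z} : Set G) ↔ g * z = z * g := mem_centralizer_singleton_iff

theorem Comp.comm {G : Type*} [Group G] {z : G} {L : Subgroup G} (h : Comp z L) :
    ∀ l ∈ L, l * z = z * l := by
  obtain ⟨L', -, rfl⟩ := h
  rintro _ ⟨l, -, rfl⟩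
  exact mem_cent.1 l.2

theorem World.comp' {G : Type*} [Group G] {z : G} (W : World z) :
    ∀ L : Subgroup ↥(centralizer ({z} : Set G)), IsComponent L → IsL2 L := by
  intro L hL
  exact (W.comp _ ⟨L, hL, rfl⟩).congr
    (L.equivMapOfInjective _ (centralizer ({z} : Set G)).subtype_injective).symm

namespace FrQ

variable {G : Type*} [Group G] [Finite G] {x z q₀ : G} {K : Subgroup G} (f : FrQ x z q₀ K)
  {F : Type*} [Field F] [Finite F] (R : L2Aut.Rep F K)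

include f R

theorem A0_data : (∀ a, a ∈ A0 z K ↔ a ∈ K ∧ a * z = z * a ∧ Odd (orderOf a)) ∧
      (∃ g ∈ A0 z K, ∀ a ∈ A0 z K, a ∈ zpowers g) ∧ Odd (Nat.card (A0 z K)) ∧
      (∃ v ∈ K, v * z = z * v ∧ v * v = 1 ∧ v ≠ z ∧ v ≠ 1 ∧ ∀ a ∈ A0 z K, v * a * v⁻¹ = a⁻¹) ∧
      (∀ y v, y * x = x * y → v * x = x * v → y * z = z * y → v * z = z * v → Odd (orderOf y) →
        y * v * y⁻¹ * v⁻¹ ∈ A0 z K) := by
  obtain ⟨A, hA, h⟩ := f.exists_A R
  have h1 : A0 z K = A := by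
    apply le_antisymm
    · rw [A0, closure_le]
      intro a ha
      exact (hA a).2 ha
    · intro a ha
      exact subset_closure ((hA a).1 ha)
  rw [h1]
  exact ⟨hA, h⟩

theorem mem_A0 {a : G} : a ∈ A0 z K ↔ a ∈ K ∧ a * z = z * a ∧ Odd (orderOf a) := (f.A0_data R).1 a

theorem A0_norm {a c : G} (ha : a ∈ A0 z K) (hcx : c * x = x * c) (hcz : c * z = z * c) :
    c * a * c⁻¹ ∈ A0 z K := by
  obtain ⟨h1, h2, h3⟩ := (f.mem_A0 R).1 ha
  refine (f.mem_A0 R).2 ⟨f.Kn c hcx a h1, ?_, ?_⟩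
  · calc c * a * c⁻¹ * z = c * a * c⁻¹ * (z * c) * c⁻¹ := by group
      _ = c * a * c⁻¹ * (c * z) * c⁻¹ := by rw [hcz]
      _ = c * (a * z) * c⁻¹ := by group
      _ = (c * z) * a * c⁻¹ := by rw [h2]; group
      _ = z * (c * a * c⁻¹) := by rw [hcz]; group
  · have h4 : orderOf (c * a * c⁻¹) = orderOf a :=
      orderOf_injective (MulAut.conj c).toMonoidHom (MulAut.conj c).injective a
    rw [h4]; exact h3

/-- involutions of `C_K(z)` other than `z` invert `A₀` -/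
theorem inv_A0 {v : G} (hv : v ∈ K) (hvz : v * z = z * v) (hvv : v * v = 1) (hv1 : v ≠ 1)
    (hvne : v ≠ z) : ∀ a ∈ A0 z K, v * a * v⁻¹ = a⁻¹ := by
  have hz1' : (⟨z, f.zK⟩ : K) ≠ 1 := fun h => f.z1 (congrArg Subtype.val h)
  have hzz' : (⟨z, f.zK⟩ : K) * ⟨z, f.zK⟩ = 1 := Subtype.ext f.zz
  obtain ⟨T, A', -, hAT, -, -, hA, -, huniq, hout, -⟩ := exists_oddPart R hz1' hzz'
  intro a ha
  obtain ⟨h1, h2, h3⟩ := (f.mem_A0 R).1 ha
  have haA : (⟨a, h1⟩ : K) ∈ A' := (hA _).2 ⟨Subtype.ext h2, by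
    rw [← Subgroup.orderOf_coe]; exact h3⟩
  have hvT : (⟨v, hv⟩ : K) ∉ T := by
    intro h
    rcases huniq _ h (Subtype.ext hvv) with h4 | h4
    · exact hv1 (congrArg Subtype.val h4)
    · exact hvne (congrArg Subtype.val h4)
  exact congrArg Subtype.val ((hout ⟨v, hv⟩ (Subtype.ext hvz) hvT).2 _ (hAT haA))

variable {z' : G} (hz' : ∀ c, c * x = x * c → (c * z' = z' * c ↔ c * z = z * c))

include hz'

omit [Finite G] R [Field F] [Finite F] in
/-- the subgroup `C(z')` contains `x` and `A₀` -/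
theorem x_mem : x ∈ centralizer ({z'} : Set G) := mem_cent.2 ((hz' x rfl).2 f.zx.symm)

theorem A0_le : A0 z K ≤ centralizer ({z'} : Set G) := fun a ha =>
  mem_cent.2 ((hz' a (f.Kx a ((f.mem_A0 R).1 ha).1)).2 ((f.mem_A0 R).1 ha).2.1)

theorem bal : Bal (⟨x, f.x_mem hz'⟩ : ↥(centralizer ({z'} : Set G)))
    ((A0 z K).subgroupOf (centralizer ({z'} : Set G))) := by
  obtain ⟨hmem, ⟨g, hg, hgen⟩, hodd, ⟨v, hvK, hvz, hvv, -, -, hinv⟩, hres⟩ := f.A0_data R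
  have hle := f.A0_le R hz'
  have hz'' : ∀ c : ↥(centralizer ({z'} : Set G)), (c : G) * x = x * c → (c : G) * z = z * c :=
    fun c hc => (hz' c hc).1 (mem_cent.1 c.2)
  refine ⟨Subtype.ext f.xx, ?_, ⟨⟨g, hle hg⟩, hg, ?_⟩, ?_, ?_, ?_⟩
  · rw [Nat.card_congr (subgroupOfEquivOfLe hle).toEquiv]
    exact hodd
  · rintro ⟨a, ha'⟩ ha
    obtain ⟨k, hk⟩ := mem_zpowers_iff.1 (hgen a ha)
    exact mem_zpowers_iff.2 ⟨k, Subtype.ext hk⟩
  · rintro ⟨a, ha'⟩ ha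
    exact Subtype.ext (f.Kx a ((hmem a).1 ha).1)
  · refine ⟨⟨v, mem_cent.2 ((hz' v (f.Kx v hvK)).2 hvz)⟩, Subtype.ext (f.Kx v hvK), ?_⟩
    rintro ⟨a, ha'⟩ ha
    exact Subtype.ext (hinv a ha)
  · intro y w hy hw ho
    have hy' : (y : G) * x = x * y := congrArg Subtype.val hy
    have hw' : (w : G) * x = x * w := congrArg Subtype.val hw
    exact hres y w hy' hw' (hz'' y hy') (hz'' w hw') (by rw [Subgroup.orderOf_coe]; exact ho)

/-- helper419's `BalG` -/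
theorem balG : BalG x z' (A0 z K) := by
  obtain ⟨hmem, hcyc, hodd, ⟨v, hvK, hvz, hvv, -, -, hinv⟩, hres⟩ := f.A0_data R
  exact
    { xx := f.xx
      xu := mem_cent.1 (f.x_mem hz')
      odd := hodd
      cyc := hcyc
      ax := fun a ha => f.Kx a ((hmem a).1 ha).1
      au := fun a ha => mem_cent.1 (f.A0_le R hz' ha)
      inv := ⟨v, f.Kx v hvK, (hz' v (f.Kx v hvK)).2 hvz, hinv⟩
      res := fun y w hyx hyz hwx hwz ho =>
        hres y w hyx hwx ((hz' y hyx).1 hyz) ((hz' w hwx).1 hwz) ho }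

variable (W : World z')

include W

/-- every `a ∈ A₀` of prime order lies in a component of `C(z')` -/
theorem exists_comp {a : G} (ha : a ∈ A0 z K) (hp : (orderOf a).Prime) : ∃ L, Comp z' L ∧ a ∈ L := by
  have B := f.bal R hz'
  obtain ⟨a', ha'⟩ : ∃ a' : ↥(centralizer ({z'} : Set G)), (a' : G) = a := ⟨⟨a, f.A0_le R hz' ha⟩, rfl⟩
  have haA : a' ∈ (A0 z K).subgroupOf (centralizer ({z'} : Set G)) := by
    change (a' : G) ∈ A0 z K
    rw [ha']; exact ha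
  have hord : orderOf a' = orderOf a := by rw [← ha', Subgroup.orderOf_coe]
  have ha1 : a' ≠ 1 := by
    intro h
    rw [h, orderOf_one] at hord
    rw [← hord] at hp
    exact Nat.not_prime_one hp
  -- a component not centralised by `a`
  obtain ⟨L, hL, hLa⟩ : ∃ L : Subgroup ↥(centralizer ({z'} : Set G)), IsComponent L ∧
      ¬ ∀ l ∈ L, a' * l = l * a' := by
    by_contra hcon
    push Not at hcon
    exact ha1 (B.eq_one_of_comm W.core haA hcon)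
  obtain ⟨F', _, _, ⟨R'⟩⟩ := W.comp' L hL
  obtain ⟨b, hbA, hbL, hb⟩ := B.decomp R' hL haA
  refine ⟨_, ⟨L, hL, rfl⟩, a', ?_, ha'⟩
  -- `a ∈ ⟨b⟩`
  have hcomm : Commute b (b⁻¹ * a') := (hb b hbL).symm
  have hp' : a' ^ orderOf a = 1 := by rw [← hord, pow_orderOf_eq_one]
  have h1 : b ^ orderOf a * (b⁻¹ * a') ^ orderOf a = 1 := by
    rw [← hcomm.mul_pow, mul_inv_cancel_left, hp']
  have h2 : b ^ orderOf a = 1 := by
    refine Bal.eq_one_of_central R' (L.pow_mem hbL _) fun m hm => ?_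
    have h3 : b ^ orderOf a = ((b⁻¹ * a') ^ orderOf a)⁻¹ := eq_inv_of_mul_eq_one_left h1
    rw [h3]
    exact ((show Commute (b⁻¹ * a') m from hb m hm).pow_left _).inv_left
  have hb1 : b ≠ 1 := by
    intro h
    apply hLa
    rw [h, inv_one, one_mul] at hb
    exact hb
  -- both `a` and `b` have order `p` in a cyclic group
  have hob : orderOf b = orderOf a := by
    rcases (Nat.dvd_prime hp).1 (orderOf_dvd_of_pow_eq_one h2) with h | h
    · exact absurd (orderOf_eq_one_iff.1 h) hb1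
    · exact h
  obtain ⟨g, hg, hgen⟩ := B.cyc
  have h4 : zpowers a' = zpowers b := by
    have hcyc : IsCyclic (zpowers g) := inferInstance
    have e : ∀ y : zpowers g, orderOf y = orderOf (y : ↥(centralizer ({z'} : Set G))) := fun y =>
      (Subgroup.orderOf_coe y).symm
    have h5 := Cfsg.Agent.TwoFusion.CyclicAut.zpowers_eq_of_orderOf_eq
      (⟨a', hgen a' haA⟩ : zpowers g) ⟨b, hgen b hbA⟩
      (by rw [e, e]; exact hord.trans hob.symm)
    have h6 := congrArg (Subgroup.map (zpowers g).subtype) h5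
    rw [MonoidHom.map_zpowers, MonoidHom.map_zpowers] at h6
    exact h6
  have h5 : a' ∈ zpowers b := by rw [← h4]; exact mem_zpowers a'
  exact (zpowers_le.2 hbL) h5


/-- `a = b (b⁻¹ a)`, `b ∈ A₀ ∩ L`, `b⁻¹ a` centralises `L` -/
theorem decomp {L : Subgroup G} (hL : Comp z' L) {a : G} (ha : a ∈ A0 z K) :
    ∃ b ∈ A0 z K, b ∈ L ∧ ∀ l ∈ L, b⁻¹ * a * l = l * (b⁻¹ * a) := by
  obtain ⟨L', hL', rfl⟩ := hL
  obtain ⟨F', _, _, ⟨R'⟩⟩ := W.comp' L' hL'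
  obtain ⟨b, hbA, hbL, hb⟩ := (f.bal R hz').decomp R' hL' (a := ⟨a, f.A0_le R hz' ha⟩) ha
  refine ⟨b, hbA, ⟨b, hbL, rfl⟩, ?_⟩
  rintro _ ⟨l, hl, rfl⟩
  exact congrArg Subtype.val (hb l hl)

/-- `C(x) ∩ C(z)` normalises a component meeting `A₀` -/
theorem norm_comp {L : Subgroup G} (hL : Comp z' L) {a : G} (ha : a ∈ A0 z K) (haL : a ∈ L)
    (ha1 : a ≠ 1) {c : G} (hcx : c * x = x * c) (hcz : c * z = z * c) :
    ∀ l ∈ L, c * l * c⁻¹ ∈ L := by
  obtain ⟨L', hL', rfl⟩ := hL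
  obtain ⟨F', _, _, ⟨R'⟩⟩ := W.comp' L' hL'
  obtain ⟨a', haL', rfl⟩ := haL
  rintro _ ⟨l, hl, rfl⟩
  have h1 := (f.bal R hz').norm_of_mem R' hL' (a := a') ha haL'
    (fun h => ha1 (by rw [h]; rfl))
    (h := ⟨c, mem_cent.2 ((hz' c hcx).2 hcz)⟩) (Subtype.ext hcx) l hl
  exact ⟨_, h1, rfl⟩

/-- the elements of odd order of `C_L(x)` lie in `A₀`, for every component `L` of `C(z')` -/
theorem odd_mem {L : Subgroup G} (hL : Comp z' L) {y : G} (hy : y ∈ L) (hyx : y * x = x * y)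
    (ho : Odd (orderOf y)) : y ∈ A0 z K := by
  obtain ⟨L', hL', rfl⟩ := hL
  obtain ⟨F', _, _, ⟨R'⟩⟩ := W.comp' L' hL'
  obtain ⟨y', hy', rfl⟩ := hy
  have B := f.bal R hz'
  obtain ⟨C, v, -, -, -, -, -, -, -, -, h⟩ := B.cent_data R' (B.x_norm R' hL')
  exact (h ⟨y', hy'⟩ (Subtype.ext hyx) (by
    change Odd (orderOf y')
    rw [← Subgroup.orderOf_coe]; exact ho)).2

/-- `x` normalises every component of `C(z')` -/
theorem x_norm_comp {L : Subgroup G} (hL : Comp z' L) : ∀ l ∈ L, x * l * x⁻¹ ∈ L := by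
  obtain ⟨L', hL', rfl⟩ := hL
  obtain ⟨F', _, _, ⟨R'⟩⟩ := W.comp' L' hL'
  rintro _ ⟨l, hl, rfl⟩
  exact ⟨_, (f.bal R hz').norm_comp R' hL' l hl, rfl⟩

/-- the two types -/
theorem types {L : Subgroup G} (hL : Comp z' L) {a : G} (ha : a ∈ A0 z K) (haL : a ∈ L)
    (ha1 : a ≠ 1) {T : Subgroup G} (pT : IsPGroup 2 T) (Tx : ∀ t ∈ T, t * x = x * t)
    (Tz : ∀ t ∈ T, t * z = z * t)
    (max : ∀ P : Subgroup G, IsPGroup 2 P → T ≤ P → (∀ y ∈ P, y * x = x * y) → P ≤ T) :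
    (∃ w ∈ L, w ∈ T ∧ w ≠ 1 ∧ w * w = 1 ∧ (∀ l ∈ L, x * l * x⁻¹ = w * l * w⁻¹) ∧
        (∀ c, c * x = x * c → c * z = z * c → c * w = w * c) ∧
        (∀ P : Subgroup G, IsPGroup 2 P → T ⊓ L ≤ P → P ≤ L → P ≤ T)) ∨
      (∃ v ∈ L, v ∈ T ∧ v ≠ 1 ∧ v * v = 1 ∧ (∀ t ∈ T, t * v = v * t) ∧
        (∀ u ∈ T, u ∈ L → u = 1 ∨ u = v) ∧ (∀ a ∈ A0 z K, a ∈ L → v * a * v⁻¹ = a⁻¹) ∧
        ¬ ∃ w ∈ L, ∀ l ∈ L, x * l * x⁻¹ = w * l * w⁻¹) := by
  have B := f.bal R hz'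
  have hLT := fun c hcx hcz => f.norm_comp R hz' W hL ha haL ha1 (c := c) hcx hcz
  obtain ⟨L', hL', rfl⟩ := hL
  obtain ⟨F', _, _, ⟨R'⟩⟩ := W.comp' L' hL'
  obtain ⟨a', haL', rfl⟩ := haL
  have ha1' : a' ≠ 1 := fun h => ha1 (by rw [h]; rfl)
  have hx := B.x_norm R' hL'
  have Tz' : T ≤ centralizer ({z'} : Set G) := fun t ht => mem_cent.2 ((hz' t (Tx t ht)).2 (Tz t ht))
  set H : Subgroup G := centralizer ({z'} : Set G) with hH
  have pT' : IsPGroup 2 (T.subgroupOf H) := pT.comap_subtype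
  have Tx' : ∀ t ∈ T.subgroupOf H, t * (⟨x, f.x_mem hz'⟩ : H) = ⟨x, f.x_mem hz'⟩ * t :=
    fun t ht => Subtype.ext (Tx t ht)
  have max' : ∀ P : Subgroup H, IsPGroup 2 P → T.subgroupOf H ≤ P →
      (∀ y ∈ P, y * (⟨x, f.x_mem hz'⟩ : H) = ⟨x, f.x_mem hz'⟩ * y) → P ≤ T.subgroupOf H := by
    intro P hP hTP hPx y hy
    have h1 : P.map H.subtype ≤ T := by
      refine max _ (hP.map _) ?_ ?_
      · intro t ht
        exact ⟨⟨t, Tz' ht⟩, hTP ht, rfl⟩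
      · rintro _ ⟨y, hy, rfl⟩
        exact congrArg Subtype.val (hPx y hy)
    exact h1 ⟨y, hy, rfl⟩
  rcases B.types R' hx with ⟨w, hw, hw1, hww, hwx⟩ | ⟨-, hb⟩
  · left
    obtain ⟨hwT, hsyl⟩ := B.inner_sylow R' hL' ha haL' ha1' hw hw1 hww hwx pT' Tx' max'
    refine ⟨w, ⟨w, hw, rfl⟩, hwT, fun h => hw1 (Subtype.ext h), congrArg Subtype.val hww, ?_, ?_, ?_⟩
    · rintro _ ⟨l, hl, rfl⟩
      exact congrArg Subtype.val (hwx l hl)
    · intro c hcx hcz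
      exact congrArg Subtype.val (B.inner_central R' hL' ha haL' ha1' hw hwx
        (h := ⟨c, mem_cent.2 ((hz' c hcx).2 hcz)⟩) (Subtype.ext hcx))
    · intro P hP hTP hPL y hy
      have h1 : P.subgroupOf H ≤ T.subgroupOf H := by
        refine hsyl _ hP.comap_subtype ?_ ?_
        · rintro t ⟨ht, htL⟩
          exact hTP ⟨ht, ⟨t, htL, rfl⟩⟩
        · rintro t ht
          obtain ⟨l, hl, hlt⟩ := hPL ht
          rw [← show l = t from Subtype.ext hlt]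
          exact hl
      obtain ⟨l, hl, rfl⟩ := hPL hy
      exact h1 (show l ∈ P.subgroupOf H from hy)
  · right
    obtain ⟨v, hvT, hvL, hvv, hv1, hvc, hvu, hvi⟩ :=
      B.outer_sylow R' hL' hx hb ha haL' ha1' pT' Tx' max'
    refine ⟨v, ⟨v, hvL, rfl⟩, hvT, fun h => hv1 (Subtype.ext h), congrArg Subtype.val hvv, ?_, ?_, ?_, ?_⟩
    · intro t ht
      exact congrArg Subtype.val (hvc ⟨t, Tz' ht⟩ ht)
    · rintro _ hu ⟨u, huL, rfl⟩
      rcases hvu u hu huL with h | h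
      · left; rw [h]; rfl
      · right; rw [h]; rfl
    · rintro _ haA ⟨b, hbL, rfl⟩
      exact congrArg Subtype.val (hvi b haA hbL)
    · rintro ⟨_, ⟨w, hw, rfl⟩, hwl⟩
      apply hb
      refine ⟨⟨w, hw⟩, ?_⟩
      ext l
      exact (hwl l ⟨l, l.2, rfl⟩).symm

end FrQ

/-- the condition on `z'` for `z' = z` -/
theorem hz_self {G : Type*} [Group G] {x z : G} :
    ∀ c, c * x = x * c → (c * z = z * c ↔ c * z = z * c) := fun _ _ => Iff.rfl

/-- the condition on `z'` for `z' = x z` -/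
theorem hz_mul {G : Type*} [Group G] {x z : G} :
    ∀ c, c * x = x * c → (c * (x * z) = x * z * c ↔ c * z = z * c) := by
  intro c hc
  constructor
  · intro h
    rw [← mul_assoc, hc, mul_assoc, mul_assoc] at h
    exact mul_left_cancel h
  · intro h
    rw [← mul_assoc, hc, mul_assoc, h, mul_assoc]

/-- type (a) for `C(z)`: helper419's frame `TypeA.Over` -/
theorem FrQ.types_over {G : Type*} [Group G] [Finite G] {x z q₀ : G} {K : Subgroup G} (f : FrQ x z q₀ K)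
    {F : Type*} [Field F] [Finite F] (R : L2Aut.Rep F K) (W : World z)
    {L : Subgroup G} (hL : Comp z L) {a : G} (ha : a ∈ A0 z K) (haL : a ∈ L)
    (ha1 : a ≠ 1) {T : Subgroup G} (pT : IsPGroup 2 T) (Tx : ∀ t ∈ T, t * x = x * t)
    (Tz : ∀ t ∈ T, t * z = z * t)
    (max : ∀ P : Subgroup G, IsPGroup 2 P → T ≤ P → (∀ y ∈ P, y * x = x * y) → P ≤ T) :
    (∃ w, TypeA.Over x z T K L w ∧ w ∈ T ∧ (∀ c, c * x = x * c → c * z = z * c → c * w = w * c)) ∨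
      (∃ v ∈ L, v ∈ T ∧ v ≠ 1 ∧ v * v = 1 ∧ (∀ t ∈ T, t * v = v * t) ∧
        (∀ u ∈ T, u ∈ L → u = 1 ∨ u = v) ∧ (∀ a ∈ A0 z K, a ∈ L → v * a * v⁻¹ = a⁻¹) ∧
        ¬ ∃ w ∈ L, ∀ l ∈ L, x * l * x⁻¹ = w * l * w⁻¹) := by
  rcases f.types R hz_self W hL ha haL ha1 pT Tx Tz max with ⟨w, hwL, hwT, hw1, hww, hwx, hwc, hsyl⟩ | h
  · left
    refine ⟨w, ?_, hwT, hwc⟩
    exact
      { Lz := hL.comm
        TL := fun t ht => f.norm_comp R hz_self W hL ha haL ha1 (Tx t ht) (Tz t ht)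
        wL := hwL
        ww := hww
        w1 := hw1
        wx := hwx
        iso := W.comp L hL
        syl := hsyl
        inv := by
          intro v hvT hvK hvv hv1 hvz
          refine ⟨a, haL, ?_, f.Kx a ((f.mem_A0 R).1 ha).1,
            f.inv_A0 R hvK (Tz v hvT) hvv hv1 hvz a ha⟩
          intro h
          exact ha1 (eq_one_of_sq h ((f.mem_A0 R).1 ha).2.2) }
  · exact Or.inr h

end Cfsg.Agent.OddHalf.D6
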