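import Cfsg.Agent.OddHalf.D6.FieldInvC
import Cfsg.Agent.Lib.PSL2Torus

/-!
# ODD D6, `K = L₂(q)`: the field involution inverts an element of odd order of `C_K(z)` (helper708)

`exists_inverted`: `φ` an involutory automorphism of field type of `L = PSL(2,F)`, `|F| ≠ 9`, trivial on a Sylow
2-subgroup with central involution `z`: `φ` inverts an element `≠ 1` of odd order of `C_L(z)`.
-/

set_option autoImplicit false

namespace Cfsg.Agent.OddHalf.D6

open Matrix Cfsg.Agent.GH Cfsg.Agent.GH.L2Aut Cfsg.Agent.Lib.SL2Mat Cfsg.Agent.Lib.AutSL2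
  Cfsg.Agent.Lib.AutSL2Out Cfsg.Agent.Lib.PSL2Circle Cfsg.Agent.Lib.PSL2Inv

section count

variable {F : Type*} [Field F] [Finite F]

/-- the count: some point of the circle has first coordinate not in `F₀ ∪ δ F₀` -/
theorem exists_point (h2 : (2 : F) ≠ 0) {τ : F ≃+* F} (hτ : orderOf τ = 2) (hF : Nat.card F ≠ 9) :
    ∃ p : Circ F, τ p.re ≠ p.re ∧ τ p.re ≠ - p.re := by
  classical
  by_contra hno
  push Not at hno
  obtain ⟨K, hK, hcard⟩ := L2Aut.exists_fixed_field τ
  rw [hτ] at hcard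
  have : Fintype F := Fintype.ofFinite F
  have : Fintype (Circ F) := Fintype.ofFinite _
  set k := Nat.card K with hk
  have hkodd : k % 2 = 1 := by
    have h1 := Lib.PSL2Torus.odd_card h2
    rw [hcard] at h1
    by_contra h3
    have h4 : k % 2 = 0 := by omega
    have h5 : k ^ 2 % 2 = 0 := by rw [pow_two, Nat.mul_mod, h4]
    omega
  have hk4 : k ^ 2 % 4 = 1 := by
    have h3 : k % 4 = 1 ∨ k % 4 = 3 := by omega
    rcases h3 with h3 | h3 <;> rw [pow_two, Nat.mul_mod, h3]
  have hk1 : 1 < k := by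
    have h3 : 1 < Nat.card F := Finite.one_lt_card
    rw [hcard] at h3
    by_contra h4
    interval_cases k <;> omega
  have hk3 : k ≠ 3 := by
    intro h3
    apply hF
    rw [hcard, h3]; norm_num
  have hk5 : 5 ≤ k := by omega
  have hcirc : Fintype.card (Circ F) = k ^ 2 - 1 := by
    rw [← Nat.card_eq_fintype_card]
    rcases card_circ h2 with h3 | h3
    · rw [h3.2, hcard]
    · rw [hcard, hk4] at h3
      omega
  let S1 : Finset F := Finset.univ.filter (fun a => τ a = a)
  let S2 : Finset F := Finset.univ.filter (fun a => τ a = -a)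
  have hS1 : S1.card = k := by
    rw [hk, Nat.card_eq_fintype_card, ← Fintype.card_coe]
    refine Fintype.card_congr ⟨fun a => ⟨a, (hK a).2 (Finset.mem_filter.1 a.2).2⟩,
      fun a => ⟨a, Finset.mem_filter.2 ⟨Finset.mem_univ _, (hK a).1 a.2⟩⟩, fun a => rfl, fun a => rfl⟩
  have hS2 : S2.card ≤ k := by
    by_cases h3 : ∃ d ∈ S2, d ≠ 0
    · obtain ⟨d, hd, hd0⟩ := h3
      have hdd := (Finset.mem_filter.1 hd).2
      rw [← hS1]
      refine Finset.card_le_card_of_injOn (fun a => a * d⁻¹) ?_ ?_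
      · intro a ha
        have haa := (Finset.mem_filter.1 ha).2
        refine Finset.mem_coe.2 (Finset.mem_filter.2 ⟨Finset.mem_univ _, ?_⟩)
        show τ (a * d⁻¹) = a * d⁻¹
        rw [map_mul, map_inv₀, haa, hdd, inv_neg, neg_mul_neg]
      · intro a _ b _ hab
        exact mul_right_cancel₀ (inv_ne_zero hd0) hab
    · push Not at h3
      have h4 : S2 ⊆ {0} := by
        intro a ha
        rw [Finset.mem_singleton]
        exact h3 a ha
      exact (Finset.card_le_card h4).trans (by rw [Finset.card_singleton]; omega)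
  have hfib := Finset.card_le_mul_card_image (f := fun p : Circ F => p.re) Finset.univ 2 (by
    intro a ha
    obtain ⟨p, -, hp⟩ := Finset.mem_image.1 ha
    let p' : Circ F := ⟨p.re, -p.im, by rw [neg_sq]; exact p.eqn⟩
    have h3 : Finset.univ.filter (fun q : Circ F => q.re = a) ⊆ {p, p'} := by
      intro q hq
      have h4 : q.re = a := (Finset.mem_filter.1 hq).2
      have h5 : (q.im - p.im) * (q.im + p.im) = 0 := by
        have h6 := q.eqn
        have h7 := p.eqn
        have h8 : p.re = q.re := by rw [h4]; exact hp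
        rw [h8] at h7
        linear_combination h6 - h7
      have h8 : q.re = p.re := by rw [h4]; exact hp.symm
      rw [Finset.mem_insert, Finset.mem_singleton]
      rcases mul_eq_zero.1 h5 with h6 | h6
      · left
        exact Circ.ext h8 (by linear_combination h6)
      · right
        exact Circ.ext h8 (by show q.im = -p.im; linear_combination h6)
    exact (Finset.card_le_card h3).trans Finset.card_le_two)
  have himg : (Finset.univ.image (fun p : Circ F => p.re)).card ≤ 2 * k := by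
    have h3 : Finset.univ.image (fun p : Circ F => p.re) ⊆ S1 ∪ S2 := by
      intro a ha
      obtain ⟨p, -, rfl⟩ := Finset.mem_image.1 ha
      rw [Finset.mem_union]
      by_cases h4 : τ p.re = p.re
      · left; exact Finset.mem_filter.2 ⟨Finset.mem_univ _, h4⟩
      · right; exact Finset.mem_filter.2 ⟨Finset.mem_univ _, hno p h4⟩
    have h4 := (Finset.card_le_card h3).trans (Finset.card_union_le _ _)
    omega
  rw [Finset.card_univ, hcirc] at hfib
  have h9 : k ^ 2 - 1 ≤ 4 * k := by omega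
  have h10 : 5 * k ≤ k ^ 2 := by rw [pow_two]; exact Nat.mul_le_mul_right k hk5
  omega

end count

section inverted

variable {F L : Type*} [Field F] [Finite F] [Group L]

/-- an element is a product of a power of 2-power order and a power of odd order -/
theorem exists_two_odd {A : Type*} [Group A] [Finite A] (y : A) :
    ∃ u v : ℤ, ∃ k : ℕ, ∃ m : ℕ, Odd m ∧ orderOf y = 2 ^ k * m ∧ y = (y ^ m) ^ u * (y ^ 2 ^ k) ^ v := by
  obtain ⟨k, m, hm, hkm⟩ := Nat.exists_eq_two_pow_mul_odd (orderOf_pos y).ne'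
  have hco : Int.gcd (m : ℤ) ((2 ^ k : ℕ) : ℤ) = 1 := by
    rw [Int.gcd_natCast_natCast]
    exact (Nat.Coprime.pow_left k hm.coprime_two_left).symm
  have h1 := Int.gcd_eq_gcd_ab (m : ℤ) ((2 ^ k : ℕ) : ℤ)
  rw [hco] at h1
  refine ⟨Int.gcdA m ((2 ^ k : ℕ) : ℤ), Int.gcdB m ((2 ^ k : ℕ) : ℤ), k, m, hm, hkm, ?_⟩
  rw [← zpow_natCast y m, ← zpow_natCast y (2 ^ k), ← _root_.zpow_mul, ← _root_.zpow_mul, ← _root_.zpow_add, ← h1]
  simp

theorem exists_inverted (R : L2Aut.Rep F L) {φ : MulAut L} (hφφ : φ * φ = 1) (hφf : R.fld φ ≠ 1)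
    {z : L} (hzz : z * z = 1) (hz1 : z ≠ 1) (P : Sylow 2 L) (hP : ∀ s ∈ P, φ s = s)
    (hzP : z ∈ P) (hPz : ∀ s ∈ P, s * z = z * s) (hF : Nat.card F ≠ 9) :
    ∃ a : L, a * z = z * a ∧ Odd (orderOf a) ∧ a ≠ 1 ∧ φ a = a⁻¹ := by
  have hfinL : Finite L := R.finite
  obtain ⟨R', -, hfld, hφ, hord⟩ := R.ftype_rep (fun h1 => hφf (R.mem_PGL_iff_fld.1 h1)) hφφ
  set τ := R.fld φ with hτ
  have h2 := R'.two
  obtain ⟨i, hi, hii⟩ := R'.exists_inv_lift hzz hz1
  have hii' : i * i = -1 := Subtype.ext hii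
  have hie : ent i 1 1 = - ent i 0 0 := tr_of_sq h2 hii'
  have hcomm : ∀ m n : Matrix.SpecialLinearGroup (Fin 2) F, m * i = i * m → n * i = i * n →
      m * n = n * m := by
    intro m n hm hn
    obtain ⟨p, rfl⟩ := exists_comb h2 hie hm
    obtain ⟨q, rfl⟩ := exists_comb h2 hie hn
    exact comb_comm hie p q
  have hφz : φ z = z := hP z hzP
  have hτi : fieldAut τ i = i ∨ fieldAut τ i = -i := by
    rw [← R'.π_eq_iff, ← R'.fa_apply, ← hφ, hi, hφz]
  have hφm : ∀ m, φ (R'.π m) = R'.π (fieldAut τ m) := by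
    intro m
    rw [← R'.fa_apply, ← hφ]
  have hτm : ∀ m, m * i = i * m → fieldAut τ m * i = i * fieldAut τ m := by
    intro m hm
    have h3 := congrArg (fieldAut τ) hm
    rw [map_mul, map_mul] at h3
    rcases hτi with h4 | h4
    · rwa [h4] at h3
    · rw [h4, mul_neg, neg_mul, neg_inj] at h3
      exact h3
  by_contra hno
  push Not at hno
  -- elements of odd order are fixed
  have hodd : ∀ m, m * i = i * m → Odd (orderOf (R'.π m)) → φ (R'.π m) = R'.π m := by
    intro m hm ho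
    by_contra h3
    have hc : R'.π m * φ (R'.π m) = φ (R'.π m) * R'.π m := by
      rw [hφm, ← map_mul, ← map_mul, hcomm _ _ hm (hτm m hm)]
    have hφ2 : φ (φ (R'.π m)) = R'.π m := by
      rw [← MulAut.mul_apply, hφφ, MulAut.one_apply]
    refine hno (R'.π m * (φ (R'.π m))⁻¹) ?_ ?_ ?_ ?_
    · have e1 : R'.π m * z = z * R'.π m := by rw [← hi, ← map_mul, hm, map_mul]
      have e2 : φ (R'.π m) * z = z * φ (R'.π m) := by
        have := congrArg φ e1
        rwa [map_mul, map_mul, hφz] at this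
      have e3 : (φ (R'.π m))⁻¹ * z = z * (φ (R'.π m))⁻¹ := by
        rw [inv_mul_eq_iff_eq_mul, ← mul_assoc, e2, mul_assoc, mul_inv_cancel, mul_one]
      rw [mul_assoc, e3, ← mul_assoc, e1, mul_assoc]
    · have e1 : Commute (R'.π m) (φ (R'.π m))⁻¹ := (Commute.inv_right (show Commute _ _ from hc))
      have e2 : orderOf (φ (R'.π m))⁻¹ = orderOf (R'.π m) := by
        rw [orderOf_inv]
        exact orderOf_injective φ.toMonoidHom φ.injective _
      refine Odd.of_dvd_nat ?_ (e1.orderOf_mul_dvd_mul_orderOf)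
      rw [e2]; exact ho.mul ho
    · rw [Ne, mul_inv_eq_one]
      exact fun h => h3 h.symm
    · rw [map_mul, map_inv, hφ2, _root_.mul_inv_rev, inv_inv]
  -- 2-elements are in `P`
  have htwo : ∀ m, m * i = i * m → (∃ n, (R'.π m) ^ 2 ^ n = 1) → φ (R'.π m) = R'.π m := by
    intro m hm hn
    apply hP
    have hnorm : ∀ s ∈ P, s * R'.π m * s⁻¹ ∈ Subgroup.zpowers (R'.π m) := by
      intro s hs
      obtain ⟨n, rfl⟩ := R'.surj s
      have e1 : n * i = i * n ∨ n * i = -(i * n) := by
        rw [← R'.π_eq_iff, map_mul, map_mul, hi]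
        exact hPz _ hs
      rcases e1 with e1 | e1
      · rw [← map_mul, hcomm n m e1 hm, map_mul, mul_inv_cancel_right]
        exact Subgroup.mem_zpowers _
      · have e2 := (Lib.PSL2Torus.anti h2 hie e1).2 m hm
        rw [← map_mul, ← map_inv, ← map_mul, e2, map_inv]
        exact (Subgroup.zpowers _).inv_mem (Subgroup.mem_zpowers _)
    have hsup : IsPGroup 2 (Subgroup.zpowers (R'.π m) ⊔ (P : Subgroup L) : Subgroup L) := by
      refine isPGroup_sup (isPGroup_zp hn) P.isPGroup' ?_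
      intro s hs
      refine Subgroup.mem_normalizer_fintype ?_
      intro y hy
      obtain ⟨j, rfl⟩ := Subgroup.mem_zpowers_iff.1 hy
      have e3 : s * (R'.π m) ^ j * s⁻¹ = (s * R'.π m * s⁻¹) ^ j := (conj_zpow).symm
      rw [e3]
      exact (Subgroup.zpowers _).zpow_mem (hnorm s hs) j
    have e4 := P.is_maximal' hsup le_sup_right
    rw [← SetLike.mem_coe, ← P.coe_coe, SetLike.mem_coe]
    rw [← e4]
    exact (le_sup_left : Subgroup.zpowers (R'.π m) ≤ _) (Subgroup.mem_zpowers _)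
  -- everything is fixed
  have hall : ∀ m, m * i = i * m → φ (R'.π m) = R'.π m := by
    intro m hm
    obtain ⟨u, v, k, n, hn, hord', hy⟩ := exists_two_odd (R'.π m)
    have hpow : ∀ j : ℕ, m ^ j * i = i * m ^ j := fun j =>
      ((show Commute m i from hm).pow_left j)
    have e1 : φ ((R'.π m) ^ n) = (R'.π m) ^ n := by
      rw [← map_pow]
      refine htwo _ (hpow n) ⟨k, ?_⟩
      rw [map_pow, ← pow_mul, mul_comm, ← hord', pow_orderOf_eq_one]
    have e2 : φ ((R'.π m) ^ 2 ^ k) = (R'.π m) ^ 2 ^ k := by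
      rw [← map_pow]
      refine hodd _ (hpow _) ?_
      rw [map_pow, orderOf_pow, hord', Nat.gcd_mul_right_left, Nat.mul_div_cancel_left _ (by positivity)]
      exact hn
    rw [hy, map_mul, map_zpow, map_zpow, e1, e2]
  -- count
  obtain ⟨p, hp1, hp2⟩ := exists_point h2 hord hF
  have h3 := hall (comb i hie p) (comb_commute hie p)
  rw [hφm, R'.π_eq_iff] at h3
  have htr : tr (comb i hie p) = 2 * p.re := by
    show ent (comb i hie p) 0 0 + ent (comb i hie p) 1 1 = 2 * p.re
    rw [comb_00, comb_11]; ring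
  have htr' := tr_fieldAut τ (comb i hie p)
  have hτ2 : τ 2 = 2 := map_ofNat τ 2
  rcases h3 with h3 | h3
  · rw [h3, htr, map_mul, hτ2] at htr'
    exact hp1 (mul_left_cancel₀ h2 htr'.symm)
  · have hneg : ∀ y : Matrix.SpecialLinearGroup (Fin 2) F, tr (-y) = - tr y := by
      intro y
      show - ent y 0 0 + - ent y 1 1 = -(ent y 0 0 + ent y 1 1)
      ring
    rw [h3, hneg, htr, map_mul, hτ2] at htr'
    apply hp2
    apply mul_left_cancel₀ h2
    rw [← htr']; ring

end inverted

/-- **(B4)** `f` inverts an element of odd prime order of `C_K(z)`. -/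
theorem FData.exists_inv {G : Type*} [Group G] [Finite G] {x z f c r : G} {K T : Subgroup G}
    {F : Type*} [Field F] [Finite F] {R : L2Aut.Rep F K} (S : Setup x K T)
    (D : FData x z f c r K T R) (hF : Nat.card F ≠ 9) :
    ∃ a ∈ K, a * z = z * a ∧ (orderOf a).Prime ∧ Odd (orderOf a) ∧ f * a * f⁻¹ = a⁻¹ := by
  obtain ⟨P, hP⟩ := S.sylK
  have memP : ∀ k : K, k ∈ P ↔ (k : G) ∈ T := by
    intro k
    have : k ∈ (P : Subgroup K) ↔ k ∈ T.subgroupOf K := by rw [hP]
    exact this
  obtain ⟨φ, hφ⟩ := S.acts (S.cx f D.fT)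
  obtain ⟨hφφ, hφf⟩ := D.ftype φ hφ
  have hzT := D.zT
  obtain ⟨a, haz, hao, ha1, haφ⟩ := exists_inverted R hφφ hφf (z := ⟨z, D.zK⟩)
    (Subtype.ext D.zz) (fun h => D.z1 (congrArg Subtype.val h)) P
    (fun s hs => hφ.fix (D.fD s ((memP s).1 hs) s.2)) ((memP _).2 hzT)
    (fun s hs => Subtype.ext (D.cz s ((memP s).1 hs))) hF
  have ha1' : orderOf a ≠ 1 := fun h => ha1 (orderOf_eq_one_iff.1 h)
  obtain ⟨p, hp, hpa⟩ := Nat.exists_prime_and_dvd ha1'
  have hord : orderOf (a ^ (orderOf a / p)) = p := by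
    rw [orderOf_pow, Nat.gcd_eq_right (Nat.div_dvd_of_dvd hpa)]
    exact Nat.div_div_self hpa (orderOf_pos a).ne'
  have hord' : orderOf ((a ^ (orderOf a / p) : K) : G) = p := by
    rw [Subgroup.orderOf_coe]; exact hord
  refine ⟨((a ^ (orderOf a / p) : K) : G), (a ^ (orderOf a / p)).2, ?_, ?_, ?_, ?_⟩
  · have h1 : a ^ (orderOf a / p) * ⟨z, D.zK⟩ = ⟨z, D.zK⟩ * a ^ (orderOf a / p) :=
      (show Commute a ⟨z, D.zK⟩ from haz).pow_left _
    exact congrArg Subtype.val h1
  · rw [hord']; exact hp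
  · rw [hord']; exact Odd.of_dvd_nat hao hpa
  · rw [← hφ, map_pow, haφ, inv_pow]
    rfl

end Cfsg.Agent.OddHalf.D6
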