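import Cfsg.Agent.OddHalf.D6.BalSwap

/-!
# ODD D6: `Bal` in `C_G(u)`, and the swap theorem at the level of `G` (helper419)

`BalG x u A`: `x, u` commuting, `A` cyclic of odd order centralised by `x` and `u`, with the properties of `Bal`
for `C(x) ∩ C(u)`. Used with `u = z` (case C1) and `u = xz` (`|Q| ≥ 4`).
-/

set_option autoImplicit false

open Subgroup Cfsg Cfsg.Agent.GH

namespace Cfsg.Agent.OddHalf.D6

variable {G : Type*} [Group G]

/-- The hypotheses at the level of `G`. -/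
structure BalG (x u : G) (A : Subgroup G) : Prop where
  xx : x * x = 1
  xu : x * u = u * x
  odd : Odd (Nat.card A)
  cyc : ∃ g ∈ A, ∀ a ∈ A, a ∈ zpowers g
  ax : ∀ a ∈ A, a * x = x * a
  au : ∀ a ∈ A, a * u = u * a
  inv : ∃ v, v * x = x * v ∧ v * u = u * v ∧ ∀ a ∈ A, v * a * v⁻¹ = a⁻¹
  res : ∀ y v, y * x = x * y → y * u = u * y → v * x = x * v → v * u = u * v → Odd (orderOf y) →
    y * v * y⁻¹ * v⁻¹ ∈ A

namespace BalG

variable {x u : G} {A : Subgroup G}

theorem x_mem (B : BalG x u A) : x ∈ centralizer ({u} : Set G) :=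
  mem_centralizer_singleton_iff.2 B.xu

/-- the element `x` of `C(u)` -/
def x' (B : BalG x u A) : centralizer ({u} : Set G) := ⟨x, B.x_mem⟩

theorem A_le (B : BalG x u A) : A ≤ centralizer ({u} : Set G) :=
  fun a ha => mem_centralizer_singleton_iff.2 (B.au a ha)

theorem bal (B : BalG x u A) : Bal B.x' (A.subgroupOf (centralizer ({u} : Set G))) where
  xx := Subtype.ext B.xx
  odd := by
    rw [Nat.card_congr (subgroupOfEquivOfLe B.A_le).toEquiv]
    exact B.odd
  cyc := by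
    obtain ⟨g, hg, h⟩ := B.cyc
    refine ⟨⟨g, B.A_le hg⟩, by rw [mem_subgroupOf]; exact hg, fun a ha => ?_⟩
    obtain ⟨k, hk⟩ := mem_zpowers_iff.1 (h a (mem_subgroupOf.1 ha))
    exact mem_zpowers_iff.2 ⟨k, Subtype.ext hk⟩
  ax := fun a ha => Subtype.ext (B.ax a (mem_subgroupOf.1 ha))
  inv := by
    obtain ⟨v, h1, h2, h3⟩ := B.inv
    exact ⟨⟨v, mem_centralizer_singleton_iff.2 h2⟩, Subtype.ext h1,
      fun a ha => Subtype.ext (h3 a (mem_subgroupOf.1 ha))⟩
  res := by
    intro y v hy hv ho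
    rw [mem_subgroupOf]
    refine B.res y v (congrArg Subtype.val hy) (mem_centralizer_singleton_iff.1 y.2)
      (congrArg Subtype.val hv) (mem_centralizer_singleton_iff.1 v.2) ?_
    rwa [orderOf_coe]

/-- a Sylow subgroup of `C(x) ∩ C(u)` in `C(u)` -/
theorem max' (B : BalG x u A) {T : Subgroup G} (hTu : ∀ t ∈ T, t * u = u * t)
    (max : ∀ P : Subgroup G, IsPGroup 2 P → T ≤ P → (∀ y ∈ P, y * x = x * y) →
      (∀ y ∈ P, y * u = u * y) → P ≤ T) :
    ∀ P : Subgroup (centralizer ({u} : Set G)), IsPGroup 2 P →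
      T.subgroupOf (centralizer ({u} : Set G)) ≤ P → (∀ y ∈ P, y * B.x' = B.x' * y) →
      P ≤ T.subgroupOf (centralizer ({u} : Set G)) := by
  intro P hP hle hPx p hp
  have h := max (P.map (Subgroup.subtype _)) (hP.map _) (by
      intro t ht
      have htu : t ∈ centralizer ({u} : Set G) := mem_centralizer_singleton_iff.2 (hTu t ht)
      exact ⟨⟨t, htu⟩, hle (by rw [mem_subgroupOf]; exact ht), rfl⟩)
    (by rintro _ ⟨y, hy, rfl⟩; exact congrArg Subtype.val (hPx y hy))
    (by rintro _ ⟨y, -, rfl⟩; exact mem_centralizer_singleton_iff.1 y.2)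
  rw [mem_subgroupOf]
  exact h ⟨p, hp, rfl⟩

/-- **The swap theorem.** `T` a Sylow 2-subgroup of `C(x) ∩ C(u)` with no involutions in its centre except
`x, u, xu`; `s ∈ C(u)` with `x ^ s = xu`. -/
theorem false_of_swap [Finite G] (B : BalG x u A) (hu1 : u ≠ 1) (hO : oddCore ↥(centralizer ({u} : Set G)) = ⊥)
    (hW : ∀ L : Subgroup ↥(centralizer ({u} : Set G)), IsComponent L → IsL2 L)
    (hA : A ≠ ⊥) {T : Subgroup G} (pT : IsPGroup 2 T) (hTx : ∀ t ∈ T, t * x = x * t)
    (hTu : ∀ t ∈ T, t * u = u * t)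
    (max : ∀ P : Subgroup G, IsPGroup 2 P → T ≤ P → (∀ y ∈ P, y * x = x * y) →
      (∀ y ∈ P, y * u = u * y) → P ≤ T)
    (hZ : ∀ v ∈ T, v * v = 1 → v ≠ 1 → (∀ t ∈ T, t * v = v * t) → v = x ∨ v = u ∨ v = x * u)
    {s : G} (hsu : s * u = u * s) (hs : s * x * s⁻¹ = x * u) : False := by
  have huu : u ∈ centralizer ({u} : Set G) := mem_centralizer_singleton_iff.2 rfl
  have hcen : ∀ h : centralizer ({u} : Set G), h * ⟨u, huu⟩ = ⟨u, huu⟩ * h := fun h =>
    Subtype.ext (mem_centralizer_singleton_iff.1 h.2)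
  refine B.bal.false_of_swap hO hW ?_ (T := T.subgroupOf (centralizer ({u} : Set G)))
    (pT.comap_of_injective _ (Subgroup.subtype_injective _)) ?_ (B.max' hTu max) ?_
    (s := ⟨s, mem_centralizer_singleton_iff.2 hsu⟩) (z := ⟨u, huu⟩) hcen
    (fun h => hu1 (congrArg Subtype.val h)) (Subtype.ext hs)
  · intro h
    apply hA
    rw [subgroupOf_eq_bot] at h
    exact disjoint_self.1 (h.mono_right B.A_le)
  · intro t ht
    exact Subtype.ext (hTx t (mem_subgroupOf.1 ht))
  · intro v hv hvv hv1 hvc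
    rcases hZ v (mem_subgroupOf.1 hv) (congrArg Subtype.val hvv) (fun h => hv1 (Subtype.ext h))
      (fun t ht => congrArg Subtype.val (hvc ⟨t, mem_centralizer_singleton_iff.2 (hTu t ht)⟩
        (by rw [mem_subgroupOf]; exact ht))) with h | h | h
    · right
      exact ⟨1, fun h => by rw [mul_one, one_mul], Subtype.ext (by rw [h]; exact (mul_one x).symm)⟩
    · left
      intro g
      have : v = ⟨u, huu⟩ := Subtype.ext h
      rw [this]; exact hcen g
    · right
      exact ⟨⟨u, huu⟩, hcen, Subtype.ext h⟩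

end BalG

end Cfsg.Agent.OddHalf.D6
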