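import Cfsg.Agent.OddHalf.D6.SetupQ
import Cfsg.Agent.OddHalf.D6.FieldInvD
import Cfsg.Agent.OddHalf.D6.SwapG
import Cfsg.Agent.OddHalf.D6.BalG
import Cfsg.Agent.Transfer.PGroupNormal

/-!
# ODD D6, `K = L₂(q)`, `q ≠ 9`, `|Q| ≥ 4` (helper419, after helper446's second proof)
-/

set_option autoImplicit false

namespace Cfsg.Agent.OddHalf.D6

open Subgroup Cfsg.Agent.GH Cfsg.Agent.GH.L2Aut

variable {G : Type*} [Group G]

namespace SetupQ

variable {x q₀ : G} {K T : Subgroup G}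

/-- `s` normalizes `T`, `s² ∈ T`, and moves `x` to `z` -/
structure Sw (x z s : G) (T : Subgroup G) : Prop where
  sT : ∀ t ∈ T, s * t * s⁻¹ ∈ T
  ss : s * s ∈ T
  zx : z ≠ x
  sx : s * x * s⁻¹ = z

namespace Sw

variable {z s : G}

theorem sT' (w : Sw x z s T) {t : G} (ht : t ∈ T) : s⁻¹ * t * s ∈ T := by
  have h1 := T.mul_mem (T.mul_mem (T.inv_mem w.ss) (w.sT t ht)) w.ss
  rwa [show (s * s)⁻¹ * (s * t * s⁻¹) * (s * s) = s⁻¹ * t * s by group] at h1

theorem sx' (w : Sw x z s T) : s⁻¹ * z * s = x := by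
  rw [← w.sx]; group

theorem zT (S : SetupQ x q₀ K T) (w : Sw x z s T) : z ∈ T := by
  rw [← w.sx]; exact w.sT x S.xT

theorem zz (S : SetupQ x q₀ K T) (w : Sw x z s T) : z * z = 1 := by
  rw [← w.sx, show s * x * s⁻¹ * (s * x * s⁻¹) = s * (x * x) * s⁻¹ by group, S.xx]; group

theorem z1 (S : SetupQ x q₀ K T) (w : Sw x z s T) : z ≠ 1 := by
  intro h
  apply S.x1
  rw [← w.sx', h]; group

theorem cz (S : SetupQ x q₀ K T) (w : Sw x z s T) {t : G} (ht : t ∈ T) : t * z = z * t := by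
  have h1 := S.cx _ (w.sT' ht)
  rw [← w.sx]
  calc t * (s * x * s⁻¹) = s * (s⁻¹ * t * s * x) * s⁻¹ := by group
    _ = s * (x * (s⁻¹ * t * s)) * s⁻¹ := by rw [h1]
    _ = s * x * s⁻¹ * t := by group

theorem sz (S : SetupQ x q₀ K T) (w : Sw x z s T) : s * z * s⁻¹ = x := by
  rw [← w.sx, show s * (s * x * s⁻¹) * s⁻¹ = s * s * x * (s * s)⁻¹ by group, S.cx _ w.ss]
  group

theorem sz' (S : SetupQ x q₀ K T) (w : Sw x z s T) : s⁻¹ * x * s = z := by
  nth_rw 1 [← w.sz S]; group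

/-- conjugation by `s` maps `C(x) ∩ C(z)` to itself -/
theorem conj_x (w : Sw x z s T) {y : G} (hy : y * x = x * y) : s * y * s⁻¹ * z = z * (s * y * s⁻¹) := by
  rw [← w.sx]
  calc s * y * s⁻¹ * (s * x * s⁻¹) = s * (y * x) * s⁻¹ := by group
    _ = s * (x * y) * s⁻¹ := by rw [hy]
    _ = s * x * s⁻¹ * (s * y * s⁻¹) := by group

theorem conj_z (S : SetupQ x q₀ K T) (w : Sw x z s T) {y : G} (hy : y * z = z * y) :
    s * y * s⁻¹ * x = x * (s * y * s⁻¹) := by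
  have h := w.sz S
  calc s * y * s⁻¹ * x = s * y * s⁻¹ * (s * z * s⁻¹) := by rw [h]
    _ = s * (y * z) * s⁻¹ := by group
    _ = s * (z * y) * s⁻¹ := by rw [hy]
    _ = s * z * s⁻¹ * (s * y * s⁻¹) := by group
    _ = x * (s * y * s⁻¹) := by rw [h]

/-- `Q ∩ Q^s = 1` -/
theorem qq (S : SetupQ x q₀ K T) (w : Sw x z s T) {y : G} (h1 : y ∈ zpowers q₀)
    (h2 : s⁻¹ * y * s ∈ zpowers q₀) : y = 1 := by
  by_contra hy
  obtain ⟨m, hm1, hm2⟩ := exists_pow_two (pow_of_mem S.pQ h1) hy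
  have h3 : y ^ 2 ^ m = x := (S.Qi _ ((zpowers q₀).pow_mem h1 _) hm2).resolve_left hm1
  have h4 : (s⁻¹ * y * s) ^ 2 ^ m = z := by
    have : (s⁻¹ * y * s) ^ 2 ^ m = s⁻¹ * y ^ 2 ^ m * s := by
      have := conj_pow (a := s⁻¹) (b := y) (i := 2 ^ m)
      rwa [inv_inv] at this
    rw [this, h3, w.sz' S]
  have h5 := S.Qi _ ((zpowers q₀).pow_mem h2 (2 ^ m)) (by rw [h4]; exact w.zz S)
  rw [h4] at h5
  exact h5.elim (w.z1 S) w.zx

/-- `T ∩ Q^s K`-elements: `z` is a power of every non-trivial element of `Q^s` -/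
theorem z_pow (S : SetupQ x q₀ K T) (w : Sw x z s T) {y : G} (hy : y ≠ 1)
    (h2 : s⁻¹ * y * s ∈ zpowers q₀) : ∃ m : ℕ, y ^ m = z := by
  have h1 : s⁻¹ * y * s ≠ 1 := by
    intro h
    apply hy
    rw [show y = s * (s⁻¹ * y * s) * s⁻¹ by group, h]; group
  obtain ⟨m, hm1, hm2⟩ := exists_pow_two (pow_of_mem S.pQ h2) h1
  have h3 := (S.Qi _ ((zpowers q₀).pow_mem h2 _) hm2).resolve_left hm1
  refine ⟨2 ^ m, ?_⟩
  have : (s⁻¹ * y * s) ^ 2 ^ m = s⁻¹ * y ^ 2 ^ m * s := by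
    have := conj_pow (a := s⁻¹) (b := y) (i := 2 ^ m)
    rwa [inv_inv] at this
  rw [this] at h3
  rw [← w.sx, ← h3]; group

end Sw

/-- an element of `T` centralizing `T ∩ K` has its square in `Q` -/
theorem sq_of_cent [Finite G] (S : SetupQ x q₀ K T) {F : Type*} [Field F] [Finite F]
    (R : L2Aut.Rep F K) {t : G} (ht : t ∈ T) (h : ∀ d ∈ T, d ∈ K → t * d = d * t)
    {α : MulAut K} (hα : Acts K t α) : α * α = 1 := by
  obtain ⟨P, hP⟩ := S.sylK
  refine R.cent_syl P (hα.pow_one (pow_of_mem S.pT ht)) fun p hp => hα.fix (h p ?_ p.2)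
  have : p ∈ T.subgroupOf K := by rw [← hP]; exact hp
  exact this

/-- `x ^ s = z` lies in `K`, and some element of `Q^s` does not centralize `T ∩ K` -/
theorem z_mem [Finite G] (S : SetupQ x q₀ K T) {z s : G} (w : Sw x z s T)
    {F : Type*} [Field F] [Finite F] (R : L2Aut.Rep F K) (hq : q₀ * q₀ ≠ 1) :
    z ∈ K ∧ ∃ p ∈ T, ∃ d ∈ T, d ∈ K ∧ p * d ≠ d * p := by
  set p := s * q₀ * s⁻¹ with hp
  have hpT : p ∈ T := w.sT _ (S.qT (mem_zpowers q₀))
  have hp1 : s⁻¹ * p * s = q₀ := by rw [hp]; group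
  obtain ⟨d, hdT, hdK, hd⟩ : ∃ d ∈ T, d ∈ K ∧ p * d ≠ d * p := by
    by_contra hcon
    push Not at hcon
    obtain ⟨α, hα⟩ := S.acts (S.cx p hpT)
    have h1 := S.sq_of_cent R hpT hcon hα
    have h2 : p * p ∈ zpowers q₀ := S.ker (S.cx _ (T.mul_mem hpT hpT)) (h1 ▸ hα.mul hα)
    have h3 : s⁻¹ * (p * p) * s = q₀ * q₀ := by
      calc s⁻¹ * (p * p) * s = (s⁻¹ * p * s) * (s⁻¹ * p * s) := by group
        _ = q₀ * q₀ := by rw [hp1]
    have h4 := w.qq S h2 (by rw [h3]; exact mul_mem (mem_zpowers q₀) (mem_zpowers q₀))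
    apply hq
    rw [← h3, h4]; group
  refine ⟨?_, p, hpT, d, hdT, hdK, hd⟩
  set e := p * d * p⁻¹ * d⁻¹ with he
  have he1 : e ≠ 1 := by
    intro h
    rw [he, mul_inv_eq_one, mul_inv_eq_iff_eq_mul] at h
    exact hd h
  have heK : e ∈ K := K.mul_mem (S.Kn p (S.cx p hpT) d hdK) (K.inv_mem hdK)
  have heQ : s⁻¹ * e * s ∈ zpowers q₀ := by
    have h1 : s⁻¹ * e * s = q₀ * ((s⁻¹ * d * s) * q₀⁻¹ * (s⁻¹ * d * s)⁻¹) := by
      rw [he, hp]; group
    rw [h1]
    exact mul_mem (mem_zpowers q₀) (S.q_norm (S.cx _ (w.sT' hdT)) (inv_mem (mem_zpowers q₀)))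
  obtain ⟨m, hm⟩ := w.z_pow S he1 heQ
  rw [← hm]
  exact K.pow_mem heK m

theorem xK (S : SetupQ x q₀ K T) {F : Type*} [Field F] [Finite F] (R : L2Aut.Rep F K) : x ∉ K := by
  intro h
  have h1 : (⟨x, h⟩ : K) ∈ Subgroup.center K := by
    rw [Subgroup.mem_center_iff]
    intro k
    exact Subtype.ext (S.Kx k k.2)
  rw [R.center_eq_bot, mem_bot] at h1
  exact S.x1 (congrArg Subtype.val h1)

/-- central involutions of `T` in `K` -/
theorem KZ [Finite G] (S : SetupQ x q₀ K T) {z s : G} (w : Sw x z s T) (zK : z ∈ K)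
    {F : Type*} [Field F] [Finite F] (R : L2Aut.Rep F K)
    (hne : ∃ p ∈ T, ∃ d ∈ T, d ∈ K ∧ p * d ≠ d * p) {e : G} (heK : e ∈ K) (ee : e * e = 1)
    (he : ∀ t ∈ T, t * e = e * t) : e = 1 ∨ e = z := by
  by_contra hcon
  rw [not_or] at hcon
  obtain ⟨p, hpT, d, hdT, hdK, hpd⟩ := hne
  have hf : Four (⟨z, zK⟩ : K) ⟨e, heK⟩ :=
    { aa := Subtype.ext (w.zz S)
      bb := Subtype.ext ee
      a1 := fun h => w.z1 S (congrArg Subtype.val h)
      b1 := fun h => hcon.1 (congrArg Subtype.val h)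
      ne := fun h => hcon.2 (congrArg Subtype.val h).symm
      comm := Subtype.ext (he z (w.zT S)) }
  have h1 : MulAut.conj (⟨d, hdK⟩ : K) ∈ R.PGL := R.conj_mem_PGL _
  have h2 : MulAut.conj (⟨d, hdK⟩ : K) ⟨z, zK⟩ = ⟨z, zK⟩ := by
    rw [MulAut.conj_apply]
    exact Subtype.ext (by show d * z * d⁻¹ = z; rw [w.cz S hdT]; group)
  have h3 : MulAut.conj (⟨d, hdK⟩ : K) ⟨e, heK⟩ = ⟨e, heK⟩ := by
    rw [MulAut.conj_apply]
    exact Subtype.ext (by show d * e * d⁻¹ = e; rw [he d hdT]; group)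
  have h4 := R.fix_four hf h1 h2 h3
  have hinj : Function.Injective (MulAut.conj : K →* MulAut K) := R.conj_injective
  have h5 : d = 1 ∨ d = z ∨ d = e ∨ d = z * e := by
    rcases h4 with h | h | h | h
    · left
      have := hinj (h.trans (map_one (MulAut.conj : K →* MulAut K)).symm)
      exact congrArg Subtype.val this
    · right; left; exact congrArg Subtype.val (hinj h)
    · right; right; left; exact congrArg Subtype.val (hinj h)
    · right; right; right; exact congrArg Subtype.val (hinj h)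
  apply hpd
  rcases h5 with rfl | rfl | rfl | rfl
  · rw [mul_one, one_mul]
  · exact w.cz S hpT
  · exact he p hpT
  · rw [← mul_assoc, w.cz S hpT, mul_assoc, he p hpT, mul_assoc]

/-- `D ∩ D^s = 1` -/
theorem dd [Finite G] (S : SetupQ x q₀ K T) {z s : G} (w : Sw x z s T) (zK : z ∈ K)
    {F : Type*} [Field F] [Finite F] (R : L2Aut.Rep F K)
    (hne : ∃ p ∈ T, ∃ d ∈ T, d ∈ K ∧ p * d ≠ d * p) {e : G} (heT : e ∈ T) (heK : e ∈ K)
    (heK' : s⁻¹ * e * s ∈ K) : e = 1 := by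
  let N : Subgroup T :=
    { carrier := {y | (y : G) ∈ K ∧ s⁻¹ * y * s ∈ K}
      one_mem' := ⟨one_mem K, by
        show s⁻¹ * 1 * s ∈ K
        rw [mul_one, inv_mul_cancel]; exact one_mem K⟩
      mul_mem' := by
        rintro a b ⟨ha, ha'⟩ ⟨hb, hb'⟩
        refine ⟨K.mul_mem ha hb, ?_⟩
        show s⁻¹ * ((a : G) * b) * s ∈ K
        rw [show s⁻¹ * ((a : G) * b) * s = (s⁻¹ * a * s) * (s⁻¹ * b * s) by group]
        exact K.mul_mem ha' hb'
      inv_mem' := by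
        rintro a ⟨ha, ha'⟩
        refine ⟨K.inv_mem ha, ?_⟩
        show s⁻¹ * ((a : G))⁻¹ * s ∈ K
        rw [show s⁻¹ * ((a : G))⁻¹ * s = (s⁻¹ * a * s)⁻¹ by group]
        exact K.inv_mem ha' }
  have hN : N.Normal := by
    refine ⟨?_⟩
    rintro a ⟨ha, ha'⟩ ⟨t, ht⟩
    refine ⟨S.Kn t (S.cx t ht) a ha, ?_⟩
    show s⁻¹ * (t * (a : G) * t⁻¹) * s ∈ K
    rw [show s⁻¹ * (t * (a : G) * t⁻¹) * s = (s⁻¹ * t * s) * (s⁻¹ * a * s) * (s⁻¹ * t * s)⁻¹ by group]
    exact S.Kn _ (S.cx _ (w.sT' ht)) _ ha'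
  by_contra he1
  have hN1 : N ≠ ⊥ := by
    intro h
    have h1 : (⟨e, heT⟩ : T) ∈ N := ⟨heK, heK'⟩
    rw [h, mem_bot] at h1
    exact he1 (congrArg Subtype.val h1)
  have : Fact (Nat.Prime 2) := ⟨Nat.prime_two⟩
  obtain ⟨⟨y, hyT⟩, ⟨hyK, hyK'⟩, hyc, hyo⟩ := Transfer.PGroupNormal.exists_mem_inf_center_orderOf S.pT N hN1
  rw [Subgroup.orderOf_mk] at hyo
  have hyy : y * y = 1 := by rw [← pow_two, ← hyo, pow_orderOf_eq_one]
  have hy1 : y ≠ 1 := by
    rintro rfl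
    rw [orderOf_one] at hyo
    exact absurd hyo (by norm_num)
  have h2 : ∀ t ∈ T, t * y = y * t := fun t ht =>
    congrArg Subtype.val (Subgroup.mem_center_iff.1 hyc ⟨t, ht⟩)
  have h3 : y = z := (S.KZ w zK R hne (e := y) hyK hyy h2).resolve_left hy1
  change s⁻¹ * y * s ∈ K at hyK'
  rw [h3, w.sx'] at hyK'
  exact S.xK R hyK'

/-- `D^s` centralizes `D` -/
theorem ds_comm [Finite G] (S : SetupQ x q₀ K T) {z s : G} (w : Sw x z s T) (zK : z ∈ K)
    {F : Type*} [Field F] [Finite F] (R : L2Aut.Rep F K)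
    (hne : ∃ p ∈ T, ∃ d ∈ T, d ∈ K ∧ p * d ≠ d * p) {d : G} (hdT : d ∈ T)
    (hdK : s⁻¹ * d * s ∈ K) : ∀ e ∈ T, e ∈ K → d * e = e * d := by
  intro e heT heK
  have h1 : d * e * d⁻¹ * e⁻¹ = 1 := by
    refine S.dd w zK R hne ?_ ?_ ?_
    · exact T.mul_mem (T.mul_mem (T.mul_mem hdT heT) (T.inv_mem hdT)) (T.inv_mem heT)
    · exact K.mul_mem (S.Kn d (S.cx d hdT) e heK) (K.inv_mem heK)
    · rw [show s⁻¹ * (d * e * d⁻¹ * e⁻¹) * s =
        (s⁻¹ * d * s) * ((s⁻¹ * e * s) * (s⁻¹ * d * s)⁻¹ * (s⁻¹ * e * s)⁻¹) by group]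
      exact K.mul_mem hdK (S.Kn _ (S.cx _ (w.sT' heT)) _ (K.inv_mem hdK))
  rw [mul_inv_eq_one, mul_inv_eq_iff_eq_mul] at h1
  exact h1

/-- some element of `D^s` is of field type -/
theorem exists_ftype [Finite G] (S : SetupQ x q₀ K T) {z s : G} (w : Sw x z s T) (zK : z ∈ K)
    {F : Type*} [Field F] [Finite F] (R : L2Aut.Rep F K)
    (hne : ∃ p ∈ T, ∃ d ∈ T, d ∈ K ∧ p * d ≠ d * p) :
    ∃ t ∈ T, s⁻¹ * t * s ∈ K ∧ ∃ α, Acts K t α ∧ α * α = 1 ∧ R.fld α ≠ 1 := by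
  by_contra hcon
  push Not at hcon
  obtain ⟨P, hP⟩ := S.sylK
  have memP : ∀ k : K, k ∈ (P : Subgroup K) ↔ (k : G) ∈ T := by
    intro k; rw [hP, mem_subgroupOf]
  obtain ⟨a, b, ha, hb, hab⟩ := R.exists_four_mem P
  have haT := (memP a).1 ha
  have hbT := (memP b).1 hb
  -- every element of `D^s` of order two is `x v`, `v ∈ D`
  have key : ∀ y : K, y ∈ (P : Subgroup K) → y * y = 1 → y ≠ 1 →
      ∃ v ∈ T, v ∈ K ∧ s * (y : G) * s⁻¹ = x * v := by
    intro y hy hyy hy1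
    set t := s * (y : G) * s⁻¹ with ht
    have hyT := (memP y).1 hy
    have htT : t ∈ T := w.sT _ hyT
    have htK : s⁻¹ * t * s ∈ K := by
      rw [show s⁻¹ * t * s = (y : G) by rw [ht]; group]; exact y.2
    have hc := S.ds_comm w zK R hne htT htK
    obtain ⟨α, hα⟩ := S.acts (S.cx t htT)
    have h1 := S.sq_of_cent R htT hc hα
    have h2 : R.fld α = 1 := by
      by_contra h
      exact h (hcon t htT htK α hα h1)
    have h3 := R.fix_four hab (R.mem_PGL_iff_fld.2 h2) (hα.fix (hc a haT a.2)) (hα.fix (hc b hbT b.2))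
    obtain ⟨v, hvT, hv⟩ : ∃ v : K, (v : G) ∈ T ∧ α = MulAut.conj v := by
      rcases h3 with h | h | h | h
      · exact ⟨1, one_mem T, by rw [h, map_one]⟩
      · exact ⟨a, haT, h⟩
      · exact ⟨b, hbT, h⟩
      · exact ⟨a * b, T.mul_mem haT hbT, h⟩
    have h4 : Acts K (t * (v : G)⁻¹) 1 := by
      have := hα.mul (Acts.conj v.2).inv
      rwa [hv, mul_inv_cancel] at this
    have h5 : t * (v : G)⁻¹ ∈ zpowers q₀ :=
      S.ker (Setup.comm_mul (S.cx t htT) (Setup.comm_inv (S.Kx v v.2))) h4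
    have htt : t * t = 1 := by
      rw [ht, show s * (y : G) * s⁻¹ * (s * y * s⁻¹) = s * ((y : G) * y) * s⁻¹ by group,
        show (y : G) * y = 1 from congrArg Subtype.val hyy]
      group
    have h6 : t * (v : G)⁻¹ * (t * (v : G)⁻¹) = 1 := by
      have h7 : t * (v : G)⁻¹ * (t * (v : G)⁻¹) ∈ zpowers q₀ := mul_mem h5 h5
      have h8 : t * (v : G)⁻¹ * (t * (v : G)⁻¹) = (v : G)⁻¹ * (v : G)⁻¹ := by
        have h9 := hc v hvT v.2
        have h10 : t * (v : G)⁻¹ = (v : G)⁻¹ * t := by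
          rw [eq_inv_mul_iff_mul_eq, ← mul_assoc, ← h9, mul_assoc, mul_inv_cancel, mul_one]
        calc t * (v : G)⁻¹ * (t * (v : G)⁻¹) = (v : G)⁻¹ * t * ((v : G)⁻¹ * t) := by rw [h10]
          _ = (v : G)⁻¹ * (t * (v : G)⁻¹) * t := by group
          _ = (v : G)⁻¹ * ((v : G)⁻¹ * t) * t := by rw [h10]
          _ = (v : G)⁻¹ * (v : G)⁻¹ * (t * t) := by group
          _ = (v : G)⁻¹ * (v : G)⁻¹ := by rw [htt, mul_one]
      rw [h8] at h7 ⊢
      -- an element of `Q ∩ K` is trivial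
      have h9 : (v : G)⁻¹ * (v : G)⁻¹ ∈ K := K.mul_mem (K.inv_mem v.2) (K.inv_mem v.2)
      have h10 : (⟨_, h9⟩ : K) ∈ Subgroup.center K := by
        rw [Subgroup.mem_center_iff]
        intro k
        exact Subtype.ext (S.q_commK h7 k k.2).symm
      rw [R.center_eq_bot, mem_bot] at h10
      exact congrArg Subtype.val h10
    rcases S.Qi _ h5 h6 with h7 | h7
    · exfalso
      have h8 : t = v := mul_inv_eq_one.1 h7
      have h9 := S.dd w zK R hne htT (h8 ▸ v.2) htK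
      apply hy1
      apply Subtype.ext
      show (y : G) = 1
      rw [show (y : G) = s⁻¹ * t * s by rw [ht]; group, h9]; group
    · exact ⟨v, hvT, v.2, by rw [← h7]; group⟩
  obtain ⟨v, hvT, hvK, hv⟩ := key a ha hab.aa hab.a1
  obtain ⟨u, huT, huK, hu⟩ := key b hb hab.bb hab.b1
  have h1 : s * ((a : G) * b) * s⁻¹ = v * u := by
    calc s * ((a : G) * b) * s⁻¹ = (s * a * s⁻¹) * (s * b * s⁻¹) := by group
      _ = x * v * (x * u) := by rw [hv, hu]
      _ = x * (v * x) * u := by group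
      _ = x * (x * v) * u := by rw [S.Kx v hvK]
      _ = (x * x) * (v * u) := by group
      _ = v * u := by rw [S.xx, one_mul]
  have h2 := S.dd w zK R hne (T.mul_mem hvT huT) (K.mul_mem hvK huK) (by
    rw [← h1, show s⁻¹ * (s * ((a : G) * b) * s⁻¹) * s = a * b by group]
    exact K.mul_mem a.2 b.2)
  rw [← h1] at h2
  have h3 : (a : G) * b = 1 := by
    calc (a : G) * b = s⁻¹ * (s * ((a : G) * b) * s⁻¹) * s := by group
      _ = 1 := by rw [h2]; group
  exact hab.right.b1 (Subtype.ext h3)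

/-- a non-trivial element of odd order is not inverted and centralized at once -/
theorem not_both {a c : G} (ho : Odd (orderOf a)) (h1 : a ≠ 1) (h2 : c * a * c⁻¹ = a⁻¹)
    (h3 : c * a = a * c) : False := by
  rw [h3, mul_inv_cancel_right] at h2
  have h4 : a * a = 1 := by
    nth_rw 2 [h2]; exact mul_inv_cancel a
  exact h1 (eq_one_of_sq h4 ho)

/-- **`|Q| ≥ 4`, `q ≠ 9`**: no group of sectional 2-rank at least 5 -/
theorem false_of_q [Finite G] (S : SetupQ x q₀ K T) {F : Type*} [Field F] [Finite F]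
    (R : L2Aut.Rep F K) (hF : Nat.card F ≠ 9) (hq : q₀ * q₀ ≠ 1) (hr : ¬ SectionalPRankLE 2 4 G)
    (W : ∀ u : G, u * u = 1 → u ≠ 1 → World u) : False := by
  obtain ⟨s, hsT, hss, -, hsx, -⟩ := S.exists_grow R hr
  obtain ⟨z, hz⟩ : ∃ z, z = s * x * s⁻¹ := ⟨_, rfl⟩
  have w : Sw x z s T := ⟨hsT, hss, fun h => hsx (mul_inv_eq_iff_eq_mul.1 (hz ▸ h)), hz.symm⟩
  obtain ⟨zK, hne⟩ := S.z_mem w R hq
  obtain ⟨t, htT, htK, φ, hφ, hφφ, hφf⟩ := S.exists_ftype w zK R hne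
  have htD := S.ds_comm w zK R hne htT htK
  obtain ⟨P, hP⟩ := S.sylK
  have memP : ∀ k : K, k ∈ (P : Subgroup K) ↔ (k : G) ∈ T := by
    intro k; rw [hP, mem_subgroupOf]
  have f := S.frQ zK (w.zz S) (w.z1 S)
  -- `A₀ ≠ 1`
  obtain ⟨a, haz, hao, ha1, -⟩ := exists_inverted R hφφ hφf (z := ⟨z, zK⟩) (Subtype.ext (w.zz S))
    (fun h => w.z1 S (congrArg Subtype.val h)) P (fun p hp => hφ.fix (htD p ((memP p).1 hp) p.2))
    ((memP ⟨z, zK⟩).2 (w.zT S)) (fun p hp => Subtype.ext (w.cz S ((memP p).1 hp))) hF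
  have haA : (a : G) ∈ A0 z K := (f.mem_A0 R).2 ⟨a.2, congrArg Subtype.val haz, by
    rw [Subgroup.orderOf_coe]; exact hao⟩
  have ha1' : (a : G) ≠ 1 := fun h => ha1 (Subtype.ext h)
  have hao' : Odd (orderOf (a : G)) := ((f.mem_A0 R).1 haA).2.2
  -- the dihedral group
  obtain ⟨d, r, hd⟩ := R.exists_dih P
  have hdd : d * d ≠ 1 := R.ftype_dd (fun h1 => hφf (R.mem_PGL_iff_fld.1 h1)) hφφ P hd
  have hdT : (d : G) ∈ T := (memP d).1 hd.d_mem
  have hrT : (r : G) ∈ T := (memP r).1 hd.r_mem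
  have hrd : (r : G) * d ≠ d * r := by
    intro h1
    apply hdd
    have h2 := hd.rd
    rw [show r * d = d * r from Subtype.ext h1, mul_inv_cancel_right] at h2
    nth_rw 2 [h2]
    exact mul_inv_cancel d
  have hrz : (r : G) ≠ z := by
    intro h
    exact hrd (by rw [h]; exact (w.cz S hdT).symm)
  have hrinv := f.inv_A0 R r.2 (w.cz S hrT) (congrArg Subtype.val hd.rr)
    (fun h => hd.r1 (Subtype.ext h)) hrz
  -- `d` centralizes `A₀`
  have hdr : (d : G) * r * (d * r) = 1 := by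
    have := hd.pow_r_sq 1
    rw [zpow_one] at this
    exact congrArg Subtype.val this
  have hdrinv := f.inv_A0 R (v := (d : G) * r) (K.mul_mem d.2 r.2)
    (w.cz S (T.mul_mem hdT hrT)) hdr
    (by
      intro h
      apply hrd
      have h1 : (r : G) = (d : G)⁻¹ := eq_inv_of_mul_eq_one_right h
      rw [h1, inv_mul_cancel, mul_inv_cancel])
    (by
      intro h
      apply hrd
      have h1 : (d : G) * (d * r) = d * r * d := by rw [h]; exact w.cz S hdT
      rw [mul_assoc (d : G) r d] at h1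
      exact (mul_left_cancel h1).symm)
  have hdA : ∀ b ∈ A0 z K, (d : G) * b * (d : G)⁻¹ = b := by
    intro b hb
    have h1 := hrinv b hb
    have h2 := hdrinv b⁻¹ (inv_mem hb)
    rw [inv_inv] at h2
    have h3 : (r : G) * b⁻¹ * (r : G)⁻¹ = b := by
      rw [← h1, show (r : G) * (r * b * (r : G)⁻¹) * (r : G)⁻¹ = (r * r) * b * ((r : G) * r)⁻¹ by group,
        show (r : G) * r = 1 from congrArg Subtype.val hd.rr]
      group
    calc (d : G) * b * (d : G)⁻¹ = d * (r * b⁻¹ * (r : G)⁻¹) * (d : G)⁻¹ := by rw [h3]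
      _ = (d * r) * b⁻¹ * ((d : G) * r)⁻¹ := by group
      _ = b := h2
  -- `A₀^s = A₀`
  obtain ⟨-, -, -, -, hres⟩ := f.A0_data R
  have hAs : ∀ b ∈ A0 z K, s * b * s⁻¹ ∈ A0 z K := by
    intro b hb
    obtain ⟨hbK, hbz, hbo⟩ := (f.mem_A0 R).1 hb
    have h1 := hres (s * b * s⁻¹) (s * (r : G) * s⁻¹) (w.conj_z S hbz)
      (w.conj_z S (w.cz S hrT)) (w.conj_x (f.Kx b hbK)) (w.conj_x (f.Kx r r.2)) (by
        have h4 : orderOf (s * b * s⁻¹) = orderOf b :=
          orderOf_injective (MulAut.conj s).toMonoidHom (MulAut.conj s).injective b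
        rw [h4]; exact hbo)
    have h2 : s * b * s⁻¹ * (s * (r : G) * s⁻¹) * (s * b * s⁻¹)⁻¹ * (s * (r : G) * s⁻¹)⁻¹ =
        (s * b * s⁻¹) ^ 2 := by
      calc s * b * s⁻¹ * (s * (r : G) * s⁻¹) * (s * b * s⁻¹)⁻¹ * (s * (r : G) * s⁻¹)⁻¹
          = s * b * ((r : G) * b * (r : G)⁻¹)⁻¹ * s⁻¹ := by group
        _ = (s * b * s⁻¹) ^ 2 := by rw [hrinv b hb, pow_two]; group
    rw [h2] at h1
    obtain ⟨k, hk⟩ := hbo
    have h3 : s * b * s⁻¹ = ((s * b * s⁻¹) ^ 2) ^ (k + 1) := by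
      have h5 : (s * b * s⁻¹) ^ (2 * k + 1) = 1 := by
        rw [conj_pow, ← hk, pow_orderOf_eq_one]; group
      rw [← pow_mul, show 2 * (k + 1) = 2 * k + 1 + 1 by ring, pow_succ, h5, one_mul]
    rw [h3]
    exact pow_mem h1 _
  have hAs' : ∀ b ∈ A0 z K, s⁻¹ * b * s ∈ A0 z K := by
    intro b hb
    have h1 := f.A0_norm R (hAs b hb) (c := (s * s)⁻¹) (Setup.comm_inv (S.cx _ hss))
      (by
        have := w.cz S (T.inv_mem hss)
        exact this)
    rwa [show (s * s)⁻¹ * (s * b * s⁻¹) * (s * s)⁻¹⁻¹ = s⁻¹ * b * s by group] at h1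
  -- `c = d^s` and `v = r^s`
  obtain ⟨c, hc⟩ : ∃ c, c = s * (d : G) * s⁻¹ := ⟨_, rfl⟩
  obtain ⟨v, hv⟩ : ∃ v, v = s * (r : G) * s⁻¹ := ⟨_, rfl⟩
  have hcT : c ∈ T := hc ▸ w.sT _ hdT
  have hvT : v ∈ T := hv ▸ w.sT _ hrT
  have hcK : s⁻¹ * c * s ∈ K := by
    rw [hc, show s⁻¹ * (s * (d : G) * s⁻¹) * s = d by group]; exact d.2
  have hvK : s⁻¹ * v * s ∈ K := by
    rw [hv, show s⁻¹ * (s * (r : G) * s⁻¹) * s = r by group]; exact r.2
  have hcD := S.ds_comm w zK R hne hcT hcK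
  have hvD := S.ds_comm w zK R hne hvT hvK
  have hcA : ∀ b ∈ A0 z K, c * b * c⁻¹ = b := by
    intro b hb
    have h1 := hdA _ (hAs' b hb)
    rw [hc]
    calc s * (d : G) * s⁻¹ * b * (s * (d : G) * s⁻¹)⁻¹ = s * (d * (s⁻¹ * b * s) * (d : G)⁻¹) * s⁻¹ := by
          group
      _ = b := by rw [h1]; group
  have hvA : ∀ b ∈ A0 z K, v * b * v⁻¹ = b⁻¹ := by
    intro b hb
    have h1 := hrinv _ (hAs' b hb)
    rw [hv]
    calc s * (r : G) * s⁻¹ * b * (s * (r : G) * s⁻¹)⁻¹ = s * (r * (s⁻¹ * b * s) * (r : G)⁻¹) * s⁻¹ := by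
          group
      _ = b⁻¹ := by rw [h1]; group
  have hvc : v * c ≠ c * v := by
    intro h
    apply hrd
    rw [hv, hc] at h
    calc (r : G) * d = s⁻¹ * (s * (r : G) * s⁻¹ * (s * (d : G) * s⁻¹)) * s := by group
      _ = s⁻¹ * (s * (d : G) * s⁻¹ * (s * (r : G) * s⁻¹)) * s := by rw [h]
      _ = d * r := by group
  -- linear elements centralizing `D`
  have hfour : Four (⟨z, zK⟩ : K) r :=
    ⟨Subtype.ext (w.zz S), hd.rr, fun h => w.z1 S (congrArg Subtype.val h), hd.r1,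
      fun h => hrz (congrArg Subtype.val h).symm, Subtype.ext (w.cz S hrT).symm⟩
  have lin : ∀ y ∈ T, (∀ e ∈ T, e ∈ K → y * e = e * y) → ∀ α, Acts K y α → R.fld α = 1 →
      ∃ e ∈ zpowers q₀, y = e ∨ y = e * z := by
    intro y hy hyD α hα hαf
    have h1 : α ⟨z, zK⟩ = ⟨z, zK⟩ := hα.fix (hyD z (w.zT S) zK)
    have h2 : α r = r := hα.fix (hyD r hrT r.2)
    have h3 : α d = d := hα.fix (hyD d hdT d.2)
    have hzd : (z : G) * d = d * z := (w.cz S hdT).symm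
    rcases R.fix_four hfour (R.mem_PGL_iff_fld.2 hαf) h1 h2 with h4 | h4 | h4 | h4
    · rw [h4] at hα
      exact ⟨y, S.ker (S.cx y hy) hα, Or.inl rfl⟩
    · have h5 : Acts K (y * z⁻¹) 1 := by
        have := hα.mul (Acts.conj zK).inv
        rwa [h4, mul_inv_cancel] at this
      refine ⟨y * z⁻¹, S.ker (Setup.comm_mul (S.cx y hy) (Setup.comm_inv (S.Kx z zK))) h5,
        Or.inr (by group)⟩
    · exfalso
      rw [h4, MulAut.conj_apply, mul_inv_eq_iff_eq_mul] at h3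
      exact hrd (congrArg Subtype.val h3)
    · exfalso
      rw [h4, MulAut.conj_apply, mul_inv_eq_iff_eq_mul] at h3
      apply hrd
      have h5 : z * (r : G) * d = d * (z * r) := congrArg Subtype.val h3
      rw [← mul_assoc, ← hzd, mul_assoc, mul_assoc] at h5
      exact mul_left_cancel h5
  -- they centralize `A₀`
  have linA : ∀ y, (∃ e ∈ zpowers q₀, y = e ∨ y = e * z) → ∀ b ∈ A0 z K, y * b = b * y := by
    rintro y ⟨e, he, rfl | rfl⟩ b hb
    · exact S.q_commK he b ((f.mem_A0 R).1 hb).1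
    · rw [mul_assoc, ← ((f.mem_A0 R).1 hb).2.1, ← mul_assoc, S.q_commK he b ((f.mem_A0 R).1 hb).1,
        mul_assoc]
  obtain ⟨γ, hγ⟩ := S.acts (S.cx c hcT)
  obtain ⟨ν, hν⟩ := S.acts (S.cx v hvT)
  have hγγ := S.sq_of_cent R hcT hcD hγ
  have hνν := S.sq_of_cent R hvT hvD hν
  have hνf : R.fld ν ≠ 1 := fun h =>
    not_both hao' ha1' (hvA a haA) (linA v (lin v hvT hvD ν hν h) a haA)
  have fsq : ∀ α : MulAut K, α * α = 1 → R.fld α * R.fld α = 1 := fun α h => by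
    rw [← map_mul, h, map_one]
  have hγf : R.fld γ = 1 := by
    by_contra h
    have h1 : R.fld γ = R.fld ν := L2One.AutPsl.aut_inv (fsq γ hγγ) h (fsq ν hνν) hνf
    refine not_both (c := c * v) hao' ha1' ?_ (linA _ (lin (c * v) (T.mul_mem hcT hvT) ?_ _ (hγ.mul hν) ?_)
      a haA)
    · calc c * v * a * (c * v)⁻¹ = c * (v * a * v⁻¹) * c⁻¹ := by group
        _ = (a : G)⁻¹ := by rw [hvA a haA, hcA _ (inv_mem haA)]
    · intro e he heK
      rw [mul_assoc, hvD e he heK, ← mul_assoc, hcD e he heK, mul_assoc]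
    · rw [map_mul, h1, fsq ν hνν]
  obtain ⟨e₀, he₀, hce⟩ := lin c hcT hcD γ hγ hγf
  -- `c` commutes with the linear elements
  have linc : ∀ y, (∃ e ∈ zpowers q₀, y = e ∨ y = e * z) → y * c = c * y := by
    rintro y ⟨e, he, hy⟩
    have h1 : e * e₀ = e₀ * e := zpowers_comm he he₀
    have h2 : e * z = z * e := w.cz S (S.qT he)
    have h3 : e₀ * z = z * e₀ := w.cz S (S.qT he₀)
    have h4 : Commute e e₀ := h1
    have h5 : Commute e z := h2
    have h6 : Commute e₀ z := h3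
    have h7 : Commute z z := Commute.refl z
    rcases hy with rfl | rfl <;> rcases hce with rfl | rfl
    · exact h4.eq
    · exact (h4.mul_right h5).eq
    · exact (h4.mul_left h6.symm).eq
    · exact ((h4.mul_right h5).mul_left (h6.symm.mul_right h7)).eq
  -- the involutions of `Z(T)`
  have hZ : ∀ y ∈ T, y * y = 1 → y ≠ 1 → (∀ t ∈ T, t * y = y * t) →
      y = x ∨ y = x * z ∨ y = x * (x * z) := by
    intro y hy hyy hy1 hyc
    have hyD : ∀ e ∈ T, e ∈ K → y * e = e * y := fun e he _ => (hyc e he).symm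
    obtain ⟨α, hα⟩ := S.acts (S.cx y hy)
    have hαα := S.sq_of_cent R hy hyD hα
    have hαf : R.fld α = 1 := by
      by_contra h
      have h1 : R.fld α = R.fld ν := L2One.AutPsl.aut_inv (fsq α hαα) h (fsq ν hνν) hνf
      have h2 := linc (y * v) (lin (y * v) (T.mul_mem hy hvT) (by
        intro e he heK
        rw [mul_assoc, hvD e he heK, ← mul_assoc, hyD e he heK, mul_assoc]) _ (hα.mul hν) (by
          rw [map_mul, h1, fsq ν hνν]))
      apply hvc
      have h3 := hyc c hcT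
      rw [← mul_assoc, h3, mul_assoc, mul_assoc] at h2
      exact mul_left_cancel h2
    obtain ⟨e, he, h⟩ := lin y hy hyD α hα hαf
    have hez : e * z = z * e := w.cz S (S.qT he)
    have hee : e * e = 1 := by
      rcases h with rfl | rfl
      · exact hyy
      · calc e * e = e * e * (z * z) := by rw [w.zz S, mul_one]
          _ = e * (e * z) * z := by group
          _ = e * (z * e) * z := by rw [hez]
          _ = e * z * (e * z) := by group
          _ = 1 := hyy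
    rcases S.Qi e he hee with rfl | rfl
    · rcases h with rfl | rfl
      · exact absurd rfl hy1
      · right; right
        rw [one_mul, ← mul_assoc, S.xx, one_mul]
    · rcases h with rfl | rfl
      · exact Or.inl rfl
      · exact Or.inr (Or.inl rfl)
  have hzx : z * x = x * z := S.Kx z zK
  have hu1 : x * z ≠ 1 := by
    intro h
    exact w.zx (by rw [← one_mul z, ← S.xx, mul_assoc, h, mul_one])
  have huu : x * z * (x * z) = 1 := by
    calc x * z * (x * z) = x * (z * x) * z := by group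
      _ = x * (x * z) * z := by rw [hzx]
      _ = (x * x) * (z * z) := by group
      _ = 1 := by rw [S.xx, w.zz S, one_mul]
  refine (f.balG R hz_mul).false_of_swap hu1 (W _ huu hu1).core (W _ huu hu1).comp' ?_ S.pT S.cx
    (T := T) ?_ ?_ hZ (s := s) ?_ ?_
  · intro h
    rw [h, mem_bot] at haA
    exact ha1' haA
  · intro t ht
    rw [← mul_assoc, S.cx t ht, mul_assoc, w.cz S ht, mul_assoc]
  · intro P hP hTP hPx _
    exact S.max hP hTP hPx
  · have h1 : s * x = z * s := mul_inv_eq_iff_eq_mul.1 w.sx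
    have h2 : s * z = x * s := mul_inv_eq_iff_eq_mul.1 (w.sz S)
    rw [← mul_assoc, h1, mul_assoc, h2, ← mul_assoc, hzx]
  · rw [w.sx, ← mul_assoc, S.xx, one_mul]

end SetupQ

end Cfsg.Agent.OddHalf.D6
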