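import Cfsg.Agent.OddHalf.D6.Main2
import Cfsg.Agent.OddHalf.D6.Main4
import Cfsg.Agent.OddHalf.Front.FE
import Cfsg.Agent.OddHalf.LieOddFam

/-!
# ODD D6, `K = PSL(2,q)`, `q ≠ 9`: the row (helper419)

`row`: no standard component `K ≅ PSL(2,q)`, `q ≥ 5` odd, `q ≠ 9`, with `C(K)` of cyclic Sylow 2-subgroups.
`row27`, `rowBig`: in the form of `LieOddFam`.
-/

set_option autoImplicit false

namespace Cfsg.Agent.OddHalf.D6.LTwoMain

open Subgroup Cfsg Cfsg.Agent.GH Cfsg.Agent.OddHalf.Iface Cfsg.Agent.OddHalf.Front.FE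
open Cfsg.Agent.OddHalf.LieOddFam

universe u

variable {G : Type u} [Group G]

/-- a Sylow 2-subgroup of `C(x)` -/
theorem exists_T [Finite G] (x : G) : ∃ T : Subgroup G, IsPGroup 2 T ∧ (∀ t ∈ T, t * x = x * t) ∧
    ∀ P : Subgroup G, IsPGroup 2 P → (∀ y ∈ P, y * x = x * y) →
      ∃ g, g * x = x * g ∧ ∀ y ∈ P, g * y * g⁻¹ ∈ T := by
  set H := centralizer ({x} : Set G) with hH
  have : Fact (Nat.Prime 2) := ⟨Nat.prime_two⟩
  obtain ⟨S⟩ : Nonempty (Sylow 2 ↥H) := inferInstance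
  refine ⟨(S : Subgroup ↥H).map H.subtype, S.isPGroup'.map _, ?_, ?_⟩
  · rintro _ ⟨y, -, rfl⟩
    exact mem_centralizer_singleton_iff.1 y.2
  · intro P hP hPx
    have hPH : P ≤ H := fun y hy => mem_centralizer_singleton_iff.2 (hPx y hy)
    have h1 : IsPGroup 2 (P.subgroupOf H) := hP.comap_subtype
    obtain ⟨Q, hQ⟩ := h1.exists_le_sylow
    obtain ⟨g, hg⟩ := MulAction.exists_smul_eq ↥H Q S
    refine ⟨g, mem_centralizer_singleton_iff.1 g.2, fun y hy => ?_⟩
    have h2 : (⟨y, hPH hy⟩ : ↥H) ∈ (Q : Subgroup ↥H) := hQ (mem_subgroupOf.2 hy)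
    have h3 : g * ⟨y, hPH hy⟩ * g⁻¹ ∈ (S : Subgroup ↥H) := by
      rw [← hg, Sylow.coe_subgroup_smul]
      exact Subgroup.smul_mem_pointwise_smul _ (MulAut.conj g) _ h2
    exact ⟨_, h3, rfl⟩

/-- all components are `PSL(2,q)`'s, `q` odd -/
theorem world (C : Ctx G) {K : Subgroup G} (S : Std G K) (hK : IsL2o ↥K) (u : G)
    (huu : u * u = 1) (hu1 : u ≠ 1) : World u := by
  have hu : orderOf u = 2 := orderOf_eq_prime (by rw [pow_two]; exact huu) hu1
  refine ⟨?_, ?_⟩
  · have h1 := C.bal u hu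
    rw [centralizerPPrimeCore, Subgroup.map_eq_bot_iff_of_injective _
      (centralizer ({u} : Set G)).subtype_injective] at h1
    exact h1
  · rintro L ⟨L', hL', rfl⟩
    have h1 : CompOf u (L'.map (centralizer ({u} : Set G)).subtype) := by
      refine ⟨Subgroup.map_subtype_le L', ?_⟩
      rw [Subgroup.subgroupOf,
        Subgroup.comap_map_eq_self_of_injective (centralizer ({u} : Set G)).subtype_injective]
      exact hL'
    obtain ⟨F, _, _, h2, -, ⟨e⟩⟩ := S.pref hK u _ hu h1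
    exact ⟨F, _, inferInstance, ⟨L2Aut.Rep.ofEquiv (L2Aut.two_ne_zero_of_odd h2) e⟩⟩

/-- **D6, `K ≅ PSL(2,q)`, `q ≥ 5` odd, `q ≠ 9`** -/
theorem row (C : Ctx G) {K : Subgroup G} (S : Std G K) (hcyc : Iface.Cyc K)
    (h : ∃ (F : Type) (_ : Field F) (_ : Fintype F), Odd (Fintype.card F) ∧ 5 ≤ Fintype.card F ∧
      Fintype.card F ≠ 9 ∧ Nonempty (↥K ≃* Matrix.ProjectiveSpecialLinearGroup (Fin 2) F)) : False := by
  have := C.fin
  obtain ⟨F, _, _, hodd, h5, h9, ⟨e⟩⟩ := h
  have hK : IsL2o ↥K := ⟨F, _, _, hodd, h5, ⟨e⟩⟩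
  have R : L2Aut.Rep F ↥K := L2Aut.Rep.ofEquiv (L2Aut.two_ne_zero_of_odd hodd) e
  have h9' : Nat.card F ≠ 9 := by rw [Nat.card_eq_fintype_card]; exact h9
  have W := world C S hK
  obtain ⟨x, q, St⟩ := exists_start C S hcyc R.center_eq_bot
  obtain ⟨T, pT, cx, syl⟩ := exists_T x
  have Kn : ∀ c, c * x = x * c → ∀ k ∈ K, c * k * c⁻¹ ∈ K := fun c hc k hk =>
    (mem_normalizer_iff.1 (St.nK c hc) k).1 hk
  have CK : ∀ c, c * x = x * c → (∀ k ∈ K, c * k = k * c) → c ∈ zpowers q := fun c hc hK =>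
    St.cK c hc fun k hk => (hK k hk).symm
  by_cases hq : q * q = 1
  · have h1 : ∀ c ∈ zpowers q, c = 1 ∨ c = x := by
      intro c hc
      by_cases hc1 : c = 1
      · exact Or.inl hc1
      · right
        refine St.toStart0.uniq hc ?_ hc1
        obtain ⟨i, rfl⟩ := mem_zpowers_iff.1 hc
        rw [← zpow_add, ← two_mul, zpow_mul]
        rw [show (q : G) ^ (2 : ℤ) = q * q from zpow_two q, hq, one_zpow]
    have S' : Setup x K T :=
      { xx := St.tt
        x1 := St.t1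
        Kx := St.toStart0.Kt
        Kn := Kn
        CK := fun c hc hK => h1 c (CK c hc hK)
        pT := pT
        cx := cx
        syl := syl }
    refine main2 ?_ C.sect5 S' R h9' W
    intro φ u
    have h2 := commutator_eq_top C
    have h3 : commutator G ≤ φ.ker := Abelianization.commutator_subset_ker φ
    rw [h2] at h3
    exact h3 (mem_top u)
  · obtain ⟨n, hn⟩ := St.pQ ⟨q, mem_zpowers q⟩
    have S' : SetupQ x q K T :=
      { xx := St.tt
        x1 := St.t1
        Kx := St.toStart0.Kt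
        Kn := Kn
        Qx := St.toStart0.Qt q (mem_zpowers q)
        QK := fun k hk => (St.qK k hk).symm
        Q2 := ⟨n, congrArg Subtype.val hn⟩
        Qi := fun c hc hcc => by
          by_cases hc1 : c = 1
          · exact Or.inl hc1
          · exact Or.inr (St.toStart0.uniq hc hcc hc1)
        CK := CK
        pT := pT
        cx := cx
        syl := syl }
    exact S'.false_of_q R h9' hq C.sect5 W

/-- the row `PSL(2,7)` -/
theorem row27 (C : Ctx G) {K : Subgroup G} (S : Std G K) (hcyc : Iface.Cyc K) (h : XL27 ↥K) : False := by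
  obtain ⟨F, i1, i2, h1, h2⟩ := h
  exact row C S hcyc ⟨F, i1, i2, by rw [h1]; decide, by omega, by omega, h2⟩

/-- the row `PSL(2,q)`, `q ≥ 11` -/
theorem rowBig (C : Ctx G) {K : Subgroup G} (S : Std G K) (hcyc : Iface.Cyc K) (h : XL2Big ↥K) : False := by
  obtain ⟨F, i1, i2, h0, h1, h2⟩ := h
  exact row C S hcyc ⟨F, i1, i2, h0, by omega, by omega, h2⟩

/-- the node D6 needs only the Ree groups and the groups of rank at least 2 -/
theorem d6_of (hRee : ∀ (G : Type u) [Group G], Ctx G → ∀ K : Subgroup G, Std G K → Iface.Cyc K →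
      Lie.IsoRee ↥K → False)
    (hRk : ∀ (G : Type u) [Group G], Ctx G → ∀ K : Subgroup G, Std G K → Iface.Cyc K →
      (∃ q : ℕ, OddPow q ∧ Rk ↥K q) → False) : Iface.D6.{u} := by
  intro G _ C K S hcyc h ha
  rcases lieOdd_cases h ha with h1 | h1 | h1 | h1
  · exact row27 C S hcyc h1
  · exact rowBig C S hcyc h1
  · exact hRee G C K S hcyc h1
  · exact hRk G C K S hcyc h1

end Cfsg.Agent.OddHalf.D6.LTwoMain
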