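import Cfsg.Agent.OddHalf.NI.Assemble
import Cfsg.Agent.OddHalf.D6.LTwoMain
import Cfsg.Agent.OddHalf.EightTorus.Rows

/-!
# ODD half, node D6: assembly

`d6z`: the node D6 (`Z(K) = 1`) from `Missing`:

* `ni`: the facts of node NI for `q > 3` (`NI.Assemble.Facts`);
* `three`: the rows of rank at least 2 over the field with 3 elements (`D6.Cut.Three`).

The rows `PSL(2,q)` (`D6.LTwoMain`) and Ree (`EightTorus.Rows`) are unconditional.
-/

set_option autoImplicit false

namespace Cfsg.Agent.OddHalf.D6.Final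

open Subgroup Cfsg Cfsg.Agent.OddHalf.Iface Cfsg.Agent.OddHalf.LieOddFam

universe u

/-- What is missing in D6. -/
structure Missing (S7 : ∀ (N : Type u) [Group N], N → N → Subgroup N → Subgroup N → Subgroup N → Prop) : Prop where
  ni : NI.Assemble.Facts S7
  three : Cut.Three.{u}

variable {S7 : ∀ (N : Type u) [Group N], N → N → Subgroup N → Subgroup N → Subgroup N → Prop}

/-- The rows from the row over the field with 3 elements. -/
theorem rows (h : Cut.Row.{u} (fun X _ => Rk X 3)) : Cut.Rows.{u} where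
  l27 _ _ C _ S hc _ h := LTwoMain.row27 C S hc h
  l2 _ _ C _ S hc _ h := LTwoMain.rowBig C S hc h
  ree G _ C K S hc _ h := EightTorus.Rows.ree G C K S hc h
  three := h

/-- **D6** (`Z(K) = 1`). -/
theorem d6z_of (H : NI.Assemble.Facts S7) (h : Cut.Row.{u} (fun X _ => Rk X 3)) : Cut.D6z.{u} :=
  NI.Assemble.d6_of H (rows h)

/-- **D6** (`Z(K) = 1`). -/
theorem d6z (M : Missing S7) : Cut.D6z.{u} := d6z_of M.ni (Cut.three_of M.three)

end Cfsg.Agent.OddHalf.D6.Final
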