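import Cfsg.Agent.S1232
import Cfsg.Agent.S1236
import Cfsg.Agent.GH.Rank

set_option autoImplicit false

/-!
# Harada's theorem in the form used for standard components with `|Q| = 2`

`x` an involution of `G`, `T` a Sylow 2-subgroup of `C_G(x)`.  If `T/⟨x⟩` is dihedral or quasi-dihedral and `T`
contains an elementary abelian subgroup of order 8 through `x`, then `G` has sectional 2-rank at most 4.
-/

namespace Cfsg.Agent.OddHalf.D6.Harada

open Cfsg Subgroup

/-- A Sylow 2-subgroup with a self-centralising elementary abelian subgroup of order 8. -/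
theorem rank_of_self {G : Type*} [Group G] [Finite G] (S : Sylow 2 G) (E : Subgroup G)
    (hES : E ≤ (S : Subgroup G)) (hc : ∀ a ∈ E, ∀ b ∈ E, a * b = b * a) (h2 : ∀ a ∈ E, a * a = 1)
    (h8 : Nat.card E = 8)
    (hC : ∀ s ∈ (S : Subgroup G), (∀ e ∈ E, s * e = e * s) → s ∈ E) :
    SectionalPRankLE 2 4 G := by
  rw [← GH.Rank.sylow_iff S]
  refine Cfsg.Agent.S1232.result (S := ↥(S : Subgroup G)) S.isPGroup' (E.subgroupOf S) ⟨?_, ?_⟩ ?_ ?_
  · refine ⟨⟨?_⟩⟩
    rintro ⟨⟨a, ha⟩, ha'⟩ ⟨⟨b, hb⟩, hb'⟩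
    apply Subtype.ext; apply Subtype.ext
    exact hc a (mem_subgroupOf.1 ha') b (mem_subgroupOf.1 hb')
  · rintro ⟨a, ha⟩ ha'
    apply Subtype.ext
    show a ^ 2 = 1
    rw [pow_two]; exact h2 a (mem_subgroupOf.1 ha')
  · rw [Nat.card_congr (Subgroup.subgroupOfEquivOfLe hES).toEquiv, h8]
  · ext ⟨s, hs⟩
    rw [mem_centralizer_iff, mem_subgroupOf]
    constructor
    · intro h
      refine hC s hs fun e he => ?_
      exact (congrArg Subtype.val (h ⟨e, hES he⟩ (mem_subgroupOf.2 he))).symm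
    · rintro h ⟨e, he⟩ he'
      apply Subtype.ext
      exact hc e (mem_subgroupOf.1 he') s h

/-- A Sylow 2-subgroup of the centraliser of `x` is the centraliser of `x` in any Sylow group over it. -/
theorem mem_of_comm {G : Type*} [Group G] [Finite G] {x : G} {T : Subgroup G}
    (hTx : T ≤ centralizer ({x} : Set G)) (hodd : Odd (T.relIndex (centralizer ({x} : Set G))))
    (S : Sylow 2 G) (hTS : T ≤ (S : Subgroup G)) {s : G} (hs : s ∈ (S : Subgroup G))
    (hsx : s * x = x * s) : s ∈ T := by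
  set U : Subgroup G := (S : Subgroup G) ⊓ centralizer ({x} : Set G) with hU
  have hTU : T ≤ U := le_inf hTS hTx
  have hUp : IsPGroup 2 U := S.isPGroup'.to_le inf_le_left
  have h1 : T.relIndex U ∣ T.relIndex (centralizer ({x} : Set G)) := by
    rw [← relIndex_mul_relIndex T U _ hTU inf_le_right]
    exact dvd_mul_right _ _
  have h2 : Odd (T.relIndex U) := Odd.of_dvd_nat hodd h1
  obtain ⟨n, hn⟩ : ∃ n, T.relIndex U = 2 ^ n := by
    have h3 : (T.subgroupOf U).index ∣ Nat.card U := index_dvd_card _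
    obtain ⟨m, hm⟩ := IsPGroup.iff_card.1 hUp
    rw [hm] at h3
    obtain ⟨k, _, hk⟩ := (Nat.dvd_prime_pow Nat.prime_two).1 h3
    exact ⟨k, hk⟩
  have h3 : T.relIndex U = 1 := by
    rcases Nat.eq_zero_or_pos n with h | h
    · rw [hn, h, pow_zero]
    · exfalso
      rw [hn] at h2
      exact (Nat.not_even_iff_odd.2 h2) ((Nat.even_pow.2 ⟨even_two, h.ne'⟩))
  rw [relIndex_eq_one] at h3
  refine h3 (mem_inf.2 ⟨hs, ?_⟩)
  rw [mem_centralizer_singleton_iff]
  exact hsx.symm ▸ rfl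

/-- **Harada.** `x` an involution, `T` a Sylow 2-subgroup of `C_G(x)`, `T/⟨x⟩` dihedral or quasi-dihedral,
`E ≤ T` elementary abelian of order 8 containing `x`: sectional 2-rank at most 4. -/
theorem rank_of_dihedral {G : Type*} [Group G] [Finite G] {x : G} (hx : orderOf x = 2)
    {T : Subgroup G} (hTp : IsPGroup 2 T) (hTx : T ≤ centralizer ({x} : Set G))
    (hodd : Odd (T.relIndex (centralizer ({x} : Set G)))) (hxT : x ∈ T)
    (hn : (zpowers (⟨x, hxT⟩ : T)).Normal)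
    (hq : (∃ m : ℕ, 2 ≤ m ∧ Nonempty (↥T ⧸ zpowers (⟨x, hxT⟩ : T) ≃* DihedralGroup m)) ∨
      IsQuasiDihedral (↥T ⧸ zpowers (⟨x, hxT⟩ : T)))
    (E : Subgroup G) (hET : E ≤ T) (hc : ∀ a ∈ E, ∀ b ∈ E, a * b = b * a)
    (h2 : ∀ a ∈ E, a * a = 1) (h8 : Nat.card E = 8) (hxE : x ∈ E) :
    SectionalPRankLE 2 4 G := by
  obtain ⟨S, hTS⟩ := hTp.exists_le_sylow
  refine rank_of_self S E (hET.trans hTS) hc h2 h8 ?_
  intro s hs hsE
  have hsT : s ∈ T := mem_of_comm hTx hodd S hTS hs (hsE x hxE)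
  have hxo : orderOf (⟨x, hxT⟩ : T) = 2 := by
    rw [← hx]; exact (Subgroup.orderOf_coe (⟨x, hxT⟩ : T)).symm
  have hxz : (⟨x, hxT⟩ : T) ∈ center T := by
    rw [mem_center_iff]
    rintro ⟨g, hg⟩
    apply Subtype.ext
    have := hTx hg
    rw [mem_centralizer_singleton_iff] at this
    exact this
  have key := Cfsg.Agent.S1236.result (R := T) ⟨x, hxT⟩ hxo hxz hq (E.subgroupOf T) ⟨⟨⟨?_⟩⟩, ?_⟩ ?_ ?_
  · have h3 : (⟨s, hsT⟩ : T) ∈ centralizer ((E.subgroupOf T : Subgroup T) : Set T) := by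
      rw [mem_centralizer_iff]
      rintro ⟨e, he⟩ he'
      apply Subtype.ext
      exact (hsE e (mem_subgroupOf.1 he')).symm
    rw [key] at h3
    exact mem_subgroupOf.1 h3
  · rintro ⟨⟨a, ha⟩, ha'⟩ ⟨⟨b, hb⟩, hb'⟩
    apply Subtype.ext; apply Subtype.ext
    exact hc a (mem_subgroupOf.1 ha') b (mem_subgroupOf.1 hb')
  · rintro ⟨a, ha⟩ ha'
    apply Subtype.ext
    show a ^ 2 = 1
    rw [pow_two]; exact h2 a (mem_subgroupOf.1 ha')
  · rw [Nat.card_congr (Subgroup.subgroupOfEquivOfLe hET).toEquiv, h8]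
  · exact mem_subgroupOf.2 hxE

end Cfsg.Agent.OddHalf.D6.Harada
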