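import Cfsg.Agent.OddHalf.UQ4Std
import Cfsg.Agent.GH.L2One.Inst
import Cfsg.Agent.UGT.FrameRank
import Cfsg.Agent.TwoFusion.SLTwoFacts
import Cfsg.Agent.SignalizersComponents.EvenComponent

/-!
# D6, `K = L₂(q)`: the Sylow 2-subgroups of `C(K)` have order 2

`K` standard in the simple group `G`, `K ≅ L₂(q)` (`q` odd, `q ≥ 5`; or any simple `K` with `HasData`), `t ∈ C(K)` an
involution, `O(C(t)) = 1`, the Sylow 2-subgroups of `C(K)` cyclic. If `t` is a square in `C(K)`, then the sectional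
2-rank of `G` is at most 4 (`rank_of_l2`). So in the world of `Iface.Ctx` they have order 2 (`card_sylow_of_l2`), and
`C(t) ∩ C(K) = ⟨t⟩` (`inf_eq_of_l2`).
-/

set_option autoImplicit false
set_option linter.style.haveILetI false

namespace Cfsg.Agent.OddHalf.D6.QTwo

open Subgroup Cfsg Cfsg.Agent.OddHalf.Iface Cfsg.Agent.OddHalf.UQ4
open Cfsg.Agent.Intrinsic.Basic Cfsg.Agent.GH.Defs
open Cfsg.Agent.Walter.SylowIn
open scoped commutatorElement

universe u

variable {G : Type u} [Group G] {K : Subgroup G} {t : G}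

/-- `K ≃ K / O(K)` if `O(K) = 1`. -/
noncomputable def barEquiv (hO : oddCore ↥K = ⊥) : ↥K ≃* Bar K :=
  ((QuotientGroup.quotientMulEquivOfEq hO).trans QuotientGroup.quotientBot).symm

theorem center_bar (hO : oddCore ↥K = ⊥) (hZ : center ↥K = ⊥) : center (Bar K) = ⊥ := by
  rw [eq_bot_iff]
  intro y hy
  rw [mem_bot]
  have h1 : (barEquiv hO).symm y ∈ center ↥K := by
    rw [mem_center_iff] at hy ⊢
    intro g
    have h2 := hy (barEquiv hO g)
    apply (barEquiv hO).injective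
    rw [map_mul, map_mul, (barEquiv hO).apply_symm_apply]
    exact h2
  rw [hZ, mem_bot] at h1
  rw [← (barEquiv hO).apply_symm_apply y, h1, map_one]

/-- `K ≃ STop K` if `O(K) = 1` and `Z(K) = 1`. -/
noncomputable def topEquiv' (hO : oddCore ↥K = ⊥) (hZ : center ↥K = ⊥) : ↥K ≃* STop K :=
  (barEquiv hO).trans
    ((QuotientGroup.quotientMulEquivOfEq (center_bar hO hZ)).trans QuotientGroup.quotientBot).symm

theorem core_eq_bot (hO : oddCore ↥K = ⊥) : core K = ⊥ := by
  unfold core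
  rw [hO, Subgroup.map_bot]

/-- `Fixes a K` for `O(K) = 1`: `a ∈ C(K)`. -/
theorem fixes_iff (hO : oddCore ↥K = ⊥) {a : G} : Fixes a K ↔ a ∈ centralizer (K : Set G) := by
  unfold Fixes
  rw [core_eq_bot hO]
  constructor
  · rintro ⟨-, h⟩
    rw [mem_centralizer_iff]
    intro y hy
    have h1 := h y hy
    rw [mem_bot, commutatorElement_eq_one_iff_mul_comm] at h1
    exact h1.symm
  · intro h
    refine ⟨?_, ?_⟩
    · exact Subgroup.centralizer_le_normalizer _ h
    · intro y hy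
      rw [mem_bot, commutatorElement_eq_one_iff_mul_comm]
      exact (mem_centralizer_iff.1 h y hy).symm

theorem center_eq_bot (hs : IsSimpleGroup ↥K) (hna : ¬ IsMulCommutative ↥K) : center ↥K = ⊥ := by
  rcases (inferInstance : (center ↥K).Normal).eq_bot_or_eq_top with h1 | h1
  · exact h1
  · exfalso
    refine hna ⟨⟨fun a b => ?_⟩⟩
    exact mem_center_iff.mp (h1 ▸ mem_top b : b ∈ center ↥K) a

/-- The frame of GH-L2 (`m₂(Q) = 1`, `|Q| ≥ 4`). -/
theorem exists_frame [Finite G] (std : IsStandardSubgroup K) (hOt : centralizerPPrimeCore 2 t = ⊥)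
    (hK : CompOf t K) (hc : Cyc K) (hs : IsSimpleGroup ↥K) (hKna : ¬ IsMulCommutative ↥K)
    (heven : Even (Nat.card ↥K)) (hd : GH.L2One.HasData ↥K) (ht : orderOf t = 2)
    (htK : t ∈ centralizer (K : Set G)) {r : G} (hr : r ∈ centralizer (K : Set G)) (hrt : r * r = t) :
    ∃ (T : Subgroup G) (A : Type) (_ : Group A) (d : ℕ) (r c : G) (o1 : G → ℤˣ) (o2 : G → A),
      GH.L2One.Frame t K T (T ⊓ K) (T ⊓ GH.L2Frame.fix K) d r c o1 o2 := by
  classical
  haveI : Fact (Nat.Prime 2) := ⟨Nat.prime_two⟩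
  have t1 : t ≠ 1 := by
    rintro rfl
    rw [orderOf_one] at ht
    exact absurd ht (by decide)
  have tt : t * t = 1 := by rw [← pow_two, ← ht, pow_orderOf_eq_one]
  have hn : ∀ x : G, x * t = t * x → ∀ k ∈ K, x * k * x⁻¹ ∈ K := norm_of_std std ht htK
  have hNK : centralizer ({t} : Set G) ≤ normalizer (K : Set G) :=
    (Cfsg.Agent.S1754.result K std t ht htK).1
  have hO : oddCore ↥K = ⊥ := Soft.oddCore_eq_bot heven
  have hZ : center ↥K = ⊥ := center_eq_bot hs hKna
  have r4 : orderOf r = 4 := by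
    have h1 : r ^ 2 ^ 2 = 1 := by
      have h2 : r ^ 2 ^ 2 = (r * r) * (r * r) := by
        rw [show (2 : ℕ) ^ 2 = 2 + 2 from rfl, pow_add, pow_two]
      rw [h2, hrt, tt]
    have h2 : ¬ r ^ 2 ^ 1 = 1 := by
      rw [pow_one, pow_two, hrt]
      exact t1
    rw [orderOf_eq_prime_pow h2 h1]
    norm_num
  have hrz : IsPGroup 2 (zpowers r) := IsPGroup.of_card (n := 2) (by rw [Nat.card_zpowers, r4]; norm_num)
  have hrt' : r * t = t * r := by rw [← hrt, mul_assoc]
  have hrc : zpowers r ≤ centralizer ({t} : Set G) := by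
    rw [zpowers_le]
    exact mem_centralizer_singleton_iff.2 hrt'
  obtain ⟨T, hT, hrT⟩ := exists_sylIn_ge hrc hrz
  have hfix : ∀ a : G, a ∈ GH.L2Frame.fix K ↔ a ∈ centralizer (K : Set G) := fun a => by
    rw [← fixes_iff hO]
    exact GH.L2Frame.mem_fix
  have F : GH.L2Frame.Frame (centralizer ({t} : Set G)) K T := by
    refine ⟨⟨hK.1, ?_⟩, ?_, hT.le.trans hNK, hT⟩
    · refine SignalizersComponents.EvenComponent.isPComponent_of_isComponent hK.2 ?_
      rw [Nat.card_congr (subgroupOfEquivOfLe hK.1).toEquiv]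
      exact even_iff_two_dvd.mp heven
    · unfold EvenCenter
      rw [center_bar hO hZ, Subgroup.card_bot]
      decide
  obtain ⟨A, i, d, r', c, o1, o2, h⟩ := GH.L2One.HasData.frame ht F hNK (hd.congr (topEquiv' hO hZ))
    (by
      intro q hq hqq
      have hRc := (isCyclic_RR hOt hn ht htK hc).2
      by_cases hq1 : q = 1
      · exact Or.inl hq1
      right
      have hqR : q ∈ RR t K := ⟨hT.le hq.1, (hfix q).1 hq.2⟩
      have htR : t ∈ RR t K := ⟨mem_centralizer_singleton_iff.2 rfl, htK⟩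
      exact congrArg Subtype.val (eq_of_cyclic (x := (⟨q, hqR⟩ : RR t K)) (y := ⟨t, htR⟩) (Subtype.ext hqq)
        (fun h => hq1 (congrArg Subtype.val h)) (Subtype.ext tt) (fun h => t1 (congrArg Subtype.val h))))
    (by
      have h1 : zpowers r ≤ T ⊓ GH.L2Frame.fix K := by
        rw [zpowers_le]
        exact ⟨hrT (mem_zpowers r), (hfix r).2 hr⟩
      have h2 := Subgroup.card_le_of_le h1
      rw [Nat.card_zpowers, r4] at h2
      exact h2)
  exact ⟨T, A, i, d, r', c, o1, o2, h⟩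

/-- `|Q| ≥ 4`: sectional 2-rank at most 4. -/
theorem rank_of_data [Finite G] [IsSimpleGroup G] (hna : ¬ IsMulCommutative G) (std : IsStandardSubgroup K)
    (hOt : centralizerPPrimeCore 2 t = ⊥) (hK : CompOf t K) (hc : Cyc K) (hs : IsSimpleGroup ↥K)
    (hKna : ¬ IsMulCommutative ↥K) (heven : Even (Nat.card ↥K)) (hd : GH.L2One.HasData ↥K)
    (ht : orderOf t = 2) (htK : t ∈ centralizer (K : Set G)) {r : G} (hr : r ∈ centralizer (K : Set G))
    (hrt : r * r = t) : SectionalPRankLE 2 4 G := by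
  obtain ⟨T, A, i, d, r', c, o1, o2, h⟩ := exists_frame std hOt hK hc hs hKna heven hd ht htK hr hrt
  exact UGT.FrameRank.rank_of_frame hna h

theorem l2_simple {X : Type*} [Group X] (h : IsL2odd X) : IsSimpleGroup X := by
  obtain ⟨F, _, _, hodd, h5, ⟨e⟩⟩ := h
  have hs := TwoFusion.SLTwoFacts.isSimpleGroup_psl (F := F) (by omega)
  exact Known.isSimple_congr e.symm hs

/-- `K ≅ L₂(q)`, `q ≥ 5` odd, `|Q| ≥ 4`: sectional 2-rank at most 4. -/
theorem rank_of_l2 [Finite G] [IsSimpleGroup G] (hna : ¬ IsMulCommutative G) (std : IsStandardSubgroup K)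
    (hOt : centralizerPPrimeCore 2 t = ⊥) (hK : CompOf t K) (hc : Cyc K) (he : IsL2odd ↥K)
    (ht : orderOf t = 2) (htK : t ∈ centralizer (K : Set G)) {r : G} (hr : r ∈ centralizer (K : Set G))
    (hrt : r * r = t) : SectionalPRankLE 2 4 G := by
  have hs := l2_simple he
  have hKna : ¬ IsMulCommutative ↥K := fun h => by
    have h1 := Soft.quo_na (Soft.CompOf.quasisimple hK)
    exact h1 ⟨⟨fun a b => by
      obtain ⟨x, rfl⟩ := QuotientGroup.mk_surjective a
      obtain ⟨y, rfl⟩ := QuotientGroup.mk_surjective b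
      rw [← QuotientGroup.mk_mul, ← QuotientGroup.mk_mul, h.is_comm.comm]⟩⟩
  have hd := GH.L2One.hasData_of_l2 he
  have heven : Even (Nat.card ↥K) := by
    obtain ⟨P⟩ : Nonempty (Sylow 2 ↥K) := inferInstance
    obtain ⟨A, _, d, r', c, p1, p2, h⟩ := hd P
    obtain ⟨m, hm⟩ : ∃ m, d - 1 = m + 1 := ⟨d - 2, by have := h.d_ge; omega⟩
    have h1 := orderOf_dvd_natCard r'
    rw [h.or_eq, hm, pow_succ] at h1
    exact even_iff_two_dvd.mpr ((Dvd.intro_left _ rfl).trans h1)
  exact rank_of_data hna std hOt hK hc hs hKna heven hd ht htK hr hrt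

/-- In the world of `Ctx` no involution of `C(K)` is a square in `C(K)`. -/
theorem not_square (C : Ctx G) (S : Std0 G K) (hc : Cyc K) (he : IsL2odd ↥K) (ht : orderOf t = 2)
    (htK : t ∈ centralizer (K : Set G)) : ∀ r ∈ centralizer (K : Set G), r * r ≠ t := by
  intro r hr hrt
  haveI := C.fin
  haveI := C.simple
  exact C.sect5 (rank_of_l2 C.na S.std (C.bal t ht) (S.term t ht htK) hc he ht htK hr hrt)

/-- **`K = L₂(q)`: `C(t) ∩ C(K) = ⟨t⟩`.** -/
theorem inf_eq_of_l2 (C : Ctx G) (S : Std0 G K) (hc : Cyc K) (he : IsL2odd ↥K) (ht : orderOf t = 2)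
    (htK : t ∈ centralizer (K : Set G)) :
    centralizer ({t} : Set G) ⊓ centralizer (K : Set G) = zpowers t := by
  haveI := C.fin
  exact RR_eq_of_not_square (C.bal t ht) (norm_of_std S.std ht htK) ht htK hc (not_square C S hc he ht htK)

/-- **`K = L₂(q)`: the Sylow 2-subgroups of `C(K)` have order 2.** -/
theorem card_sylow_of_l2 (C : Ctx G) (S : Std0 G K) (hc : Cyc K) (he : IsL2odd ↥K) (ht : orderOf t = 2)
    (htK : t ∈ centralizer (K : Set G)) (P : Sylow 2 ↥(centralizer (K : Set G))) :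
    Nat.card ↥(P : Subgroup ↥(centralizer (K : Set G))) = 2 := by
  haveI := C.fin
  exact card_sylow_of_RR ht htK hc (inf_eq_of_l2 C S hc he ht htK) P

end Cfsg.Agent.OddHalf.D6.QTwo
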