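import Cfsg.Agent.OddHalf.D6.Setup
import Cfsg.Agent.OddHalf.D6.Harada
import Cfsg.Agent.OddHalf.D6.TypeA
import Cfsg.Agent.OddHalf.TR

/-!
# ODD D6, `K = L₂(q)`, `|Q| = 2`: the field involution (helper708)
-/

set_option autoImplicit false

namespace Cfsg.Agent.OddHalf.D6

open Subgroup Cfsg.Agent.GH Cfsg.Agent.GH.L2Aut

variable {G : Type*} [Group G]

theorem four_card {a b : G} (h : Four a b) : Nat.card h.sub = 4 := by
  have h1 : ((h.sub : Subgroup G) : Set G) = {1, a, b, a * b} := by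
    ext x
    show (x = 1 ∨ x = a ∨ x = b ∨ x = a * b) ↔ _
    simp only [Set.mem_insert_iff, Set.mem_singleton_iff]
  have h2 : Nat.card h.sub = ((h.sub : Subgroup G) : Set G).ncard := rfl
  have hab1 : a * b ≠ 1 := h.right.b1
  have haba : a ≠ a * b := h.right.ne
  have habb : b ≠ a * b := fun h3 => h.a1 (by simpa using h3.symm)
  rw [h2, h1, Set.ncard_insert_of_notMem, Set.ncard_insert_of_notMem, Set.ncard_insert_of_notMem,
    Set.ncard_singleton]
  · simpa using habb
  · simp only [Set.mem_insert_iff, Set.mem_singleton_iff, not_or]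
    exact ⟨h.ne, haba⟩
  · simp only [Set.mem_insert_iff, Set.mem_singleton_iff, not_or]
    exact ⟨h.a1.symm, h.b1.symm, hab1.symm⟩

theorem four_sq {a b : G} (h : Four a b) {v : G} (hv : v ∈ h.sub) : v * v = 1 := by
  rcases hv with rfl | rfl | rfl | rfl
  · exact one_mul 1
  · exact h.aa
  · exact h.bb
  · exact h.right.bb

theorem four_comm {a b c : G} (h : Four a b) (ca : c * a = a * c) (cb : c * b = b * c)
    {v : G} (hv : v ∈ h.sub) : c * v = v * c := by
  rcases hv with rfl | rfl | rfl | rfl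
  · simp
  · exact ca
  · exact cb
  · rw [← mul_assoc, ca, mul_assoc, cb, mul_assoc]

theorem four_comm' {a b c : G} (h : Four a b) (ca : c * a = a * c) (cb : c * b = b * c)
    {v : G} (hv : v * c ∈ h.sub) : c * v = v * c := by
  have h1 := four_comm h ca cb hv
  rw [← mul_assoc] at h1
  exact mul_right_cancel h1

/-- the elementary abelian group `⟨a, b⟩ × ⟨c⟩` -/
def eight {a b c : G} (h : Four a b) (cc : c * c = 1) (ca : c * a = a * c) (cb : c * b = b * c) :
    Subgroup G where
  carrier := {g | g ∈ h.sub ∨ g * c ∈ h.sub}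
  one_mem' := Or.inl (one_mem _)
  mul_mem' := by
    rintro g k (hg | hg) (hk | hk)
    · exact Or.inl (h.sub.mul_mem hg hk)
    · right
      rw [mul_assoc]; exact h.sub.mul_mem hg hk
    · right
      rw [mul_assoc, ← four_comm h ca cb hk, ← mul_assoc]; exact h.sub.mul_mem hg hk
    · left
      have h1 := h.sub.mul_mem hg hk
      rw [mul_assoc, ← mul_assoc c, four_comm' h ca cb hk, mul_assoc k, cc, mul_one] at h1
      exact h1
  inv_mem' := by
    intro g hg
    have h1 : g * g = 1 := by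
      rcases hg with hg | hg
      · exact four_sq h hg
      · have h2 := four_sq h hg
        rw [mul_assoc, ← mul_assoc c, four_comm' h ca cb hg, mul_assoc g, cc, mul_one] at h2
        exact h2
    rw [inv_eq_of_mul_eq_one_left h1]
    exact hg

theorem eight_comm {a b c : G} {h : Four a b} {cc : c * c = 1} {ca : c * a = a * c}
    {cb : c * b = b * c} {d : G} (ha : d * a = a * d) (hb : d * b = b * d) (hc : d * c = c * d)
    {g : G} (hg : g ∈ eight h cc ca cb) : d * g = g * d := by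
  rcases hg with hg | hg
  · exact four_comm h ha hb hg
  · have h1 := four_comm h ha hb hg
    rw [← mul_assoc, mul_assoc g, ← hc, ← mul_assoc] at h1
    exact mul_right_cancel h1

theorem eight_mem {a b c : G} {h : Four a b} {cc : c * c = 1} {ca : c * a = a * c}
    {cb : c * b = b * c} : a ∈ eight h cc ca cb ∧ b ∈ eight h cc ca cb ∧ c ∈ eight h cc ca cb :=
  ⟨Or.inl (Or.inr (Or.inl rfl)), Or.inl (Or.inr (Or.inr (Or.inl rfl))),
    Or.inr (by rw [cc]; exact one_mem _)⟩

theorem eight_cases {a b c : G} {h : Four a b} {cc : c * c = 1} {ca : c * a = a * c}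
    {cb : c * b = b * c} {g : G} (hg : g ∈ eight h cc ca cb) :
    ∃ v ∈ h.sub, g = v ∨ g = v * c := by
  rcases hg with hg | hg
  · exact ⟨g, hg, Or.inl rfl⟩
  · exact ⟨_, hg, Or.inr (by rw [mul_assoc, cc, mul_one])⟩

theorem eight_card {a b c : G} {h : Four a b} {cc : c * c = 1} {ca : c * a = a * c}
    {cb : c * b = b * c} (hc : c ∉ h.sub) : Nat.card (eight h cc ca cb) = 8 := by
  have h1 : Nat.card (h.sub × Bool) = 8 := by
    rw [Nat.card_prod, four_card h]
    simp
  rw [← h1]
  symm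
  refine Nat.card_congr (Equiv.ofBijective
    (fun p : h.sub × Bool => (⟨if p.2 then (p.1 : G) * c else p.1, ?_⟩ : eight h cc ca cb)) ⟨?_, ?_⟩)
  · show _ ∈ h.sub ∨ _ ∈ h.sub
    by_cases hp : p.2 = true
    · right
      rw [if_pos hp, mul_assoc, cc, mul_one]; exact p.1.2
    · left
      rw [if_neg hp]; exact p.1.2
  · rintro ⟨⟨v, hv⟩, i⟩ ⟨⟨w, hw⟩, j⟩ hij
    have h2 : (if i = true then v * c else v) = (if j = true then w * c else w) :=
      congrArg Subtype.val hij
    cases i <;> cases j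
    · simp only [Bool.false_eq_true, if_false] at h2
      subst h2; rfl
    · exfalso
      simp only [Bool.false_eq_true, if_false, if_true] at h2
      apply hc
      have h3 : c = w⁻¹ * v := by rw [h2, inv_mul_cancel_left]
      rw [h3]; exact h.sub.mul_mem (h.sub.inv_mem hw) hv
    · exfalso
      simp only [Bool.false_eq_true, if_false, if_true] at h2
      apply hc
      have h3 : c = v⁻¹ * w := by rw [← h2, inv_mul_cancel_left]
      rw [h3]; exact h.sub.mul_mem (h.sub.inv_mem hv) hw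
    · simp only [if_true] at h2
      have h3 := mul_right_cancel h2
      subst h3; rfl
  · rintro ⟨g, hg⟩
    obtain ⟨v, hv, rfl | rfl⟩ := eight_cases hg
    · exact ⟨(⟨g, hv⟩, false), Subtype.ext (by simp)⟩
    · exact ⟨(⟨v, hv⟩, true), Subtype.ext (by simp)⟩

theorem four_coe {K : Subgroup G} {a b : K} (h : Four a b) : Four (a : G) (b : G) where
  aa := congrArg Subtype.val h.aa
  bb := congrArg Subtype.val h.bb
  a1 := fun h1 => h.a1 (Subtype.ext h1)
  b1 := fun h1 => h.b1 (Subtype.ext h1)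
  ne := fun h1 => h.ne (Subtype.ext h1)
  comm := congrArg Subtype.val h.comm

theorem pow_of_mem {T : Subgroup G} (hT : IsPGroup 2 T) {t : G} (ht : t ∈ T) :
    ∃ n, t ^ 2 ^ n = 1 := by
  obtain ⟨n, hn⟩ := hT ⟨t, ht⟩
  exact ⟨n, congrArg Subtype.val hn⟩

theorem exists_pow_two {A : Type*} [Group A] {σ : A} (h : ∃ n, σ ^ 2 ^ n = 1) (h1 : σ ≠ 1) :
    ∃ m, σ ^ 2 ^ m ≠ 1 ∧ σ ^ 2 ^ m * σ ^ 2 ^ m = 1 := by
  obtain ⟨n, hn⟩ := h
  induction n with
  | zero => rw [pow_zero, pow_one] at hn; exact absurd hn h1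
  | succ n ih =>
    by_cases h2 : σ ^ 2 ^ n = 1
    · exact ih h2
    · refine ⟨n, h2, ?_⟩
      rw [← pow_add, ← two_mul, ← pow_succ', hn]

theorem Acts.pow_one {K : Subgroup G} {t : G} {α : MulAut K} (h : Acts K t α)
    (ht : ∃ n, t ^ 2 ^ n = 1) : ∃ n, α ^ 2 ^ n = 1 := by
  obtain ⟨n, hn⟩ := ht
  refine ⟨n, ?_⟩
  have h1 := h.pow (2 ^ n)
  rw [hn] at h1
  exact h1.unique Acts.one

namespace Setup

variable {x : G} {K T : Subgroup G}

/-- `T ∩ K` is a Sylow 2-subgroup of `K` -/
theorem sylK [Finite G] (S : Setup x K T) :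
    ∃ P : Sylow 2 K, (P : Subgroup K) = T.subgroupOf K := by
  have h2 : IsPGroup 2 (T.subgroupOf K) := by
    have h3 : IsPGroup 2 ((T.subgroupOf K).map K.subtype) := by
      refine S.pT.to_le ?_
      rintro _ ⟨y, hy, rfl⟩
      exact hy
    exact IsPGroup.of_injective h3 ((T.subgroupOf K).equivMapOfInjective K.subtype
      K.subtype_injective).toMonoidHom (MulEquiv.injective _)
  obtain ⟨P, hP⟩ := h2.exists_le_sylow
  refine ⟨P, (Subgroup.eq_of_le_of_card_ge hP ?_).symm⟩
  have h3 : IsPGroup 2 ((P : Subgroup K).map K.subtype) := P.isPGroup'.map _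
  obtain ⟨g, hg, h⟩ := S.syl _ h3 (by
    rintro _ ⟨y, -, rfl⟩
    exact S.Kx y y.2)
  refine Nat.card_le_card_of_injective
    (fun y : (P : Subgroup K) => (⟨⟨g * ((y : K) : G) * g⁻¹, S.Kn g hg _ (y : K).2⟩,
      mem_subgroupOf.2 (h _ ⟨y, y.2, rfl⟩)⟩ : T.subgroupOf K)) ?_
  intro a b hab
  have h4 : g * ((a : K) : G) * g⁻¹ = g * ((b : K) : G) * g⁻¹ :=
    congrArg (fun z : T.subgroupOf K => ((z : K) : G)) hab
  exact Subtype.ext (Subtype.ext (mul_left_cancel (mul_right_cancel h4)))

theorem mem_of_comm [Finite G] (S : Setup x K T) {U : Subgroup G} (hU : IsPGroup 2 U) (hTU : T ≤ U)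
    {s : G} (hs : s ∈ U) (hsx : s * x = x * s) : s ∈ T := by
  have h1 := S.max (P := U ⊓ centralizer ({x} : Set G)) (hU.to_le inf_le_left)
    (le_inf hTU (fun t ht => mem_centralizer_singleton_iff.2 (S.cx t ht)))
    (fun y hy => mem_centralizer_singleton_iff.1 hy.2)
  exact h1 ⟨hs, mem_centralizer_singleton_iff.2 hsx⟩

theorem xK (S : Setup x K T) {F : Type*} [Field F] [Finite F] (R : L2Aut.Rep F K) : x ∉ K := by
  intro h
  have h1 : (⟨x, h⟩ : K) ∈ Subgroup.center K := by
    rw [Subgroup.mem_center_iff]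
    intro k
    exact Subtype.ext (S.Kx k k.2)
  rw [R.center_eq_bot, mem_bot] at h1
  exact S.x1 (congrArg Subtype.val h1)

theorem xK' (S : Setup x K T) {F : Type*} [Field F] [Finite F] (R : L2Aut.Rep F K) {k : G} (hk : k ∈ K) :
    k * x ∉ K := fun h => S.xK R (by simpa using K.mul_mem (K.inv_mem hk) h)

/-- the four-group part -/
theorem self_cent [Finite G] (S : Setup x K T) {F : Type*} [Field F] [Finite F] (R : L2Aut.Rep F K)
    (h : ∀ t ∈ T, ∀ α, Acts K t α → α * α = 1 → R.fld α = 1) {a b : K} (hab : Four a b)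
    (ha : (a : G) ∈ T) (hb : (b : G) ∈ T) {s : G} (hs : s ∈ T) (hsa : s * a = a * s)
    (hsb : s * b = b * s) : ∃ u : G, (u = 1 ∨ u = a ∨ u = b ∨ u = a * b) ∧ (s = u ∨ s = u * x) := by
  obtain ⟨Φ, -, -, hΦf, -, -, -, -, -, -, -, -, -, -, -, -, hfr, -⟩ := R.exists_frame hab
  obtain ⟨α, hα⟩ := S.acts (S.cx s hs)
  obtain ⟨u, hu, hu'⟩ := hfr α (hα.fix hsa) (hα.fix hsb)
  have huT : (u : G) ∈ T := by
    rcases hu with rfl | rfl | rfl | rfl
    · exact one_mem T
    · exact ha
    · exact hb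
    · exact T.mul_mem ha hb
  have hσ : R.fld α = 1 := by
    by_contra hσ
    have h3 : ∃ n, (R.fld α) ^ 2 ^ n = 1 := by
      obtain ⟨n, hn⟩ := hα.pow_one (pow_of_mem S.pT hs)
      exact ⟨n, by rw [← map_pow, hn, map_one]⟩
    obtain ⟨m, hm1, hm2⟩ := exists_pow_two h3 hσ
    have h4 : Acts K ((u⁻¹ : G) * s) (Φ (R.fld α)) := by
      have h5 : Acts K ((u : G)⁻¹ * s) ((MulAut.conj u)⁻¹ * α) := ((Acts.conj u.2).inv).mul hα
      rw [hu'] at h5
      rw [inv_mul_cancel_left] at h5
      exact h5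
    have h5 := h4.pow (2 ^ m)
    rw [← map_pow] at h5
    have h6 := h _ (T.pow_mem (T.mul_mem (T.inv_mem huT) hs) (2 ^ m)) _ h5
      (by rw [← map_mul, hm2, map_one])
    rw [hΦf] at h6
    exact hm1 h6
  refine ⟨u, ?_, ?_⟩
  · rcases hu with rfl | rfl | rfl | rfl
    · left; rfl
    · right; left; rfl
    · right; right; left; rfl
    · right; right; right; rfl
  · rw [hσ, map_one, mul_one] at hu'
    rw [hu'] at hα
    exact S.eq_or (S.cx s hs) (S.Kx u u.2) hα (Acts.conj u.2)

/-- **(B1)** no element of field type: sectional rank at most 4 -/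
theorem harada [Finite G] (S : Setup x K T) {F : Type*} [Field F] [Finite F] (R : L2Aut.Rep F K)
    (h : ∀ t ∈ T, ∀ α, Acts K t α → α * α = 1 → R.fld α = 1) : SectionalPRankLE 2 4 G := by
  obtain ⟨P, hP⟩ := S.sylK
  obtain ⟨a, b, ha, hb, hab⟩ := R.exists_four_mem P
  have haT : (a : G) ∈ T := by
    have : a ∈ T.subgroupOf K := by rw [← hP]; exact ha
    exact this
  have hbT : (b : G) ∈ T := by
    have : b ∈ T.subgroupOf K := by rw [← hP]; exact hb
    exact this
  have hab' := four_coe hab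
  obtain ⟨S2, hTS⟩ := S.pT.exists_le_sylow
  have hxa : x * (a : G) = a * x := (S.Kx a a.2).symm
  have hxb : x * (b : G) = b * x := (S.Kx b b.2).symm
  have hxV : x ∉ hab'.sub := by
    intro hx
    apply S.xK R
    rcases hx with hx | hx | hx | hx <;> rw [hx]
    · exact one_mem K
    · exact a.2
    · exact b.2
    · exact K.mul_mem a.2 b.2
  have hVT : hab'.sub ≤ T := by
    rintro v (rfl | rfl | rfl | rfl)
    · exact one_mem T
    · exact haT
    · exact hbT
    · exact T.mul_mem haT hbT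
  refine Harada.rank_of_self S2 (eight hab' S.xx hxa hxb) ?_ ?_ ?_ (eight_card hxV) ?_
  · intro g hg
    obtain ⟨v, hv, rfl | rfl⟩ := eight_cases hg
    · exact hTS (hVT hv)
    · exact hTS (T.mul_mem (hVT hv) S.xT)
  · intro c hc d hd
    have hcs : ∀ y, y = (a : G) ∨ y = (b : G) ∨ y = x → c * y = y * c := by
      rintro y (rfl | rfl | rfl)
      · exact (eight_comm (d := (a : G)) rfl hab'.comm (S.Kx a a.2) hc).symm
      · exact (eight_comm (d := (b : G)) hab'.comm.symm rfl (S.Kx b b.2) hc).symm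
      · exact (eight_comm hxa hxb rfl hc).symm
    exact eight_comm (hcs _ (Or.inl rfl)) (hcs _ (Or.inr (Or.inl rfl)))
      (hcs _ (Or.inr (Or.inr rfl))) hd
  · intro g hg
    obtain ⟨v, hv, rfl | rfl⟩ := eight_cases hg
    · exact four_sq hab' hv
    · rw [mul_assoc, ← mul_assoc x, four_comm hab' hxa hxb hv, mul_assoc v, S.xx, mul_one]
      exact four_sq hab' hv
  · intro s hs hsE
    have hsx := hsE x eight_mem.2.2
    have hsT : s ∈ T := S.mem_of_comm S2.isPGroup' hTS hs hsx
    obtain ⟨u, hu, hu'⟩ := S.self_cent R h hab haT hbT hsT (hsE _ eight_mem.1)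
      (hsE _ eight_mem.2.1)
    have huV : u ∈ hab'.sub := hu
    rcases hu' with rfl | rfl
    · exact Or.inl huV
    · right
      rw [mul_assoc, S.xx, mul_one]; exact huV

end Setup

theorem rank_cyclic {A : Type*} [Group A] [IsCyclic A] : SectionalPRankLE 2 1 A := by
  intro H N _ E _ hE
  have h0 : IsCyclic (H ⧸ N) :=
    isCyclic_of_surjective (QuotientGroup.mk' N) (QuotientGroup.mk'_surjective N)
  obtain ⟨g, hg⟩ := IsCyclic.exists_generator (α := E)
  have h1 : Nat.card E = orderOf g := (orderOf_eq_card_of_forall_mem_zpowers hg).symm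
  rw [h1]
  apply orderOf_le_of_pow_eq_one (by norm_num)
  rw [pow_one]
  exact Subtype.ext (hE g g.2)

theorem rank_of_zpowers {A : Type*} [Group A] {P : Subgroup A} {c : A}
    (hc : ∀ y ∈ P, y ∈ zpowers c) : SectionalPRankLE 2 1 P := by
  have h1 : IsCyclic P := by
    have h2 : P ≤ zpowers c := fun y hy => hc y hy
    exact isCyclic_of_injective (Subgroup.inclusion h2) (Subgroup.inclusion_injective h2)
  exact rank_cyclic

theorem rank_dih {A : Type*} [Group A] [Finite A] {P : Subgroup A} {c r : A} (h : Dih P c r) :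
    SectionalPRankLE 2 2 P := by
  have hle : zpowers c ≤ P := zpowers_le.2 h.d_mem
  have h3 : IsCyclic (zpowers c) := inferInstance
  have h2 : IsCyclic ((zpowers c).subgroupOf P) :=
    isCyclic_of_injective ((subgroupOfEquivOfLe hle).toMonoidHom) (MulEquiv.injective _)
  refine Rank.of_index_le (K := (zpowers c).subgroupOf P) (a := 1) (b := 1) rank_cyclic ?_
  have h5 := Subgroup.card_mul_index ((zpowers c).subgroupOf P)
  rw [Nat.card_congr (subgroupOfEquivOfLe hle).toEquiv, Nat.card_zpowers, h.card] at h5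
  have h6 := orderOf_pos c
  have h7 : orderOf c * ((zpowers c).subgroupOf P).index = orderOf c * 2 := by rw [h5]; ring
  rw [Nat.eq_of_mul_eq_mul_left h6 h7]
  norm_num

/-- 2-subgroups of `Aut(L)` have sectional rank at most 3 -/
theorem rank_aut {F L : Type*} [Field F] [Finite F] [Group L] (R : L2Aut.Rep F L)
    (P : Subgroup (MulAut L)) (hP : IsPGroup 2 P) : SectionalPRankLE 2 3 P := by
  have hfin : Finite L := R.finite
  have hfin' : Finite (MulAut L) := R.finite_aut
  have hcyc : IsCyclic (F ≃+* F) := LieRecognition.FieldSemilinear.isCyclic_ringAut F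
  let f : P →* (F ≃+* F) := R.fld.comp P.subtype
  have h1 : SectionalPRankLE 2 2 f.ker := by
    have h2 : SectionalPRankLE 2 2 ((f.ker).map P.subtype) := by
      rcases R.pgl_two_group ((f.ker).map P.subtype)
        (hP.to_le (by rintro _ ⟨y, -, rfl⟩; exact y.2)) (by
          rintro _ ⟨y, hy, rfl⟩
          exact R.mem_PGL_iff_fld.2 hy) with ⟨c, -, hc⟩ | ⟨c, r, hd⟩
      · exact Rank.le_mono (by norm_num) (rank_of_zpowers hc) (by norm_num)
      · exact rank_dih hd
    exact Rank.of_equiv h2 ((f.ker).equivMapOfInjective P.subtype P.subtype_injective).symm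
  have h3 : SectionalPRankLE 2 1 f.range := by
    have : IsCyclic f.range := inferInstance
    exact rank_cyclic
  exact Rank.of_extension f h1 h3

namespace Setup

variable {x : G} {K T : Subgroup G}

/-- **(B2)** `T` has sectional rank at most 4 -/
theorem rank_T [Finite G] (S : Setup x K T) {F : Type*} [Field F] [Finite F]
    (R : L2Aut.Rep F K) : SectionalPRankLE 2 4 T := by
  have hle : T ≤ normalizer (K : Set G) := fun t ht =>
    mem_normalizer_fintype fun k hk => S.Kn t (S.cx t ht) k hk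
  let f : T →* MulAut K := K.normalizerMonoidHom.comp (Subgroup.inclusion hle)
  have hf : ∀ t : T, Acts K t (f t) := fun t k => rfl
  have h1 : SectionalPRankLE 2 1 f.ker := by
    refine rank_of_zpowers (c := (⟨x, S.xT⟩ : T)) ?_
    intro t ht
    have h2 := hf t
    rw [MonoidHom.mem_ker] at ht
    rw [ht] at h2
    rcases S.ker (S.cx t t.2) h2 with h3 | h3
    · have : t = 1 := Subtype.ext h3
      rw [this]; exact one_mem _
    · have : t = ⟨x, S.xT⟩ := Subtype.ext h3
      rw [this]; exact mem_zpowers _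
  have h2 : SectionalPRankLE 2 3 f.range := by
    exact rank_aut R _ (IsPGroup.of_surjective S.pT f.rangeRestrict f.rangeRestrict_surjective)
  exact Rank.of_extension f h1 h2

theorem exists_grow [Finite G] (S : Setup x K T) {F : Type*} [Field F] [Finite F]
    (R : L2Aut.Rep F K) (h : ¬ SectionalPRankLE 2 4 G) :
    ∃ s, (∀ t ∈ T, s * t * s⁻¹ ∈ T) ∧ s * s ∈ T ∧ s ∉ T ∧ s * x ≠ x * s ∧ ∃ n, s ^ 2 ^ n = 1 := by
  obtain ⟨S2, hTS⟩ := S.pT.exists_le_sylow
  have hlt : T < (S2 : Subgroup G) := by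
    refine lt_of_le_of_ne hTS ?_
    rintro rfl
    exact h ((Rank.sylow_iff S2).1 (S.rank_T R))
  have : Group.IsNilpotent (S2 : Subgroup G) := S2.isPGroup'.isNilpotent
  obtain ⟨y, hyS, hyT, hyN⟩ :=
    Cfsg.Agent.Transfer.FrobeniusFusion.exists_mem_normalizer_notMem hlt
  obtain ⟨n, hn⟩ := pow_of_mem S2.isPGroup' hyS
  obtain ⟨m, hm1, hm2⟩ : ∃ m, y ^ 2 ^ m ∉ T ∧ y ^ 2 ^ (m + 1) ∈ T := by
    have h1 : y ^ 2 ^ n ∈ T := by rw [hn]; exact one_mem T
    clear hn
    induction n with
    | zero => rw [pow_zero, pow_one] at h1; exact absurd h1 hyT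
    | succ n ih =>
      by_cases h2 : y ^ 2 ^ n ∈ T
      · exact ih h2
      · exact ⟨n, h2, h1⟩
  have hN : y ^ 2 ^ m ∈ normalizer (T : Set G) := (normalizer (T : Set G)).pow_mem hyN _
  have hc : ∀ t ∈ T, y ^ 2 ^ m * t * (y ^ 2 ^ m)⁻¹ ∈ T := fun t ht =>
    (mem_normalizer_iff.1 hN t).1 ht
  obtain ⟨k, hk⟩ := pow_of_mem S2.isPGroup' ((S2 : Subgroup G).pow_mem hyS (2 ^ m))
  refine ⟨y ^ 2 ^ m, hc, ?_, hm1, ?_, k, hk⟩
  · rw [← pow_add, ← two_mul, ← pow_succ']; exact hm2
  · intro h3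
    exact hm1 (S.mem_of_norm ⟨k, hk⟩ h3 hc)

end Setup

end Cfsg.Agent.OddHalf.D6
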