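import Cfsg.Agent.GH.L2AutD
import Cfsg.Agent.GH.L2AutH90

/-!
# ODD D6: automorphisms of `L ≅ PSL(2,F)`, `F` finite of odd characteristic

* `Rep.cent_data` : the centralizer in `L` of an involution `φ ∈ PGL(2,F)`;
* `Rep.field_four` : an involution `φ ∉ PGL(2,F)` fixes a four-group and an element of order 3 permuting it;
* `Rep.eq_one_of_fix` : an automorphism of odd order commuting with an involution `φ ∈ PGL(2,F)` and trivial on
  `C_L(φ)` is trivial.
-/

set_option autoImplicit false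

namespace Cfsg.Agent.GH.L2Aut

open Matrix Cfsg.Agent.Lib.SL2Mat Cfsg.Agent.Lib.AutSL2 Cfsg.Agent.Lib.AutSL2Out

/-- `p² + d r² = -1` is solvable. -/
theorem exists_sq_add_mul_sq {F : Type*} [Field F] [Finite F] (h2 : (2 : F) ≠ 0) {d : F} (hd : d ≠ 0) :
    ∃ p r : F, p ^ 2 + d * r ^ 2 = -1 := by
  have := Fintype.ofFinite F
  have hodd : Fintype.card F % 2 = 1 := by
    have h3 : ringChar F ≠ 2 := by
      intro h
      apply h2
      have h4 := ringChar.Nat.cast_ringChar (R := F)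
      rw [h] at h4
      exact_mod_cast h4
    exact FiniteField.odd_card_of_char_ne_two h3
  have hdeg : (Polynomial.C d * Polynomial.X ^ 2 + Polynomial.C 1 : Polynomial F).degree = 2 := by
    rw [Polynomial.degree_add_C (by
      rw [Polynomial.degree_C_mul_X_pow 2 hd]; decide), Polynomial.degree_C_mul_X_pow 2 hd]
    rfl
  have h := FiniteField.exists_root_sum_quadratic (R := F) (f := Polynomial.X ^ 2)
    (g := Polynomial.C d * Polynomial.X ^ 2 + Polynomial.C 1) (Polynomial.degree_X_pow 2) hdeg hodd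
  obtain ⟨a, b, hab⟩ := h
  refine ⟨a, b, ?_⟩
  simp only [Polynomial.eval_pow, Polynomial.eval_X, Polynomial.eval_add, Polynomial.eval_mul,
    Polynomial.eval_C] at hab
  linear_combination hab

namespace Rep

variable {F : Type*} [Field F] {L : Type*} [Group L] (R : Rep F L) [Finite F]

local notation "SL2" => Matrix.SpecialLinearGroup (Fin 2) F
local notation "M2" => Matrix (Fin 2) (Fin 2) F

/-- an element of `SL(2,F)` anticommuting with a trace zero matrix -/
theorem exists_anti_sl {g : GL (Fin 2) F} (hs : ∀ c : F, g.1 ≠ c • (1 : M2)) (htr : g.1.trace = 0)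
    (h2 : (2 : F) ≠ 0) : ∃ j : SL2, j.1 * g.1 = -(g.1 * j.1) := by
  obtain ⟨d, hd⟩ : ∃ d, d = g.1.det := ⟨_, rfl⟩
  have hd0 : d ≠ 0 := by rw [hd]; exact (Matrix.GeneralLinearGroup.det g).ne_zero
  obtain ⟨p, r, hpr⟩ := exists_sq_add_mul_sq h2 hd0
  have hC : ∀ c : F, (!![0, -d; 1, 0] : M2) ≠ c • (1 : M2) := by
    intro c h
    have := congrFun (congrFun h 1) 0
    simp at this
  obtain ⟨h, hh⟩ := mat_conj (A := g.1) (B := !![0, -d; 1, 0]) hs hC
    (by rw [htr, Matrix.trace_fin_two]; simp) (by rw [Matrix.det_fin_two_of, ← hd]; ring)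
  -- the anticommuting matrix for the companion matrix
  let m : M2 := !![p, d * r; r, -p]
  have hm : m * !![0, -d; 1, 0] = -(!![0, -d; 1, 0] * m) := by
    apply mat_ext <;> simp [m, mat_mul] <;> ring
  have hdet : m.det = 1 := by
    simp only [m, Matrix.det_fin_two_of]
    linear_combination -hpr
  refine ⟨⟨h⁻¹.1 * m * h.1, ?_⟩, ?_⟩
  · rw [Matrix.det_mul, Matrix.det_mul, hdet, mul_one, ← Matrix.det_mul, ← Units.val_mul,
      inv_mul_cancel, Units.val_one, Matrix.det_one]
  · change h⁻¹.1 * m * h.1 * g.1 = -(g.1 * (h⁻¹.1 * m * h.1))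
    have h3 : g.1 * h⁻¹.1 = h⁻¹.1 * !![0, -d; 1, 0] := by
      have h4 : h⁻¹.1 * (h.1 * g.1) * h⁻¹.1 = h⁻¹.1 * (!![0, -d; 1, 0] * h.1) * h⁻¹.1 := by rw [hh]
      have e1 : h⁻¹.1 * h.1 = 1 := by rw [← Units.val_mul, inv_mul_cancel, Units.val_one]
      have e2 : h.1 * h⁻¹.1 = 1 := by rw [← Units.val_mul, mul_inv_cancel, Units.val_one]
      rw [← Matrix.mul_assoc, e1, Matrix.one_mul, Matrix.mul_assoc, Matrix.mul_assoc, e2,
        Matrix.mul_one] at h4
      exact h4
    rw [Matrix.mul_assoc _ h.1, hh, ← Matrix.mul_assoc, Matrix.mul_assoc _ m, hm, ← Matrix.mul_assoc,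
      ← Matrix.mul_assoc, h3]
    simp only [Matrix.mul_neg, Matrix.neg_mul, Matrix.mul_assoc]

/-- The centralizer in `L` of an involution `φ ∈ PGL(2,F)`. -/
theorem cent_data {φ : MulAut L} (h1 : φ ∈ R.PGL) (hne : φ ≠ 1) (h3 : φ * φ = 1) :
    ∃ (B : Subgroup L) (v : L), (∀ x ∈ B, φ x = x) ∧ (∀ x ∈ B, ∀ y ∈ B, x * y = y * x) ∧
      (∀ x ∈ B, x * x = 1 → x = 1 ∨ MulAut.conj x = φ) ∧
      (∀ x, φ x = x → x ∈ B ∨ (x * x = 1 ∧ ∀ y ∈ B, x * y * x⁻¹ = y⁻¹)) ∧
      (∀ x y, φ x = x → φ y = y → x ∉ B → y ∉ B → x * y ∈ B) ∧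
      φ v = v ∧ v * v = 1 ∧ v ∉ B := by
  obtain ⟨g, rfl⟩ := R.mem_PGL.1 h1
  have hs := R.not_scalar_of_ne hne
  have htr := R.tr_of_inv hne h3
  have hcomm : ∀ s : SL2, R.gl g (R.π s) = R.π s → s.1 * g.1 = g.1 * s.1 ∨ s.1 * g.1 = -(g.1 * s.1) := by
    intro s hs1
    have h4 : R.gl (Matrix.SpecialLinearGroup.toGL s) * R.gl g =
        R.gl g * R.gl (Matrix.SpecialLinearGroup.toGL s) := by
      rw [← R.conj_π, conj_comm_iff, hs1]
    exact R.comm_cases h4
  have hfix : ∀ s : SL2, (s.1 * g.1 = g.1 * s.1 ∨ s.1 * g.1 = -(g.1 * s.1)) →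
      R.gl g (R.π s) = R.π s := by
    intro s hs1
    have h4 : R.gl (Matrix.SpecialLinearGroup.toGL s) * R.gl g =
        R.gl g * R.gl (Matrix.SpecialLinearGroup.toGL s) := by
      rcases hs1 with h | h
      · rw [← map_mul, ← map_mul]
        congr 1
        exact Units.ext h
      · exact R.gl_comm_of_anticomm h
    rw [← R.conj_π, conj_comm_iff] at h4
    exact R.conj_injective h4
  let B : Subgroup L :=
    { carrier := {x | ∃ s : SL2, x = R.π s ∧ s.1 * g.1 = g.1 * s.1}
      one_mem' := ⟨1, (map_one _).symm, by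
        change (1 : M2) * g.1 = g.1 * 1
        rw [Matrix.mul_one, Matrix.one_mul]⟩
      mul_mem' := by
        rintro x y ⟨s, rfl, hs⟩ ⟨t, rfl, ht⟩
        refine ⟨s * t, (map_mul _ _ _).symm, ?_⟩
        change s.1 * t.1 * g.1 = g.1 * (s.1 * t.1)
        rw [Matrix.mul_assoc, ht, ← Matrix.mul_assoc, hs, Matrix.mul_assoc]
      inv_mem' := by
        rintro x ⟨s, rfl, hs⟩
        refine ⟨s⁻¹, (map_inv _ _).symm, ?_⟩
        have h4 : Matrix.SpecialLinearGroup.toGL s * g = g * Matrix.SpecialLinearGroup.toGL s :=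
          Units.ext hs
        have h5 : (Matrix.SpecialLinearGroup.toGL s)⁻¹ * g = g * (Matrix.SpecialLinearGroup.toGL s)⁻¹ := by
          rw [inv_mul_eq_iff_eq_mul, ← mul_assoc, h4, mul_inv_cancel_right]
        rw [← map_inv] at h5
        exact congrArg Units.val h5 }
  have hmemB : ∀ s : SL2, R.π s ∈ B ↔ s.1 * g.1 = g.1 * s.1 := by
    intro s
    constructor
    · rintro ⟨t, ht, ht'⟩
      rcases R.π_eq_iff.1 ht with h | h
      · rw [h]; exact ht'
      · rw [h]
        change (-t.1) * g.1 = g.1 * (-t.1)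
        rw [Matrix.neg_mul, Matrix.mul_neg, ht']
    · intro h
      exact ⟨s, rfl, h⟩
  obtain ⟨j, hj⟩ := exists_anti_sl hs htr R.two
  have hdich : ∀ s : SL2, R.gl g (R.π s) = R.π s → R.π s ∉ B → s.1 * g.1 = -(g.1 * s.1) := by
    intro s h4 h5
    rw [hmemB] at h5
    exact (hcomm s h4).resolve_left h5
  have hjB : R.π j ∉ B := by
    rw [hmemB, hj]
    intro h
    have h4 : (2 : F) • (g.1 * j.1) = 0 := by
      rw [two_smul]
      nth_rw 1 [← h]
      rw [neg_add_cancel]
    have h5 := (smul_eq_zero.1 h4).resolve_left R.two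
    have h6 := congrArg Matrix.det h5
    rw [Matrix.det_mul, j.2, mul_one, Matrix.det_zero] at h6
    exact (Matrix.GeneralLinearGroup.det g).ne_zero h6
  have hsqinv : ∀ s : SL2, s.1 * g.1 = -(g.1 * s.1) → R.π s * R.π s = 1 := by
    intro s h
    apply R.conj_injective
    rw [map_mul, R.conj_π, map_one]
    exact R.anticomm_inv (g := g) h
  refine ⟨B, R.π j, ?_, ?_, ?_, ?_, ?_, hfix j (Or.inr hj), hsqinv j hj, hjB⟩
  · rintro _ ⟨s, rfl, h⟩
    exact hfix s (Or.inl h)
  · rintro _ ⟨s, rfl, h⟩ _ ⟨t, rfl, h'⟩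
    obtain ⟨a, b, hab⟩ := exists_ab hs h.symm
    rw [← map_mul, ← map_mul]
    congr 1
    apply Subtype.ext
    change s.1 * t.1 = t.1 * s.1
    rw [hab, Matrix.add_mul, Matrix.mul_add, Matrix.smul_mul,
      Matrix.smul_mul, Matrix.mul_smul, Matrix.mul_smul, Matrix.one_mul, Matrix.mul_one, h']
  · rintro _ ⟨s, rfl, h⟩ h4
    have h5 : R.gl (Matrix.SpecialLinearGroup.toGL s) * R.gl (Matrix.SpecialLinearGroup.toGL s) = 1 := by
      rw [← R.conj_π, ← map_mul, h4, map_one]
    rcases R.torus_inv (t := Matrix.SpecialLinearGroup.toGL s) hs htr h.symm h5 with h6 | h6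
    · left
      apply R.conj_injective
      rw [R.conj_π, h6, map_one]
    · right
      rw [R.conj_π, h6]
  · intro x hx
    obtain ⟨s, rfl⟩ := R.surj x
    by_cases h : R.π s ∈ B
    · exact Or.inl h
    · right
      have h4 := hdich s hx h
      refine ⟨hsqinv s h4, ?_⟩
      rintro _ ⟨t, rfl, ht⟩
      apply R.conj_injective
      rw [map_mul, map_mul, map_inv, map_inv, R.conj_π, R.conj_π]
      exact R.anticomm_conj (t := Matrix.SpecialLinearGroup.toGL t) hs htr h4 ht.symm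
  · intro x y hx hy hxB hyB
    obtain ⟨s, rfl⟩ := R.surj x
    obtain ⟨t, rfl⟩ := R.surj y
    have h4 := hdich s hx hxB
    have h5 := hdich t hy hyB
    rw [← map_mul, hmemB]
    change s.1 * t.1 * g.1 = g.1 * (s.1 * t.1)
    rw [Matrix.mul_assoc, h5, Matrix.mul_neg, ← Matrix.mul_assoc, h4, Matrix.neg_mul, neg_neg,
      Matrix.mul_assoc]

/-- An involution of field type fixes an `A₄`. -/
theorem field_four {φ : MulAut L} (h1 : φ ∉ R.PGL) (h3 : φ * φ = 1) :
    ∃ a b y : L, Four a b ∧ φ a = a ∧ φ b = b ∧ φ y = y ∧ y * y * y = 1 ∧ y * a * y⁻¹ = b := by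
  obtain ⟨a, b, hab⟩ := R.exists_four
  obtain ⟨Φ, y, δ, -, ha, hb, hy, hyy, -, hya, -, -, -, -, -, -, -, g, hg⟩ := R.exists_frame hab
  have hσ : R.fld φ ≠ 1 := fun h => h1 (R.mem_PGL_iff_fld.2 h)
  have hσ2 : R.fld φ * R.fld φ = 1 := by rw [← map_mul, h3, map_one]
  have hord : orderOf (R.fld φ) = 2 := by
    rw [orderOf_eq_prime_iff]
    exact ⟨by rw [sq]; exact hσ2, hσ⟩
  obtain ⟨h, hh⟩ := R.exists_field φ (by rw [hord, sq, h3])
  set ε : MulAut L := R.gl h * (R.gl g)⁻¹ with hε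
  have hφ : φ = ε * Φ (R.fld φ) * ε⁻¹ := by
    rw [hg, hε, _root_.mul_inv_rev, inv_inv]
    rw [show R.gl h * (R.gl g)⁻¹ * (R.gl g * R.fa (R.fld φ) * (R.gl g)⁻¹) * (R.gl g * (R.gl h)⁻¹) =
      R.gl h * R.fa (R.fld φ) * (R.gl h)⁻¹ by group]
    exact hh
  have hfix : ∀ l : L, Φ (R.fld φ) l = l → φ (ε l) = ε l := by
    intro l hl
    rw [hφ]
    simp only [MulAut.mul_apply, MulAut.inv_apply_self, hl]
  refine ⟨ε a, ε b, ε y, hab.map ε, hfix a (ha _), hfix b (hb _), hfix y (hy _), ?_, ?_⟩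
  · rw [← map_mul, ← map_mul, hyy, map_one]
  · rw [← map_inv, ← map_mul, ← map_mul, hya]

/-- linear part of `eq_one_of_fix` -/
theorem eq_one_of_fix_lin {φ β : MulAut L} (h1 : φ ∈ R.PGL) (hne : φ ≠ 1) (h3 : φ * φ = 1)
    (hβ : β ∈ R.PGL) (hodd : Odd (orderOf β)) (hc : β * φ = φ * β)
    (hf : ∀ y, φ y = y → β y = y) : β = 1 := by
  obtain ⟨g, rfl⟩ := R.mem_PGL.1 h1
  obtain ⟨h, rfl⟩ := R.mem_PGL.1 hβ
  have hs := R.not_scalar_of_ne hne
  have htr := R.tr_of_inv hne h3
  obtain ⟨j, hj⟩ := exists_anti_sl hs htr R.two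
  have hodd1 : R.gl h * R.gl h = 1 → R.gl h = 1 := by
    intro h4
    have h5 : orderOf (R.gl h) ∣ 2 := orderOf_dvd_of_pow_eq_one (by rw [sq, h4])
    rcases (Nat.dvd_prime Nat.prime_two).1 h5 with h6 | h6
    · exact orderOf_eq_one_iff.1 h6
    · rw [h6] at hodd
      exact absurd hodd (by decide)
  rcases R.comm_cases hc with h4 | h4
  · have hjfix : R.gl g (R.π j) = R.π j := by
      have h5 : R.gl (Matrix.SpecialLinearGroup.toGL j) * R.gl g =
        R.gl g * R.gl (Matrix.SpecialLinearGroup.toGL j) := R.gl_comm_of_anticomm hj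
      rw [← R.conj_π, conj_comm_iff] at h5
      exact R.conj_injective h5
    have h5 := hf _ hjfix
    have h6 : R.gl h * R.gl (Matrix.SpecialLinearGroup.toGL j) =
        R.gl (Matrix.SpecialLinearGroup.toGL j) * R.gl h := by
      rw [← R.conj_π]
      exact (conj_comm_iff.2 (by rw [h5])).symm
    rcases R.comm_cases (g := Matrix.SpecialLinearGroup.toGL j) (h := h) h6 with h7 | h7
    · obtain ⟨a, b, hab⟩ := exists_ab hs h4.symm
      rw [R.gl_eq_one_iff]
      refine ⟨a, ?_⟩
      have h8 : h.1 * j.1 = j.1 * h.1 := h7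
      rw [hab, Matrix.add_mul, Matrix.mul_add, Matrix.smul_mul, Matrix.smul_mul, Matrix.mul_smul,
        Matrix.mul_smul, Matrix.one_mul, Matrix.mul_one, hj, smul_neg] at h8
      have h9 := add_left_cancel h8
      have h10 : (2 * b) • (g.1 * j.1) = 0 := by
        rw [two_mul, add_smul]
        nth_rw 1 [h9]
        rw [neg_add_cancel]
      have h11 : g.1 * j.1 ≠ 0 := by
        intro h12
        have h13 := congrArg Matrix.det h12
        rw [Matrix.det_mul, j.2, mul_one, Matrix.det_zero] at h13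
        exact (Matrix.GeneralLinearGroup.det g).ne_zero h13
      have h12 := (smul_eq_zero.1 h10).resolve_right h11
      have h13 := (mul_eq_zero.1 h12).resolve_left R.two
      rw [hab, h13, zero_smul, add_zero]
    · exact hodd1 (R.anticomm_inv (g := Matrix.SpecialLinearGroup.toGL j) h7)
  · exact hodd1 (R.anticomm_inv h4)

/-- the field part: `fa τ`, `τ` of odd order, trivial on the fixed points of `gl g` -/
theorem field_eq_one_of_fix {g : GL (Fin 2) F} {τ : F ≃+* F} (hne : R.gl g ≠ 1)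
    (h3 : R.gl g * R.gl g = 1) (hodd : Odd (orderOf τ)) (hc : R.fa τ * R.gl g = R.gl g * R.fa τ)
    (hf : ∀ y, R.gl g y = y → R.fa τ y = y) : τ = 1 := by
  have hs := R.not_scalar_of_ne hne
  have htr := R.tr_of_inv hne h3
  -- `τ g = c g`
  have h4 : R.gl (Matrix.GeneralLinearGroup.map τ.toRingHom g) = R.gl g := by
    rw [R.fa_mul_gl] at hc
    exact mul_right_cancel hc
  obtain ⟨c, hcg⟩ : ∃ c : F, ∀ i k, τ (g.1 i k) = c * g.1 i k := by
    have h5 : R.gl (g⁻¹ * Matrix.GeneralLinearGroup.map τ.toRingHom g) = 1 := by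
      rw [map_mul, map_inv, h4, inv_mul_cancel]
    obtain ⟨c, hc'⟩ := R.gl_eq_one_iff.1 h5
    refine ⟨c, fun i k => ?_⟩
    have h6 : (Matrix.GeneralLinearGroup.map τ.toRingHom g).1 = c • g.1 := by
      calc (Matrix.GeneralLinearGroup.map τ.toRingHom g).1 =
          g.1 * (g⁻¹ * Matrix.GeneralLinearGroup.map τ.toRingHom g).1 := by
            rw [← Units.val_mul, mul_inv_cancel_left]
        _ = c • g.1 := by rw [hc', Matrix.mul_smul, Matrix.mul_one]
    exact congrFun (congrFun h6 i) k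
  -- a nonzero entry
  obtain ⟨i₀, k₀, hik⟩ : ∃ i k, g.1 i k ≠ 0 := by
    by_contra hcon
    push Not at hcon
    apply hs 0
    ext i k
    rw [hcon i k, zero_smul]
    rfl
  set e : F := (g.1 i₀ k₀)⁻¹ with he
  have he0 : e ≠ 0 := inv_ne_zero hik
  -- the scaled matrix
  obtain ⟨m, hm⟩ : ∃ m : M2, m = e • g.1 := ⟨_, rfl⟩
  have hτm : ∀ i k, τ (m i k) = m i k := by
    intro i k
    have h5 : c ≠ 0 := by
      rintro rfl
      have := hcg i₀ k₀
      rw [zero_mul, map_eq_zero_iff τ τ.injective] at this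
      exact hik this
    rw [hm, Matrix.smul_apply, smul_eq_mul, map_mul, he, map_inv₀, hcg, hcg]
    field_simp
  have hmtr : m.trace = 0 := by rw [hm, Matrix.trace_smul, htr, smul_zero]
  have hms : ∀ c : F, m ≠ c • (1 : M2) := by
    intro c hcm
    apply hs (e⁻¹ * c)
    rw [mul_smul, ← hcm, hm, smul_smul, inv_mul_cancel₀ he0, one_smul]
  obtain ⟨d, hd⟩ : ∃ d, d = m.det := ⟨_, rfl⟩
  have hmm : m * m = (-d) • (1 : M2) := by
    rw [cayley, hmtr, zero_smul, zero_sub, hd, neg_smul]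
  have hτd : τ d = d := by
    rw [hd, Matrix.det_fin_two, map_sub, map_mul, map_mul, hτm, hτm, hτm, hτm]
  have hgm : ∀ A : M2, m * A = A * m ↔ g.1 * A = A * g.1 := by
    intro A
    rw [hm, Matrix.smul_mul, Matrix.mul_smul]
    exact ⟨fun h => smul_right_injective _ he0 h, fun h => by rw [h]⟩
  by_contra hτ
  obtain ⟨u₀, hu₀⟩ : ∃ u, τ u ≠ u := by
    by_contra hcon
    push Not at hcon
    exact hτ (RingEquiv.ext hcon)
  -- `τ` has no orbit of length two
  have hno : ∀ u : F, τ u ≠ u → τ (τ u) ≠ u := by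
    intro u hu h5
    apply hu
    obtain ⟨k, hk⟩ := hodd
    have h6 : ∀ n : ℕ, (τ ^ (2 * n)) u = u := by
      intro n
      induction n with
      | zero => rfl
      | succ n ih =>
        rw [Nat.mul_succ, pow_add]
        change (τ ^ (2 * n)) ((τ ^ 2) u) = u
        rw [show (τ ^ 2) u = u from h5, ih]
    have h7 : (τ ^ (2 * k + 1)) u = u := by rw [← hk, pow_orderOf_eq_one]; rfl
    rw [pow_succ'] at h7
    change τ ((τ ^ (2 * k)) u) = u at h7
    rwa [h6] at h7
  have key : ∀ u : F, τ u ≠ u → u * τ u = -d := by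
    intro u hu
    have hu0 : u ≠ 0 := by
      rintro rfl
      exact hu (map_zero τ)
    have hud : u ^ 2 + d ≠ 0 := by
      intro h5
      have h6 : (τ u) ^ 2 + d = 0 := by
        have := congrArg τ h5
        rwa [map_add, map_pow, hτd, map_zero] at this
      have h7 : (τ u - u) * (τ u + u) = 0 := by linear_combination h6 - h5
      rcases mul_eq_zero.1 h7 with h8 | h8
      · exact hu (sub_eq_zero.1 h8)
      · apply hno u hu
        have h9 : τ u = -u := by linear_combination h8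
        rw [h9, map_neg, h9, neg_neg]
    -- the element `u + m`
    have hdet : (u • (1 : M2) + m).det = u ^ 2 + d := by
      have h5 : m.trace = 0 := hmtr
      rw [Matrix.trace_fin_two] at h5
      rw [hd, Matrix.det_fin_two, Matrix.det_fin_two]
      simp only [Matrix.add_apply, Matrix.smul_apply, Matrix.one_apply_eq, smul_eq_mul, mul_one,
        Matrix.one_apply_ne (show (0 : Fin 2) ≠ 1 by decide),
        Matrix.one_apply_ne (show (1 : Fin 2) ≠ 0 by decide), mul_zero, zero_add]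
      linear_combination u * h5
    let w : GL (Fin 2) F := Matrix.GeneralLinearGroup.mkOfDetNeZero (u • (1 : M2) + m) (by
      rw [hdet]; exact hud)
    have hw : w.1 = u • (1 : M2) + m := rfl
    have hwg : g.1 * w.1 = w.1 * g.1 := by
      rw [← hgm, hw, Matrix.mul_add, Matrix.add_mul, Matrix.smul_mul, Matrix.mul_smul, Matrix.one_mul,
        Matrix.mul_one]
    have hin : R.gl (w * w) ∈ Inn L := by
      rw [R.gl_mem_inn, Units.val_mul, Matrix.det_mul]
      exact ⟨w.1.det, rfl⟩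
    obtain ⟨t, ht⟩ := hin
    have ht1 : R.gl g t = t := by
      have h5 : MulAut.conj t * R.gl g = R.gl g * MulAut.conj t := by
        rw [show MulAut.conj t = R.gl (w * w) from ht, ← map_mul, ← map_mul]
        congr 1
        apply Units.ext
        change w.1 * w.1 * g.1 = g.1 * (w.1 * w.1)
        rw [Matrix.mul_assoc, ← hwg, ← Matrix.mul_assoc, ← hwg, Matrix.mul_assoc]
      exact R.conj_injective (conj_comm_iff.1 h5)
    have ht2 := hf t ht1
    have h5 : R.gl (Matrix.GeneralLinearGroup.map τ.toRingHom (w * w)) = R.gl (w * w) := by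
      have h6 : R.gl (w * w) * R.fa τ = R.fa τ * R.gl (w * w) := by
        rw [← show MulAut.conj t = R.gl (w * w) from ht]
        exact conj_comm_iff.2 (by rw [ht2])
      rw [R.fa_mul_gl] at h6
      exact (mul_right_cancel h6).symm
    obtain ⟨ε, hε⟩ : ∃ ε : F, (Matrix.GeneralLinearGroup.map τ.toRingHom (w * w)).1 = ε • (w * w).1 := by
      have h6 : R.gl ((w * w)⁻¹ * Matrix.GeneralLinearGroup.map τ.toRingHom (w * w)) = 1 := by
        rw [map_mul, map_inv, h5, inv_mul_cancel]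
      obtain ⟨ε, hε⟩ := R.gl_eq_one_iff.1 h6
      refine ⟨ε, ?_⟩
      calc (Matrix.GeneralLinearGroup.map τ.toRingHom (w * w)).1 =
          (w * w).1 * ((w * w)⁻¹ * Matrix.GeneralLinearGroup.map τ.toRingHom (w * w)).1 := by
            rw [← Units.val_mul, mul_inv_cancel_left]
        _ = ε • (w * w).1 := by rw [hε, Matrix.mul_smul, Matrix.mul_one]
    have hww : (w * w).1 = (u ^ 2 - d) • (1 : M2) + (2 * u) • m := by
      rw [Units.val_mul, hw, Matrix.add_mul, Matrix.mul_add, Matrix.mul_add, Matrix.smul_mul,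
        Matrix.mul_smul, Matrix.one_mul, Matrix.smul_mul, Matrix.mul_smul, Matrix.mul_one, hmm,
        Matrix.one_mul]
      module
    have hent : ∀ i k, τ ((w * w).1 i k) = ε * (w * w).1 i k := fun i k =>
      congrFun (congrFun hε i) k
    rw [hww] at hent
    simp only [Matrix.add_apply, Matrix.smul_apply, smul_eq_mul, map_add, map_mul, hτm, map_sub,
      map_pow, hτd, map_ofNat] at hent
    -- `X + Y m` with `X`, `Y` scalars
    have h7 : (τ u ^ 2 - d - ε * (u ^ 2 - d)) • (1 : M2) = (ε * (2 * u) - 2 * τ u) • m := by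
      ext i k
      have h8 := hent i k
      have h9 : τ ((1 : M2) i k) = (1 : M2) i k := by
        rw [Matrix.one_apply]
        split_ifs
        · exact map_one τ
        · exact map_zero τ
      rw [h9] at h8
      simp only [Matrix.smul_apply, smul_eq_mul]
      linear_combination h8
    have h8 : ε * (2 * u) - 2 * τ u = 0 := by
      by_contra h9
      apply hms ((ε * (2 * u) - 2 * τ u)⁻¹ * (τ u ^ 2 - d - ε * (u ^ 2 - d)))
      rw [mul_smul, h7, smul_smul, inv_mul_cancel₀ h9, one_smul]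
    have h9 : τ u ^ 2 - d - ε * (u ^ 2 - d) = 0 := by
      rw [h8, zero_smul] at h7
      have := congrFun (congrFun h7 0) 0
      simpa using this
    have h10 : ε * u = τ u := by
      have h11 : (2 : F) * (ε * u - τ u) = 0 := by linear_combination h8
      exact sub_eq_zero.1 ((mul_eq_zero.1 h11).resolve_left R.two)
    have h11 : (τ u - u) * (u * τ u + d) = 0 := by
      linear_combination u * h9 + (u ^ 2 - d) * h10
    rcases mul_eq_zero.1 h11 with h12 | h12
    · exact absurd (sub_eq_zero.1 h12) hu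
    · linear_combination h12
  have h5 := key u₀ hu₀
  have h6 := key (u₀ + 1) (by
    rw [map_add, map_one]
    intro h; exact hu₀ (add_right_cancel h))
  have h7 := key (u₀ - 1) (by
    rw [map_sub, map_one]
    intro h; exact hu₀ (sub_left_inj.1 h))
  rw [map_add, map_one] at h6
  rw [map_sub, map_one] at h7
  apply R.two
  linear_combination h6 + h7 - 2 * h5

/-- **(NF)** An automorphism of odd order commuting with the involution `φ ∈ PGL(2,F)` and trivial on `C_L(φ)` is
trivial. -/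
theorem eq_one_of_fix {φ β : MulAut L} (h1 : φ ∈ R.PGL) (hne : φ ≠ 1) (h3 : φ * φ = 1)
    (hodd : Odd (orderOf β)) (hc : β * φ = φ * β) (hf : ∀ y, φ y = y → β y = y) : β = 1 := by
  have := R.finite_aut
  have hpos : 0 < orderOf β := orderOf_pos β
  have hdvd : orderOf (R.fld β) ∣ orderOf β := orderOf_map_dvd _ _
  have hτodd : Odd (orderOf (R.fld β)) := Odd.of_dvd_nat hodd hdvd
  have hfpow : ∀ (n : ℕ) (y : L), φ y = y → (β ^ n) y = y := by
    intro n y hy
    induction n with
    | zero => rfl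
    | succ n ih =>
      rw [pow_succ]
      change (β ^ n) (β y) = y
      rw [hf y hy, ih]
  have hpow : β ^ orderOf (R.fld β) = 1 := by
    refine R.eq_one_of_fix_lin h1 hne h3 ?_ ?_ ?_ (hfpow _)
    · rw [R.mem_PGL_iff_fld, map_pow, pow_orderOf_eq_one]
    · exact Odd.of_dvd_nat hodd (orderOf_pow_dvd _)
    · exact (Commute.pow_left (show Commute β φ from hc) _)
  obtain ⟨h, hh⟩ := R.exists_field β hpow
  have hτ : R.fld β = 1 := by
    obtain ⟨g, hg⟩ := R.mem_PGL.1 (R.PGL.mul_mem (R.PGL.mul_mem (R.PGL.inv_mem (R.gl_mem_PGL h)) h1)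
      (R.gl_mem_PGL h))
    have hgφ : φ = R.gl h * R.gl g * (R.gl h)⁻¹ := by rw [← hg]; group
    refine R.field_eq_one_of_fix (g := g) (τ := R.fld β) ?_ ?_ hτodd ?_ ?_
    · intro h4
      apply hne
      rw [hgφ, h4, mul_one, mul_inv_cancel]
    · rw [← hg]
      calc (R.gl h)⁻¹ * φ * R.gl h * ((R.gl h)⁻¹ * φ * R.gl h) = (R.gl h)⁻¹ * (φ * φ) * R.gl h := by group
        _ = 1 := by rw [h3]; group
    · have h5 : R.fa (R.fld β) = (R.gl h)⁻¹ * β * R.gl h := by
        nth_rw 2 [hh]; group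
      rw [← hg, h5]
      calc (R.gl h)⁻¹ * β * R.gl h * ((R.gl h)⁻¹ * φ * R.gl h) = (R.gl h)⁻¹ * (β * φ) * R.gl h := by group
        _ = (R.gl h)⁻¹ * (φ * β) * R.gl h := by rw [hc]
        _ = _ := by group
    · intro y hy
      have h5 : R.fa (R.fld β) = (R.gl h)⁻¹ * β * R.gl h := by
        nth_rw 2 [hh]; group
      have h6 : φ (R.gl h y) = R.gl h y := by
        rw [hgφ]
        simp only [MulAut.mul_apply, MulAut.inv_apply_self, hy]
      rw [h5]
      simp only [MulAut.mul_apply, hf _ h6, MulAut.inv_apply_self]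
  rw [hh, hτ, map_one, mul_one, mul_inv_cancel]

end Rep

end Cfsg.Agent.GH.L2Aut
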