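import Cfsg.Agent.OddHalf.D6.Bal

/-!
# ODD D6: the end of C1 and of the case `|Q| ≥ 4` (helper419)

`H` finite, `O(H) = 1`, all components of `H` are `≅ PSL(2,F)` (`F` of odd characteristic), `B : Bal x A`,
`T` a Sylow 2-subgroup of `C_H(x)`; every involution of `Z(T)` acts on `H` as `1` or as `x`.

* `exists_unique`: `A ≠ 1` is contained in a component `L` on which `x` acts as an involution `w ∈ L ∩ Z(T)`;
* `false_of_swap`: if some `s ∈ H` maps `x` to `x c`, `1 ≠ c ∈ Z(H)`, then `A = 1`.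
-/

set_option autoImplicit false

open Subgroup Cfsg Cfsg.Agent.GH
open Cfsg.Agent.GH.L2Aut (Four)

namespace Cfsg.Agent.OddHalf.D6.Bal

variable {H : Type*} [Group H] [Finite H] {x : H} {A : Subgroup H} (B : Bal x A)

include B

/-- `A` is contained in one component, which is of type (a) -/
theorem exists_unique (hO : oddCore H = ⊥) (hW : ∀ L : Subgroup H, IsComponent L → IsL2 L)
    (hA : A ≠ ⊥) {T : Subgroup H} (pT : IsPGroup 2 T) (hTx : ∀ t ∈ T, t * x = x * t)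
    (max : ∀ P : Subgroup H, IsPGroup 2 P → T ≤ P → (∀ y ∈ P, y * x = x * y) → P ≤ T)
    (hZ : ∀ v ∈ T, v * v = 1 → v ≠ 1 → (∀ t ∈ T, t * v = v * t) →
      (∀ h, h * v = v * h) ∨ ∃ c, (∀ h, h * c = c * h) ∧ v = x * c) :
    ∃ L : Subgroup H, IsComponent L ∧ IsL2 L ∧ A ≤ L ∧ ∃ w ∈ L, w ∈ T ∧ w ≠ 1 ∧ w * w = 1 ∧
      (∀ l ∈ L, x * l * x⁻¹ = w * l * w⁻¹) ∧ (∀ h, h * x = x * h → h * w = w * h) ∧
      ∃ c, (∀ h, h * c = c * h) ∧ w = x * c := by
  -- every component meeting `A`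
  have key : ∀ L : Subgroup H, IsComponent L → (∃ a ∈ A, a ∈ L ∧ a ≠ 1) →
      ∃ w ∈ L, w ∈ T ∧ w ≠ 1 ∧ w * w = 1 ∧
      (∀ l ∈ L, x * l * x⁻¹ = w * l * w⁻¹) ∧ (∀ h, h * x = x * h → h * w = w * h) ∧
      ∃ c, (∀ h, h * c = c * h) ∧ w = x * c := by
    rintro L hL ⟨a, ha, haL, ha1⟩
    obtain ⟨F, _, _, ⟨R⟩⟩ := hW L hL
    have hx := B.x_norm R hL
    rcases B.types R hx with ⟨w, hw, hw1, hww, hxw⟩ | ⟨-, hb⟩
    · have hc : ∀ h, h * x = x * h → h * w = w * h := fun h hh =>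
        B.inner_central R hL ha haL ha1 hw hxw hh
      obtain ⟨hwT, -⟩ := B.inner_sylow R hL ha haL ha1 hw hw1 hww hxw pT hTx max
      refine ⟨w, hw, hwT, hw1, hww, hxw, hc, ?_⟩
      rcases hZ w hwT hww hw1 (fun t ht => hc t (hTx t ht)) with h | h
      · exact absurd (eq_one_of_central R hw fun m _ => (h m).symm) hw1
      · exact h
    · exfalso
      obtain ⟨v, hvT, hvL, hvv, hv1, hvc, -, hinv⟩ := B.outer_sylow R hL hx hb ha haL ha1 pT hTx max
      have h1 := hinv a ha haL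
      have h2 : v * a * v⁻¹ = a := by
        rw [mul_inv_eq_iff_eq_mul]
        rcases hZ v hvT hvv hv1 hvc with h | ⟨c, hc, rfl⟩
        · exact (h a).symm
        · rw [mul_assoc, ← hc a, ← mul_assoc, ← B.ax a ha, mul_assoc]
      rw [h2] at h1
      apply ha1
      apply B.one_of_sq ha
      nth_rw 1 [h1]
      rw [inv_mul_cancel]
  obtain ⟨L, hL, hLA⟩ := B.exists_comp hO hW hA
  obtain ⟨w, hw, hwT, hw1, hww, hxw, hc, hwc⟩ := key L hL hLA
  refine ⟨L, hL, hW L hL, ?_, w, hw, hwT, hw1, hww, hxw, hc, hwc⟩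
  apply B.le_of_unique hO hW hL
  intro M hM hMA
  by_contra hne
  obtain ⟨w', hw', -, hw1', hww', hxw', -, c, hcc, hwc'⟩ := key M hM hMA
  -- `w' ∈ M` centralises `L`, acts as `x`
  obtain ⟨F, _, _, ⟨R⟩⟩ := hW L hL
  apply hw1
  apply eq_one_of_central R hw
  intro m hm
  have h1 : w' * m = m * w' := SignalizersComponents.OddFixed.commute_of_ne hM hL hne hw' hm
  have h2 : x * m = m * x := by
    have h3 : x * c * m = m * (x * c) := by rw [← hwc']; exact h1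
    have h4 : x * m * c = m * x * c := by
      calc x * m * c = x * (m * c) := by group
        _ = x * (c * m) := by rw [hcc m]
        _ = m * (x * c) := by rw [← mul_assoc, h3]
        _ = m * x * c := by group
    exact mul_right_cancel h4
  have h3 := hxw m hm
  rw [h2, mul_inv_cancel_right] at h3
  rw [eq_mul_inv_iff_mul_eq] at h3
  exact h3.symm

/-- **No swap.** -/
theorem false_of_swap (hO : oddCore H = ⊥) (hW : ∀ L : Subgroup H, IsComponent L → IsL2 L)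
    (hA : A ≠ ⊥) {T : Subgroup H} (pT : IsPGroup 2 T) (hTx : ∀ t ∈ T, t * x = x * t)
    (max : ∀ P : Subgroup H, IsPGroup 2 P → T ≤ P → (∀ y ∈ P, y * x = x * y) → P ≤ T)
    (hZ : ∀ v ∈ T, v * v = 1 → v ≠ 1 → (∀ t ∈ T, t * v = v * t) →
      (∀ h, h * v = v * h) ∨ ∃ c, (∀ h, h * c = c * h) ∧ v = x * c)
    {s z : H} (hz : ∀ h, h * z = z * h) (hz1 : z ≠ 1) (hs : s * x * s⁻¹ = x * z) : False := by
  obtain ⟨L, hL, ⟨F, _, _, ⟨R⟩⟩, hAL, w, hw, -, hw1, hww, hxw, -, c, hc, hwc⟩ :=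
    B.exists_unique hO hW hA pT hTx max hZ
  obtain ⟨a, ha, ha1⟩ := A.bot_or_exists_ne_one.resolve_left hA
  have hn := B.swap_comp R hL hAL ha ha1 hz hs
  have hsn := mem_norm_of hn
  have hn' : ∀ l ∈ L, s⁻¹ * l * s ∈ L := by
    intro l hl
    have := (mem_normalizer_iff.1 (inv_mem hsn) l).1 hl
    rwa [inv_inv] at this
  have h1 := Bal.swap_inner R hz hs hn hn' hw hxw
  rw [hwc] at h1
  have h2 : s * (x * c) * s⁻¹ = x * z * c := by
    calc s * (x * c) * s⁻¹ = s * x * (c * s⁻¹) := by group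
      _ = s * x * (s⁻¹ * c) := by rw [← hc]
      _ = s * x * s⁻¹ * c := by group
      _ = x * z * c := by rw [hs]
  rw [h2, mul_assoc] at h1
  exact hz1 (mul_eq_right.1 (mul_left_cancel h1))

end Cfsg.Agent.OddHalf.D6.Bal
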