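import Cfsg.Agent.OddHalf.D9.TransferGen

/-!
# Transfer with exactly one bad coset (ODD D6, helper446)

`false_of_unique` : `G` without homomorphism onto `{±1}`, `H ≤ G` any subgroup (no condition on the index),
`lam : H →* {±1}`, `x` an involution, `T` a `2`-group centralising `x`, `x ∈ T ≤ H`, `lam x = -1`.
Then some coset `gH ≠ H` is fixed by `T` and has `lam (g⁻¹ x g) = -1`.
-/

set_option autoImplicit false

namespace Cfsg.Agent.OddHalf.D6.PairTransfer

open Subgroup Cfsg.Agent.OddHalf.D9.TransferGen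

variable {G : Type*} [Group G]

theorem fixed_iff (H : Subgroup G) (T : Subgroup G) (g : G) :
    (∀ d ∈ T, d • (g : G ⧸ H) = (g : G ⧸ H)) ↔ ∀ d ∈ T, g⁻¹ * d * g ∈ H := by
  constructor
  · intro h d hd
    exact (smul_mk_eq H d g).1 (h d hd)
  · intro h d hd
    exact (smul_mk_eq H d g).2 (h d hd)

/-- **one bad coset** -/
theorem false_of_unique [Finite G] (hG : ∀ (f : G →* ℤˣ) (u : G), f u = 1) (H : Subgroup G)
    (lam : H →* ℤˣ) {x : G} (hx : x * x = 1) {T : Subgroup G} (hT : IsPGroup 2 T) (hxT : x ∈ T)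
    (hTx : ∀ d ∈ T, d * x = x * d) (hTH : T ≤ H) (hl : lam ⟨x, hTH hxT⟩ = -1)
    (hu : ∀ (g : G) (h : ∀ d ∈ T, g⁻¹ * d * g ∈ H), lam ⟨g⁻¹ * x * g, h x hxT⟩ = -1 → g ∈ H) :
    False := by
  classical
  have hfin : Fintype (G ⧸ H) := Fintype.ofFinite _
  have hx2 : ∀ k, k ∣ orderOf x → k ≠ 1 → ∀ g : G, ∀ h : g⁻¹ * x ^ k * g ∈ H,
      lam ⟨g⁻¹ * x ^ k * g, h⟩ = 1 := by
    intro k hk hk1 g h
    have h1 : orderOf x ∣ 2 := orderOf_dvd_of_pow_eq_one (by rw [pow_two, hx])
    have h2 : k = 2 := by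
      rcases (Nat.dvd_prime Nat.prime_two).1 (hk.trans h1) with h3 | h3
      · exact absurd h3 hk1
      · exact h3
    have h3 : (⟨g⁻¹ * x ^ k * g, h⟩ : H) = 1 := by
      apply Subtype.ext
      show g⁻¹ * x ^ k * g = 1
      rw [h2, pow_two, hx]
      group
    rw [h3, map_one]
  have key := transfer_eq_D H lam x hx2 T hT hxT hTx
  rw [hG (MonoidHom.transfer lam) x] at key
  -- the product is `-1`
  have h1 : ((1 : G) : G ⧸ H) ∈ Finset.univ.filter (fun q : G ⧸ H => ∀ d ∈ T, d • q = q) := by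
    rw [Finset.mem_filter]
    refine ⟨Finset.mem_univ _, (fixed_iff H T 1).2 fun d hd => ?_⟩
    rw [inv_one, one_mul, mul_one]
    exact hTH hd
  have h11 : (1 : G)⁻¹ * x * 1 ∈ H := by rw [inv_one, one_mul, mul_one]; exact hTH hxT
  rw [← Finset.mul_prod_erase _ _ h1, val_mk H lam x 1 h11] at key
  have h12 : lam ⟨(1 : G)⁻¹ * x * 1, h11⟩ = -1 := by
    rw [← hl]
    congr 1
    apply Subtype.ext
    show (1 : G)⁻¹ * x * 1 = x
    group
  rw [h12] at key
  have h2 : ∏ q ∈ (Finset.univ.filter (fun q : G ⧸ H => ∀ d ∈ T, d • q = q)).erase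
      ((1 : G) : G ⧸ H), val H lam x q = 1 := by
    apply Finset.prod_eq_one
    intro q hq
    rw [Finset.mem_erase, Finset.mem_filter] at hq
    obtain ⟨g, rfl⟩ := QuotientGroup.mk_surjective q
    have h3 := (fixed_iff H T g).1 hq.2.2
    rw [val_mk H lam x g (h3 x hxT)]
    rcases Int.units_eq_one_or (lam ⟨g⁻¹ * x * g, h3 x hxT⟩) with h4 | h4
    · exact h4
    · exfalso
      apply hq.1
      rw [QuotientGroup.eq, mul_one]
      exact H.inv_mem (hu g h3 h4)
  rw [h2, mul_one] at key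
  exact absurd key (by decide)

end Cfsg.Agent.OddHalf.D6.PairTransfer
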