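import Cfsg.Agent.OddHalf.D6.FieldInvB

/-!
# ODD D6, `K = L₂(q)`, `|Q| = 2`: the data around the field involution (helper708)
-/

set_option autoImplicit false

namespace Cfsg.Agent.OddHalf.D6

open Subgroup Cfsg.Agent.GH Cfsg.Agent.GH.L2Aut

variable {G : Type*} [Group G]

theorem zpowers_comm {a b c : G} (ha : a ∈ zpowers c) (hb : b ∈ zpowers c) : a * b = b * a := by
  obtain ⟨i, rfl⟩ := mem_zpowers_iff.1 ha
  obtain ⟨j, rfl⟩ := mem_zpowers_iff.1 hb
  rw [← zpow_add, ← zpow_add, add_comm]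

/-- `e ∈ {1, x, z, xz}` -/
def In4 (x z e : G) : Prop := e = 1 ∨ e = x ∨ e = z ∨ e = x * z

/-- The data around the field involution `f`. -/
structure FData {F : Type*} [Field F] [Finite F] (x z f c r : G) (K T : Subgroup G) (R : L2Aut.Rep F K) :
    Prop where
  fT : f ∈ T
  ff : f * f = 1 ∨ f * f = x
  fD : ∀ d ∈ T, d ∈ K → f * d = d * f
  /-- the action of `f` -/
  ftype : ∀ α, Acts K f α → α * α = 1 ∧ R.fld α ≠ 1
  zz : z * z = 1
  z1 : z ≠ 1
  zT : z ∈ T
  zK : z ∈ K
  cz : ∀ t ∈ T, t * z = z * t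
  /-- `K ∩ Z(T) = ⟨z⟩` -/
  KZ : ∀ e ∈ K, e ∈ T → (∀ t ∈ T, t * e = e * t) → e = 1 ∨ e = z
  cT : c ∈ T
  cK : c ∈ K
  cc : c * c ≠ 1
  zc : z ∈ zpowers (c * c)
  rT : r ∈ T
  rK : r ∈ K
  rr : r * r = 1
  r1 : r ≠ 1
  rz : r ≠ z
  rc : r * c * r⁻¹ = c⁻¹
  D_form : ∀ d ∈ T, d ∈ K → ∃ k : ℤ, d = c ^ k ∨ d = c ^ k * r
  /-- `c` centralizes the elements of odd order of `C_K(z)` -/
  codd : ∀ k ∈ K, k * z = z * k → Odd (orderOf k) → c * k = k * c
  /-- noncentral involutions of `D` invert the elements of odd order of `C_K(z)` -/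
  vodd : ∀ v ∈ T, v ∈ K → v * v = 1 → v ≠ 1 → v ≠ z → ∀ k ∈ K, k * z = z * k → Odd (orderOf k) →
    v * k * v⁻¹ = k⁻¹
  /-- `C_T(D)` -/
  CD : ∀ t ∈ T, (∀ d ∈ T, d ∈ K → t * d = d * t) → ∃ e, In4 x z e ∧ (t = e ∨ t = f * e)
  /-- `C_T(D)`, linear part -/
  CD1 : ∀ t ∈ T, (∀ d ∈ T, d ∈ K → t * d = d * t) → (∀ α, Acts K t α → R.fld α = 1) → In4 x z t

namespace Setup

variable {x : G} {K T : Subgroup G}

theorem exists_fdata [Finite G] (S : Setup x K T) {F : Type*} [Field F] [Finite F]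
    (R : L2Aut.Rep F K) (h : ∃ t ∈ T, ∃ α, Acts K t α ∧ α * α = 1 ∧ R.fld α ≠ 1) :
    ∃ z f c r : G, FData x z f c r K T R := by
  obtain ⟨f, hfT, φ, hφ, hφφ, hφf, hfD⟩ := S.exists_field R h
  obtain ⟨P, hP⟩ := S.sylK
  have memP : ∀ k : K, k ∈ (P : Subgroup K) ↔ (k : G) ∈ T := by
    intro k; rw [hP, mem_subgroupOf]
  obtain ⟨d, r, hd⟩ := R.exists_dih P
  have hdd : d * d ≠ 1 := R.ftype_dd (fun h1 => hφf (R.mem_PGL_iff_fld.1 h1)) hφφ P hd
  obtain ⟨n, hn, hzz, hz1⟩ := hd.exists_z P.isPGroup'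
  have hn1 : n ≠ 0 := by
    rintro rfl
    rw [pow_zero, pow_one] at hzz
    exact hdd hzz
  set z : K := d ^ 2 ^ n with hz
  have hzd : z ∈ zpowers d := (zpowers d).pow_mem (mem_zpowers d) _
  have hzP : z ∈ (P : Subgroup K) := (P : Subgroup K).pow_mem hd.d_mem _
  have hrz : r ≠ z := fun h1 => hd.r_not (h1 ▸ hzd)
  have hrd : r * d ≠ d * r := by
    intro h1
    apply hdd
    have h2 := hd.rd
    rw [h1, mul_inv_cancel_right] at h2
    nth_rw 2 [h2]
    exact mul_inv_cancel d
  have hrzc : r * z = z * r := by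
    rw [hz]
    have h1 := hd.r_pow (2 ^ n : ℤ)
    have h2 : d ^ (-(2 ^ n : ℤ)) = d ^ (2 ^ n : ℤ) := by
      rw [zpow_neg, inv_eq_iff_mul_eq_one]
      have : d ^ ((2 : ℤ) ^ n) = d ^ 2 ^ n := by exact_mod_cast zpow_natCast d (2 ^ n)
      rw [this]; exact hzz
    rw [h2] at h1
    have : d ^ ((2 : ℤ) ^ n) = d ^ 2 ^ n := by exact_mod_cast zpow_natCast d (2 ^ n)
    rw [this] at h1
    exact mul_inv_eq_iff_eq_mul.1 h1
  have hfour : Four z r := ⟨hzz, hd.rr, hz1, hd.r1, hrz.symm, hrzc.symm⟩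
  have hdT : (d : G) ∈ T := (memP d).1 hd.d_mem
  have hrT : (r : G) ∈ T := (memP r).1 hd.r_mem
  have hzT : (z : G) ∈ T := (memP z).1 hzP
  have hfin : Finite K := inferInstance
  -- automorphisms preserving `P` fix `z`
  have autz : ∀ α : MulAut K, (∀ s ∈ (P : Subgroup K), α s ∈ (P : Subgroup K)) → α z = z := by
    intro α hα
    have h1 : α d * α d ≠ 1 := by
      rw [← map_mul]
      intro h2
      exact hdd (α.injective (by rw [h2, map_one]))
    have h2 : α d ∈ zpowers d := by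
      rcases hd.cov _ (hα d hd.d_mem) with h2 | ⟨k, h2⟩
      · exact h2
      · exfalso
        apply h1
        rw [h2]; exact hd.pow_r_sq k
    have h3 : α z ∈ zpowers d := by
      rw [hz, map_pow]
      exact (zpowers d).pow_mem h2 _
    by_contra h4
    refine four_not_cyc (a := z) (b := α z) (c := d) ⟨hzz, ?_, hz1, ?_, fun h5 => h4 h5.symm, ?_⟩ hzd h3
    · rw [← map_mul, hzz, map_one]
    · intro h5
      exact hz1 (α.injective (by rw [h5, map_one]))
    · exact zpowers_comm hzd h3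
  have actP : ∀ t ∈ T, ∀ α, Acts K t α → ∀ s ∈ (P : Subgroup K), α s ∈ (P : Subgroup K) := by
    intro t ht α hα s hs
    rw [memP, hα]
    exact T.mul_mem (T.mul_mem ht ((memP s).1 hs)) (T.inv_mem ht)
  have hcz : ∀ t ∈ T, t * (z : G) = z * t := by
    intro t ht
    obtain ⟨α, hα⟩ := S.acts (S.cx t ht)
    exact hα.comm_of_fix (autz α (actP t ht α hα))
  -- involutions of `D`
  have hinvz : ∀ e ∈ zpowers d, e * e = 1 → e = 1 ∨ e = z := by
    intro e he hee
    by_contra h1
    rw [not_or] at h1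
    refine four_not_cyc (a := z) (b := e) (c := d) ⟨hzz, hee, hz1, h1.1, fun h5 => h1.2 h5.symm, ?_⟩ hzd he
    exact zpowers_comm hzd he
  have hrefl : ∀ k : ℤ, ∀ e : K, e = d ^ k * r → e * d ≠ d * e := by
    intro k e he h1
    apply hrd
    rw [he] at h1
    have h2 : d ^ k * (r * d) = d ^ k * (d * r) := by
      calc d ^ k * (r * d) = d ^ k * r * d := by group
        _ = d * (d ^ k * r) := h1
        _ = d ^ k * (d * r) := by group
    exact mul_left_cancel h2
  have hKZ : ∀ e ∈ K, e ∈ T → (∀ t ∈ T, t * e = e * t) → e = 1 ∨ e = (z : G) := by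
    intro e heK heT he
    have h1 : (⟨e, heK⟩ : K) ∈ (P : Subgroup K) := (memP _).2 heT
    rcases hd.cov _ h1 with h2 | ⟨k, h2⟩
    · have h3 : r * ⟨e, heK⟩ = ⟨e, heK⟩ * r := Subtype.ext (he r hrT)
      obtain ⟨i, hi⟩ := mem_zpowers_iff.1 h2
      have h4 := hd.r_pow i
      rw [hi, h3, mul_inv_cancel_right, zpow_neg, hi] at h4
      have h5 : (⟨e, heK⟩ : K) * ⟨e, heK⟩ = 1 := by
        nth_rw 2 [h4]; exact mul_inv_cancel _
      rcases hinvz _ h2 h5 with h6 | h6
      · left; exact congrArg Subtype.val h6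
      · right; exact congrArg Subtype.val h6
    · exfalso
      exact hrefl k _ h2 (Subtype.ext (he d hdT).symm)
  -- linear elements centralizing `D`
  have hCD1 : ∀ t ∈ T, (∀ d ∈ T, d ∈ K → t * d = d * t) → (∀ α, Acts K t α → R.fld α = 1) →
      In4 x (z : G) t := by
    intro t ht htD htf
    obtain ⟨α, hα⟩ := S.acts (S.cx t ht)
    have h1 : α z = z := hα.fix (htD z hzT z.2)
    have h2 : α r = r := hα.fix (htD r hrT r.2)
    have h3 : α d = d := hα.fix (htD d hdT d.2)
    have hno : ∀ u : K, (∃ k : ℤ, u = d ^ k * r) → α ≠ MulAut.conj u := by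
      rintro u ⟨k, hk⟩ h4
      rw [h4, MulAut.conj_apply] at h3
      exact hrefl k u hk (mul_inv_eq_iff_eq_mul.1 h3)
    rcases R.fix_four hfour (R.mem_PGL_iff_fld.2 (htf α hα)) h1 h2 with h4 | h4 | h4 | h4
    · rw [h4] at hα
      rcases S.ker (S.cx t ht) hα with h5 | h5
      · left; exact h5
      · right; left; exact h5
    · rw [h4] at hα
      rcases S.eq_or (S.cx t ht) (S.Kx z z.2) hα (Acts.conj z.2) with h5 | h5
      · right; right; left; exact h5
      · right; right; right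
        rw [h5]; exact S.Kx z z.2
    · exact absurd h4 (hno r ⟨0, by rw [zpow_zero, one_mul]⟩)
    · exfalso
      obtain ⟨i, hi⟩ := mem_zpowers_iff.1 hzd
      exact hno (z * r) ⟨i, by rw [hi]⟩ h4
  have hff : f * f = 1 ∨ f * f = x := by
    have h1 := hφ.mul hφ
    rw [hφφ] at h1
    exact S.ker (comm_mul (S.cx f hfT) (S.cx f hfT)) h1
  have hzx : (z : G) * x = x * z := S.Kx z z.2
  refine ⟨z, f, d, r, ⟨hfT, hff, hfD, ?_, congrArg Subtype.val hzz, fun h1 => hz1 (Subtype.ext h1),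
    hzT, z.2, hcz, hKZ, hdT, d.2, fun h1 => hdd (Subtype.ext h1), ?_, hrT, r.2,
    congrArg Subtype.val hd.rr, fun h1 => hd.r1 (Subtype.ext h1), fun h1 => hrz (Subtype.ext h1),
    congrArg Subtype.val hd.rd, ?_, ?_, ?_, ?_, hCD1⟩⟩
  · intro α hα
    rw [hα.unique hφ]
    exact ⟨hφφ, hφf⟩
  · obtain ⟨m, rfl⟩ := Nat.exists_eq_succ_of_ne_zero hn1
    have h1 : (z : G) = ((d : G) * d) ^ 2 ^ m := by
      rw [hz, ← pow_two, ← pow_mul, ← pow_succ']
      rfl
    rw [h1]
    exact (zpowers _).pow_mem (mem_zpowers _) _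
  · intro e heT heK
    rcases hd.cov _ ((memP ⟨e, heK⟩).2 heT) with h2 | ⟨k, h2⟩
    · obtain ⟨i, hi⟩ := mem_zpowers_iff.1 h2
      exact ⟨i, Or.inl (by have := congrArg Subtype.val hi; simpa using this.symm)⟩
    · exact ⟨k, Or.inr (by have := congrArg Subtype.val h2; simpa using this)⟩
  · -- `codd`
    intro k hk hkz hko
    obtain ⟨B, hzB, hBc, hBi, hB⟩ := R.inner_cent hzz hz1
    have h1 : d ∈ B := by
      rcases hB d (zpowers_comm (mem_zpowers d) hzd) with h2 | h2
      · exact h2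
      · exact absurd h2.1 hdd
    have h2 : (⟨k, hk⟩ : K) ∈ B := by
      rcases hB ⟨k, hk⟩ (Subtype.ext hkz) with h3 | h3
      · exact h3
      · have h4 : (⟨k, hk⟩ : K) = 1 := by
          have h5 : k * k = 1 := congrArg Subtype.val h3.1
          apply Subtype.ext
          show k = 1
          have h6 : orderOf k ∣ 2 := orderOf_dvd_of_pow_eq_one (by rw [pow_two]; exact h5)
          have h7 : orderOf k = 1 := by
            rcases (Nat.dvd_prime Nat.prime_two).1 h6 with h7 | h7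
            · exact h7
            · rw [h7] at hko; exact absurd hko (by decide)
          exact orderOf_eq_one_iff.1 h7
        rw [h4]; exact one_mem B
    exact congrArg Subtype.val (hBc d h1 _ h2)
  · -- `vodd`
    intro v hvT hvK hvv hv1 hvz k hk hkz hko
    obtain ⟨B, hzB, hBc, hBi, hB⟩ := R.inner_cent hzz hz1
    have h1 : d ∈ B := by
      rcases hB d (zpowers_comm (mem_zpowers d) hzd) with h2 | h2
      · exact h2
      · exact absurd h2.1 hdd
    have h2 : (⟨k, hk⟩ : K) ∈ B := by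
      rcases hB ⟨k, hk⟩ (Subtype.ext hkz) with h3 | h3
      · exact h3
      · have h4 : (⟨k, hk⟩ : K) = 1 := by
          have h5 : k * k = 1 := congrArg Subtype.val h3.1
          apply Subtype.ext
          show k = 1
          have h6 : orderOf k ∣ 2 := orderOf_dvd_of_pow_eq_one (by rw [pow_two]; exact h5)
          have h7 : orderOf k = 1 := by
            rcases (Nat.dvd_prime Nat.prime_two).1 h6 with h7 | h7
            · exact h7
            · rw [h7] at hko; exact absurd hko (by decide)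
          exact orderOf_eq_one_iff.1 h7
        rw [h4]; exact one_mem B
    obtain ⟨i, hi⟩ : ∃ i : ℤ, (⟨v, hvK⟩ : K) = d ^ i * r := by
      rcases hd.cov _ ((memP ⟨v, hvK⟩).2 hvT) with h3 | h3
      · exfalso
        rcases hinvz _ h3 (Subtype.ext hvv) with h4 | h4
        · exact hv1 (congrArg Subtype.val h4)
        · exact hvz (congrArg Subtype.val h4)
      · exact h3
    rcases hB ⟨v, hvK⟩ (Subtype.ext (hcz v hvT)) with h3 | h3
    · exact absurd (hBc _ h3 _ h1) (hrefl i _ hi)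
    · exact congrArg Subtype.val (h3.2 _ h2)
  · -- `CD`
    intro t ht htD
    obtain ⟨α, hα⟩ := S.acts (S.cx t ht)
    have h1 : ∀ s ∈ (P : Subgroup K), α s = s := fun s hs =>
      hα.fix (htD s ((memP s).1 hs) s.2)
    have hαα : α * α = 1 := R.cent_syl P (hα.pow_one (pow_of_mem S.pT ht)) h1
    by_cases hαf : R.fld α = 1
    · exact ⟨t, hCD1 t ht htD (fun β hβ => by rw [hβ.unique hα]; exact hαf), Or.inl rfl⟩
    · have h2 : R.fld α = R.fld φ := L2One.AutPsl.aut_inv (by rw [← map_mul, hαα, map_one]) hαf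
        (by rw [← map_mul, hφφ, map_one]) hφf
      have h3 : In4 x (z : G) (f * t) := by
        refine hCD1 _ (T.mul_mem hfT ht) ?_ ?_
        · intro e he heK
          rw [mul_assoc, htD e he heK, ← mul_assoc, hfD e he heK, mul_assoc]
        · intro β hβ
          rw [hβ.unique (hφ.mul hα), map_mul, h2, ← map_mul, hφφ, map_one]
      have h4 : ∀ e, In4 x (z : G) e → In4 x (z : G) (x * e) := by
        rintro e (rfl | rfl | rfl | rfl)
        · right; left; rw [mul_one]
        · left; exact S.xx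
        · right; right; right; rfl
        · right; right; left
          rw [← mul_assoc, S.xx, one_mul]
      rcases hff with h5 | h5
      · refine ⟨f * t, h3, Or.inr ?_⟩
        rw [← mul_assoc, h5, one_mul]
      · refine ⟨x * (f * t), h4 _ h3, Or.inr ?_⟩
        rw [← mul_assoc, S.cx f hfT, ← mul_assoc, mul_assoc x f f, h5, S.xx, one_mul]

end Setup

namespace FData

variable {x z f c r : G} {K T : Subgroup G} {F : Type*} [Field F] [Finite F] {R : L2Aut.Rep F K}

theorem in4_comm (S : Setup x K T) (D : FData x z f c r K T R) {e : G} (he : In4 x z e) {t : G}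
    (ht : t ∈ T) : t * e = e * t := by
  have h1 := S.cx t ht
  have h2 := D.cz t ht
  rcases he with rfl | rfl | rfl | rfl
  · rw [mul_one, one_mul]
  · exact h1
  · exact h2
  · rw [← mul_assoc, h1, mul_assoc, h2, mul_assoc]

/-- `C_T(D)` is abelian -/
theorem cD (S : Setup x K T) (D : FData x z f c r K T R) {a b : G} (ha : a ∈ T)
    (haD : ∀ d ∈ T, d ∈ K → a * d = d * a) (hb : b ∈ T) (hbD : ∀ d ∈ T, d ∈ K → b * d = d * b) :
    a * b = b * a := by
  obtain ⟨e, he, h1⟩ := D.CD a ha haD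
  obtain ⟨e', he', h2⟩ := D.CD b hb hbD
  have heT : ∀ e, In4 x z e → e ∈ T := by
    rintro e (rfl | rfl | rfl | rfl)
    · exact one_mem T
    · exact S.xT
    · exact D.zT
    · exact T.mul_mem S.xT D.zT
  rcases h1 with rfl | rfl
  · exact (in4_comm S D he hb).symm
  · rcases h2 with rfl | rfl
    · exact in4_comm S D he' ha
    · have h3 := in4_comm S D he' D.fT
      have h4 := in4_comm S D he D.fT
      have h5 := in4_comm S D he (heT e' he')
      calc f * e * (f * e') = f * (e * f) * e' := by group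
        _ = f * (f * e) * e' := by rw [h4]
        _ = f * f * (e * e') := by group
        _ = f * f * (e' * e) := by rw [h5]
        _ = f * (f * e') * e := by group
        _ = f * (e' * f) * e := by rw [h3]
        _ = f * e' * (f * e) := by group

end FData

/-- helper419's frame -/
theorem FData.base [Finite G] {x z f c r : G} {K T : Subgroup G} {F : Type} [Field F] [Finite F]
    {R : L2Aut.Rep F K} (S : Setup x K T) (D : FData x z f c r K T R) : TypeA.Base x z T K where
  xx := S.xx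
  x1 := S.x1
  zz := D.zz
  z1 := D.z1
  xT := S.xT
  zT := D.zT
  xK := S.xK R
  zK := D.zK
  cx := S.cx
  cz := D.cz
  pT := S.pT
  max := fun P hP hTP h => S.max hP hTP h
  Kx := S.Kx
  Kn := S.Kn
  sylK := by
    obtain ⟨P, hP⟩ := S.sylK
    intro P' hP' h1 h2 y hy
    have h3 : IsPGroup 2 (P'.subgroupOf K) := by
      have h4 : (P'.subgroupOf K).map K.subtype ≤ P' := by
        rintro _ ⟨y, hy, rfl⟩
        exact hy
      exact IsPGroup.of_injective (hP'.to_le h4)
        ((P'.subgroupOf K).equivMapOfInjective K.subtype K.subtype_injective).toMonoidHom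
        (MulEquiv.injective _)
    have h4 : (P : Subgroup K) ≤ P'.subgroupOf K := by
      rw [hP]
      intro k hk
      exact h1 ⟨hk, k.2⟩
    have h5 := P.is_maximal' h3 h4
    have h6 : (⟨y, h2 hy⟩ : K) ∈ (P : Subgroup K) := by
      rw [← h5]; exact hy
    rw [hP] at h6
    exact h6
  na := ⟨r, D.rT, D.rK, D.rr, D.r1, D.rz, c, D.cT, D.cK, by
    intro h1
    have h2 := D.rc
    rw [← h1, mul_inv_cancel_right] at h2
    apply D.cc
    nth_rw 2 [h2]
    exact mul_inv_cancel c⟩
  cD := fun a ha haD b hb hbD => D.cD S ha haD hb hbD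
  KZ := D.KZ
  CK := fun c hc h => S.CK c (S.cx c hc) h
  iso := ⟨F, inferInstance, inferInstance, ⟨R⟩⟩

end Cfsg.Agent.OddHalf.D6
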