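import Cfsg.Agent.OddHalf.D6.Beta
import Cfsg.Agent.OddHalf.D6.BalG
import Cfsg.Agent.OddHalf.D6.FieldInvC

/-!
# ODD D6, `K = L₂(q)`, `|Q| = 2`, `q ≠ 9`: type (b) is impossible (C2(beta), helper446)

`false_of_typeB` : `Setup x K T`, the field involution `f` (`FData`), a component `L` of `C(z)` meeting `A₀`,
`x` acting outside `Inn L` : no such simple `G`.
-/

set_option autoImplicit false

open Subgroup Cfsg Cfsg.Agent.GH

namespace Cfsg.Agent.OddHalf.D6.Beta

theorem false_of_typeB {G : Type*} [Group G] [Finite G] {x z f c r : G} {K T : Subgroup G}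
    (S : Setup x K T) {F : Type*} [Field F] [Finite F] {R : L2Aut.Rep F K}
    (D : FData x z f c r K T R) (hF : 9 < Nat.card F) (hG : ∀ (φ : G →* ℤˣ) (u : G), φ u = 1)
    (W : World z) {L : Subgroup G} (hL : Comp z L) {a : G} (ha : a ∈ A0 z K) (haL : a ∈ L)
    (ha1 : a ≠ 1) (hb : ¬ ∃ w ∈ L, ∀ l ∈ L, x * l * x⁻¹ = w * l * w⁻¹) : False := by
  have fr : FrQ x z x K :=
    Fr.toQ { xx := S.xx, Kx := S.Kx, Kn := S.Kn, CK := S.CK, zK := D.zK, zz := D.zz, z1 := D.z1 }
  have hxT := S.xT
  have hnorm := fun y hy => fr.norm_comp R hz_self W hL ha haL ha1 (c := y) (S.cx y hy) (D.cz y hy)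
  have hf : f * x = x * f := S.cx f D.fT
  obtain ⟨haK, haz, hao⟩ := (fr.mem_A0 R).1 ha
  have hcomp : IsComponent (L.subgroupOf (centralizer ({z} : Set G))) := by
    obtain ⟨L', hL', rfl⟩ := hL
    have h1 : (L'.map (centralizer ({z} : Set G)).subtype).subgroupOf (centralizer ({z} : Set G)) = L' :=
      comap_map_eq_self_of_injective (centralizer ({z} : Set G)).subtype_injective L'
    rwa [h1]
  obtain ⟨F', _, _, ⟨R'⟩⟩ := W.comp L hL
  -- the action of `x` on `L`
  have hout : ∀ φ : MulAut L, (∀ l : L, ((φ l : L) : G) = x * l * x⁻¹) → R'.o1 φ = -1 := by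
    intro φ hφ
    have h1 : φ ∉ L2Aut.Inn L := by
      rintro ⟨w, hw⟩
      refine hb ⟨w, w.2, fun l hl => ?_⟩
      rw [← hφ ⟨l, hl⟩, ← hw]
      rfl
    have h2 : φ ∈ R'.PGL := by
      obtain ⟨L', hL', rfl⟩ := hL
      -- transport to the group `C(z)`
      let e : L' ≃* L'.map (centralizer ({z} : Set G)).subtype :=
        L'.equivMapOfInjective _ (centralizer ({z} : Set G)).subtype_injective
      let R2 : L2Aut.Rep F' L' :=
        { π := e.symm.toMonoidHom.comp R'.π
          surj := e.symm.surjective.comp R'.surj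
          ker := fun y => by
            rw [← R'.ker]
            change e.symm (R'.π y) = 1 ↔ _
            rw [e.symm.map_eq_one_iff]
          two := R'.two }
      have B := fr.bal R (hz_self (x := x) (z := z))
      have hxn := B.x_norm R2 hL'
      obtain ⟨-, -, h3⟩ := B.act_x R2 hxn
      rw [R2.mem_PGL] at h3
      obtain ⟨g, hg⟩ := h3
      rw [R'.mem_PGL]
      refine ⟨g, ?_⟩
      apply R'.ext_π
      intro y
      have h4 := DFunLike.congr_fun hg (R2.π y)
      rw [R2.gl_apply] at h4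
      rw [R'.gl_apply]
      have h5 : ∀ w, e (R2.π w) = R'.π w := fun w => e.apply_symm_apply _
      rw [← h5, ← h5, ← h4]
      apply Subtype.ext
      rw [hφ]
      rfl
    have h3 : R'.o1 φ ≠ 1 := by
      intro h4
      exact h1 (R'.mem_inn_iff.2 ⟨R'.mem_PGL_iff_fld.1 h2, h4⟩)
    exact (Int.units_eq_one_or _).resolve_left h3
  refine BData.absurd_of (x := x) (z := z) (f := f) (c := c) (T := T) (K := K) (L := L) (RK := R)
    (RL := R') { hF := hF, xx := S.xx, zz := D.zz, z1 := D.z1, xT := hxT, zK := D.zK, cx := S.cx,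
                 cz := D.cz, pT := S.pT, max := ?_, Kx := S.Kx, Kn := S.Kn, CK := S.CK, fx := hf,
                 fK := fun φ hφ => (D.ftype φ hφ).2, Z := ?_, cT := D.cT, zc := D.zc, inv := ?_,
                 Lz := hL.comm, TL := hnorm, hL := hcomp, out := hout,
                 b := ⟨a, haL, ha1, hao, S.Kx a haK⟩ } hG
  · exact fun P hP hTP hPx => S.max hP hTP hPx
  · intro t ht htc
    obtain ⟨e, he, h1 | h1⟩ := D.CD t ht (fun d hd _ => (htc d hd).symm)
    · left
      rw [h1]
      exact he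
    · right
      have hxe : Q4 x z (x * e) := by
        rcases he with rfl | rfl | rfl | rfl
        · exact Or.inr (Or.inl (mul_one x))
        · exact Or.inl S.xx
        · exact Or.inr (Or.inr (Or.inr rfl))
        · refine Or.inr (Or.inr (Or.inl ?_))
          rw [← mul_assoc, S.xx, one_mul]
      rw [h1, ← mul_assoc]
      rcases D.ff with h2 | h2
      · rw [h2, one_mul]
        exact he
      · rw [h2]
        exact hxe
  · intro b v hbo hbx hbz hvx hvz hvb
    have h1 := (fr.A0_data R).2.2.2.2 b v hbx hvx hbz hvz hbo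
    have h2 : b * v * b⁻¹ * v⁻¹ = b * b := by
      have h3 : b * v * b⁻¹ * v⁻¹ = b * (v * b * v⁻¹)⁻¹ := by group
      rw [h3, hvb, inv_inv]
    rw [h2] at h1
    obtain ⟨h3, h4, h5⟩ := (fr.mem_A0 R).1 (mem_of_sq_mem h1 hbo)
    exact D.codd b h3 h4 h5

end Cfsg.Agent.OddHalf.D6.Beta
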