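import Cfsg.Agent.OddHalf.D6.Bal
import Cfsg.Agent.Lib.PSL2Torus

/-!
# ODD D6: `C(x) ∩ C(z)` modulo `A₀ = O(C_K(z))` (bb ODD 7030 (1))

`K ≅ PSL(2,F)` is normal in `C(x)`, `Q = C_{C(x)}(K)` is a cyclic 2-group containing `x`, `z ∈ K` an
involution. The elements of odd order of `C_K(z)` form a cyclic group `A₀`, and `[y, v] ∈ A₀` for all
`y, v ∈ C(x) ∩ C(z)` with `y` of odd order. (`Fr`: the case `Q = ⟨x⟩`.)
-/

set_option autoImplicit false

open Subgroup Cfsg Cfsg.Agent.GH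
open Cfsg.Agent.GH.L2Aut (Four)

namespace Cfsg.Agent.OddHalf.D6

/-- in a group: `y ^ n = 1`, `n` odd, `m = [y, v]` a 2-element commuting with `y`: `m = 1` -/
theorem comm_eq_one {Q : Type*} [Group Q] {y v m : Q} {n j : ℕ} (hy : y ^ n = 1) (hn : Odd n)
    (hm : y * v * y⁻¹ * v⁻¹ = m) (hc : y * m = m * y) (h2 : m ^ 2 ^ j = 1) : m = 1 := by
  have h1 : ∀ k : ℕ, y ^ k * v * (y ^ k)⁻¹ = m ^ k * v := by
    intro k
    induction k with
    | zero => simp
    | succ k ih =>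
      have h3 : y * v * y⁻¹ = m * v := by rw [← hm, inv_mul_cancel_right]
      have h4 : y * m ^ k * y⁻¹ = m ^ k := by
        rw [(show Commute y m from hc).pow_right k |>.eq, mul_inv_cancel_right]
      calc y ^ (k + 1) * v * (y ^ (k + 1))⁻¹ = y * (y ^ k * v * (y ^ k)⁻¹) * y⁻¹ := by
            rw [pow_succ']; group
        _ = y * (m ^ k * v) * y⁻¹ := by rw [ih]
        _ = (y * m ^ k * y⁻¹) * (y * v * y⁻¹) := by group
        _ = m ^ (k + 1) * v := by rw [h4, h3, pow_succ, mul_assoc]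
  have h3 := h1 n
  rw [hy, one_mul, inv_one, mul_one] at h3
  have h4 : m ^ n = 1 := (mul_eq_right.1 h3.symm)
  have h5 : orderOf m ∣ n := orderOf_dvd_of_pow_eq_one h4
  have h6 : orderOf m ∣ 2 ^ j := orderOf_dvd_of_pow_eq_one h2
  have h7 : Nat.Coprime n (2 ^ j) := Nat.Coprime.pow_right j (Nat.coprime_two_right.2 hn)
  have h8 := Nat.eq_one_of_dvd_coprimes h7 h5 h6
  exact orderOf_eq_one_iff.1 h8

/-- The frame: `K ≅ PSL(2,F)` normal in `C(x)` with `C_{C(x)}(K) = ⟨x⟩`, `z` an involution of `K`. -/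
structure Fr {G : Type*} [Group G] (x z : G) (K : Subgroup G) : Prop where
  xx : x * x = 1
  Kx : ∀ k ∈ K, k * x = x * k
  Kn : ∀ c, c * x = x * c → ∀ k ∈ K, c * k * c⁻¹ ∈ K
  CK : ∀ c, c * x = x * c → (∀ k ∈ K, c * k = k * c) → c = 1 ∨ c = x
  zK : z ∈ K
  zz : z * z = 1
  z1 : z ≠ 1

/-- The general frame: `Q = C_{C(x)}(K) = ⟨q₀⟩` is a cyclic 2-group with involution `x`. -/
structure FrQ {G : Type*} [Group G] (x z q₀ : G) (K : Subgroup G) : Prop where
  xx : x * x = 1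
  Kx : ∀ k ∈ K, k * x = x * k
  Kn : ∀ c, c * x = x * c → ∀ k ∈ K, c * k * c⁻¹ ∈ K
  Qx : q₀ * x = x * q₀
  QK : ∀ k ∈ K, q₀ * k = k * q₀
  Q2 : ∃ n, q₀ ^ 2 ^ n = 1
  Qi : ∀ q ∈ zpowers q₀, q * q = 1 → q = 1 ∨ q = x
  CK : ∀ c, c * x = x * c → (∀ k ∈ K, c * k = k * c) → c ∈ zpowers q₀
  zK : z ∈ K
  zz : z * z = 1
  z1 : z ≠ 1

theorem mem_zpowers_of_sq {G : Type*} [Group G] {x q : G} (xx : x * x = 1) (hq : q ∈ zpowers x) :
    q = 1 ∨ q = x := by
  obtain ⟨k, rfl⟩ := mem_zpowers_iff.1 hq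
  have h2 : x ^ (2 : ℤ) = 1 := by rw [zpow_two]; exact xx
  rcases Int.even_or_odd' k with ⟨m, h | h⟩
  · left; rw [h, zpow_mul, h2, one_zpow]
  · right; rw [h, zpow_add, zpow_mul, h2, one_zpow, zpow_one, one_mul]

theorem Fr.toQ {G : Type*} [Group G] {x z : G} {K : Subgroup G} (f : Fr x z K) : FrQ x z x K where
  xx := f.xx
  Kx := f.Kx
  Kn := f.Kn
  Qx := rfl
  QK := fun k hk => (f.Kx k hk).symm
  Q2 := ⟨1, by rw [pow_one, sq, f.xx]⟩
  Qi := fun _ hq _ => mem_zpowers_of_sq f.xx hq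
  CK := fun c hc hK => by
    rcases f.CK c hc hK with h | h
    · rw [h]; exact one_mem _
    · rw [h]; exact mem_zpowers x
  zK := f.zK
  zz := f.zz
  z1 := f.z1

section torus

variable {F L : Type*} [Field F] [Finite F] [Group L]

/-- the torus of an involution and its odd part -/
theorem exists_oddPart (R : L2Aut.Rep F L) {t : L} (ht1 : t ≠ 1) (ht : t * t = 1) :
    ∃ (T A : Subgroup L) (v : L), A ≤ T ∧ t ∈ T ∧ (∃ g ∈ T, ∀ a ∈ T, a ∈ zpowers g) ∧
      (∀ a, a ∈ A ↔ a * t = t * a ∧ Odd (orderOf a)) ∧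
      (∀ a ∈ T, a * t = t * a) ∧ (∀ a ∈ T, a * a = 1 → a = 1 ∨ a = t) ∧
      (∀ x, x * t = t * x → x ∉ T → x * x = 1 ∧ ∀ y ∈ T, x * y * x⁻¹ = y⁻¹) ∧
      (∀ x y, x * t = t * x → x ∉ T → y * t = t * y → y ∉ T → x * y ∈ T) ∧
      v * t = t * v ∧ v ∉ T ∧ Odd (Nat.card A) := by
  have hfin := R.finite
  obtain ⟨T, hcyc, htT, hT, -, hout, ⟨v, hv, hvT⟩, hprod⟩ :=
    Cfsg.Agent.Lib.PSL2Torus.exists_torus_hom R.π R.two R.surj R.ker ht1 ht
  obtain ⟨⟨g, hg⟩, hgen⟩ := hcyc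
  have hgen' : ∀ a ∈ T, a ∈ zpowers g := by
    intro a ha
    obtain ⟨k, hk⟩ := mem_zpowers_iff.1 (hgen ⟨a, ha⟩)
    exact mem_zpowers_iff.2 ⟨k, congrArg Subtype.val hk⟩
  have hcomm : ∀ a ∈ T, ∀ b ∈ T, a * b = b * a := by
    intro a ha b hb
    obtain ⟨i, rfl⟩ := mem_zpowers_iff.1 (hgen' a ha)
    obtain ⟨j, rfl⟩ := mem_zpowers_iff.1 (hgen' b hb)
    rw [← zpow_add, ← zpow_add, add_comm]
  have huniq : ∀ a ∈ T, a * a = 1 → a = 1 ∨ a = t := by
    intro a ha haa
    by_cases ha1 : a = 1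
    · exact Or.inl ha1
    right
    by_contra hat
    exact L2Aut.four_not_cyc (a := a) (b := t) (c := g)
      ⟨haa, ht, ha1, ht1, hat, hT a ha⟩ (hgen' a ha) (hgen' t htT)
  let A : Subgroup L :=
    { carrier := {a | a ∈ T ∧ Odd (orderOf a)}
      one_mem' := ⟨one_mem _, by rw [orderOf_one]; exact odd_one⟩
      mul_mem' := by
        rintro a b ⟨ha, ha'⟩ ⟨hb, hb'⟩
        refine ⟨T.mul_mem ha hb, ?_⟩
        exact Odd.of_dvd_nat (ha'.mul hb')
          ((show Commute a b from hcomm a ha b hb).orderOf_mul_dvd_mul_orderOf)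
      inv_mem' := by
        rintro a ⟨ha, ha'⟩
        exact ⟨T.inv_mem ha, by rw [orderOf_inv]; exact ha'⟩ }
  refine ⟨T, A, v, fun a ha => ha.1, htT, ⟨g, hg, hgen'⟩, ?_, hT, huniq, fun x hx hxT => (hout x hx hxT).2,
    hprod, hv, hvT, ?_⟩
  · intro a
    constructor
    · rintro ⟨ha, ha'⟩
      exact ⟨hT a ha, ha'⟩
    · rintro ⟨ha, ha'⟩
      refine ⟨?_, ha'⟩
      by_contra haT
      apply haT
      have h1 := eq_one_of_sq (hout a ha haT).2.1 ha'
      rw [h1]; exact one_mem _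
  · rw [← Nat.not_even_iff_odd, even_iff_two_dvd]
    intro hdvd
    obtain ⟨y, hy⟩ := exists_prime_orderOf_dvd_card' (G := A) 2 hdvd
    have h1 : Odd (orderOf (y : L)) := y.2.2
    rw [Subgroup.orderOf_coe, hy] at h1
    exact absurd h1 (by decide)

end torus

namespace FrQ

variable {G : Type*} [Group G] [Finite G] {x z q₀ : G} {K : Subgroup G} (f : FrQ x z q₀ K)

include f

theorem norm {c : G} (hc : c * x = x * c) : c ∈ normalizer (K : Set G) := mem_norm_of (f.Kn c hc)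

omit [Finite G] in
theorem zx : z * x = x * z := f.Kx z f.zK

/-- The main result: `A₀`. -/
theorem exists_A {F : Type*} [Field F] [Finite F] (R : L2Aut.Rep F K) :
    ∃ (A : Subgroup G), (∀ a, a ∈ A ↔ a ∈ K ∧ a * z = z * a ∧ Odd (orderOf a)) ∧
      (∃ g ∈ A, ∀ a ∈ A, a ∈ zpowers g) ∧ Odd (Nat.card A) ∧
      (∃ v ∈ K, v * z = z * v ∧ v * v = 1 ∧ v ≠ z ∧ v ≠ 1 ∧ ∀ a ∈ A, v * a * v⁻¹ = a⁻¹) ∧
      (∀ y v, y * x = x * y → v * x = x * v → y * z = z * y → v * z = z * v → Odd (orderOf y) →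
        y * v * y⁻¹ * v⁻¹ ∈ A) := by
  have hz1' : (⟨z, f.zK⟩ : K) ≠ 1 := fun h => f.z1 (congrArg Subtype.val h)
  have hzz' : (⟨z, f.zK⟩ : K) * ⟨z, f.zK⟩ = 1 := Subtype.ext f.zz
  obtain ⟨T, A', v₀, hAT, hzT, ⟨g, hgT, hgen⟩, hA, hT, huniq, hout, hprod, hv₀, hv₀T, hodd⟩ :=
    exists_oddPart R hz1' hzz'
  have hcomm : ∀ a ∈ T, ∀ b ∈ T, a * b = b * a := by
    intro a ha b hb
    obtain ⟨i, rfl⟩ := mem_zpowers_iff.1 (hgen a ha)
    obtain ⟨j, rfl⟩ := mem_zpowers_iff.1 (hgen b hb)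
    rw [← zpow_add, ← zpow_add, add_comm]
  have hord : ∀ k : K, orderOf k = orderOf (k : G) := fun k => (Subgroup.orderOf_coe k).symm
  have hzc : ∀ k : K, k * ⟨z, f.zK⟩ = ⟨z, f.zK⟩ * k ↔ (k : G) * z = z * k := fun k =>
    ⟨fun h => congrArg Subtype.val h, fun h => Subtype.ext h⟩
  set A : Subgroup G := A'.map K.subtype with hAdef
  have hmem : ∀ a, a ∈ A ↔ a ∈ K ∧ a * z = z * a ∧ Odd (orderOf a) := by
    intro a
    constructor
    · rintro ⟨k, hk, rfl⟩
      obtain ⟨h1, h2⟩ := (hA k).1 hk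
      exact ⟨k.2, (hzc k).1 h1, by rw [hord] at h2; exact h2⟩
    · rintro ⟨h1, h2, h3⟩
      exact ⟨⟨a, h1⟩, (hA _).2 ⟨(hzc _).2 h2, by rw [hord]; exact h3⟩, rfl⟩
  -- `A` is normalised by `C(x) ∩ C(z)`
  have hAn : ∀ v, v * x = x * v → v * z = z * v → ∀ a ∈ A, v * a * v⁻¹ ∈ A := by
    intro v hvx hvz a ha
    obtain ⟨h1, h2, h3⟩ := (hmem a).1 ha
    refine (hmem _).2 ⟨f.Kn v hvx a h1, ?_, ?_⟩
    · calc v * a * v⁻¹ * z = v * a * v⁻¹ * (z * v) * v⁻¹ := by group
        _ = v * a * v⁻¹ * (v * z) * v⁻¹ := by rw [hvz]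
        _ = v * (a * z) * v⁻¹ := by group
        _ = (v * z) * a * v⁻¹ := by rw [h2]; group
        _ = z * (v * a * v⁻¹) := by rw [hvz]; group
    · have h4 : orderOf (v * a * v⁻¹) = orderOf a :=
        orderOf_injective (MulAut.conj v).toMonoidHom (MulAut.conj v).injective a
      rw [h4]; exact h3
  have hvv₀ := hout v₀ hv₀ hv₀T
  have hTpow : ∀ t ∈ T, ∃ j : ℕ, ((t : K) : G) ^ 2 ^ j ∈ A := by
    intro t ht
    obtain ⟨k, m, hm, hkm⟩ := Nat.exists_eq_two_pow_mul_odd (orderOf_pos t).ne'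
    refine ⟨k, ⟨t ^ 2 ^ k, (hA _).2 ⟨hT _ (T.pow_mem ht _), ?_⟩, by simp⟩⟩
    rw [orderOf_pow, hkm, Nat.gcd_eq_right (Dvd.intro _ rfl), Nat.mul_div_cancel_left _ (by positivity)]
    exact hm
  have hCKpow : ∀ k ∈ K, k * z = z * k → ∃ j : ℕ, k ^ 2 ^ j ∈ A := by
    intro k hk hkz
    by_cases h : (⟨k, hk⟩ : K) ∈ T
    · exact hTpow _ h
    · refine ⟨1, ?_⟩
      have h1 : k * k = 1 := congrArg Subtype.val (hout ⟨k, hk⟩ ((hzc _).2 hkz) h).1
      rw [pow_one, sq, h1]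
      exact one_mem _
  refine ⟨A, hmem, ?_, ?_, ⟨v₀, v₀.2, (hzc v₀).1 hv₀, congrArg Subtype.val hvv₀.1, ?_, ?_, ?_⟩, ?_⟩
  · -- cyclic
    have h1 : IsCyclic A' := by
      have h2 : IsCyclic T := ⟨⟨⟨g, hgT⟩, fun a => by
        obtain ⟨k, hk⟩ := mem_zpowers_iff.1 (hgen a a.2)
        exact mem_zpowers_iff.2 ⟨k, Subtype.ext hk⟩⟩⟩
      exact isCyclic_of_injective (Subgroup.inclusion hAT) (Subgroup.inclusion_injective hAT)
    obtain ⟨⟨c, hc⟩, hcgen⟩ := h1
    refine ⟨(c : G), ⟨c, hc, rfl⟩, ?_⟩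
    rintro _ ⟨a, ha, rfl⟩
    obtain ⟨k, hk⟩ := mem_zpowers_iff.1 (hcgen ⟨a, ha⟩)
    have hk' : c ^ k = a := congrArg Subtype.val hk
    exact mem_zpowers_iff.2 ⟨k, by rw [← hk']; simp⟩
  · rw [hAdef, card_map_of_injective K.subtype_injective]
    exact hodd
  · intro h
    apply hv₀T
    rw [show v₀ = ⟨z, f.zK⟩ from Subtype.ext h]
    exact hzT
  · intro h
    apply hv₀T
    rw [show v₀ = 1 from Subtype.ext h]
    exact one_mem _
  · rintro _ ⟨a, ha, rfl⟩
    exact congrArg Subtype.val (hvv₀.2 a (hAT ha))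
  · -- the main point
    intro y w hyx hwx hyz hwz hyo
    -- `S` = the elements commuting with `y` modulo `A`
    let S : Subgroup G :=
      { carrier := {v | v * x = x * v ∧ v * z = z * v ∧ y * v * y⁻¹ * v⁻¹ ∈ A}
        one_mem' := ⟨by rw [one_mul, mul_one], by rw [one_mul, mul_one], by
          rw [mul_one, inv_one, mul_one, mul_inv_cancel]; exact one_mem _⟩
        mul_mem' := by
          rintro a b ⟨ha, ha', ha''⟩ ⟨hb, hb', hb''⟩
          refine ⟨by rw [mul_assoc, hb, ← mul_assoc, ha, mul_assoc],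
            by rw [mul_assoc, hb', ← mul_assoc, ha', mul_assoc], ?_⟩
          have h1 := A.mul_mem ha'' (hAn a ha ha' _ hb'')
          have h2 : y * a * y⁻¹ * a⁻¹ * (a * (y * b * y⁻¹ * b⁻¹) * a⁻¹) =
            y * (a * b) * y⁻¹ * (a * b)⁻¹ := by group
          rwa [h2] at h1
        inv_mem' := by
          rintro a ⟨ha, ha', ha''⟩
          have e1 : a⁻¹ * x = x * a⁻¹ := by
            rw [inv_mul_eq_iff_eq_mul, ← mul_assoc, ha, mul_inv_cancel_right]
          have e2 : a⁻¹ * z = z * a⁻¹ := by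
            rw [inv_mul_eq_iff_eq_mul, ← mul_assoc, ha', mul_inv_cancel_right]
          refine ⟨e1, e2, ?_⟩
          have h1 := hAn a⁻¹ e1 e2 _ (A.inv_mem ha'')
          have h2 : a⁻¹ * (y * a * y⁻¹ * a⁻¹)⁻¹ * a⁻¹⁻¹ = y * a⁻¹ * y⁻¹ * a⁻¹⁻¹ := by group
          rwa [h2] at h1 }
    have hmemS : ∀ v, v ∈ S ↔ v * x = x * v ∧ v * z = z * v ∧ y * v * y⁻¹ * v⁻¹ ∈ A := fun v => Iff.rfl
    have hAx : ∀ a ∈ A, a * x = x * a := fun a ha => f.Kx a ((hmem a).1 ha).1
    have hAz : ∀ a ∈ A, a * z = z * a := fun a ha => ((hmem a).1 ha).2.1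
    have hAS : A ≤ S := by
      intro a ha
      refine ⟨hAx a ha, hAz a ha, A.mul_mem (hAn y hyx hyz a ha) (A.inv_mem ha)⟩
    -- the key step
    have key : ∀ v, v * x = x * v → v * z = z * v → y * v * y⁻¹ * v⁻¹ ∈ S →
        (∃ j : ℕ, (y * v * y⁻¹ * v⁻¹) ^ 2 ^ j ∈ A) → v ∈ S := by
      rintro v hvx hvz hm ⟨j, hj⟩
      refine ⟨hvx, hvz, ?_⟩
      let N : Subgroup G := centralizer ({x} : Set G) ⊓ centralizer ({z} : Set G)
      have hN : ∀ g, g ∈ N ↔ g * x = x * g ∧ g * z = z * g := fun g => by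
        rw [mem_inf, mem_centralizer_singleton_iff, mem_centralizer_singleton_iff]
      have hAN : ∀ a ∈ A, a ∈ N := fun a ha => (hN a).2 ⟨hAx a ha, hAz a ha⟩
      have hnorm : (A.subgroupOf N).Normal := ⟨by
        rintro ⟨a, haN⟩ ha ⟨g, hg⟩
        exact hAn g ((hN g).1 hg).1 ((hN g).1 hg).2 a ha⟩
      have hyN : y ∈ N := (hN y).2 ⟨hyx, hyz⟩
      have hvN : v ∈ N := (hN v).2 ⟨hvx, hvz⟩
      let Y : N := ⟨y, hyN⟩
      let V : N := ⟨v, hvN⟩
      let q : N →* N ⧸ A.subgroupOf N := QuotientGroup.mk' _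
      have hq : ∀ g : N, q g = 1 ↔ (g : G) ∈ A := fun g => by
        change (QuotientGroup.mk g : N ⧸ A.subgroupOf N) = 1 ↔ _
        rw [QuotientGroup.eq_one_iff]
        exact Iff.rfl
      have h1 : q (Y * V * Y⁻¹ * V⁻¹) = 1 := by
        refine comm_eq_one (y := q Y) (v := q V) (n := orderOf y) (j := j) ?_ hyo ?_ ?_ ?_
        · rw [← map_pow, show Y ^ orderOf y = 1 from Subtype.ext (pow_orderOf_eq_one y), map_one]
        · simp only [map_mul, map_inv]
        · have h2 : q (Y * (Y * V * Y⁻¹ * V⁻¹) * Y⁻¹ * (Y * V * Y⁻¹ * V⁻¹)⁻¹) = 1 := by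
            rw [hq]
            exact ((hmemS _).1 hm).2.2
          rw [map_mul, map_mul, map_mul, map_inv, map_inv, mul_inv_eq_one, mul_inv_eq_iff_eq_mul] at h2
          exact h2
        · rw [← map_pow, hq]
          exact hj
      rw [hq] at h1
      exact h1
    -- (0) `T` is normalised by `y`
    have hTy : ∀ t : K, t ∈ T → ∃ t' : K, t' ∈ T ∧ (t' : G) = y * t * y⁻¹ := by
      intro t ht
      refine ⟨⟨y * t * y⁻¹, f.Kn y hyx t t.2⟩, ?_, rfl⟩
      have hc : (⟨y * t * y⁻¹, f.Kn y hyx t t.2⟩ : K) * ⟨z, f.zK⟩ = ⟨z, f.zK⟩ * ⟨y * t * y⁻¹, f.Kn y hyx t t.2⟩ := by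
        rw [hzc]
        change y * t * y⁻¹ * z = z * (y * t * y⁻¹)
        have htz := (hzc t).1 (hT t ht)
        calc y * t * y⁻¹ * z = y * t * y⁻¹ * (z * y) * y⁻¹ := by group
          _ = y * t * y⁻¹ * (y * z) * y⁻¹ := by rw [hyz]
          _ = y * (t * z) * y⁻¹ := by group
          _ = (y * z) * t * y⁻¹ := by rw [htz]; group
          _ = z * (y * t * y⁻¹) := by rw [hyz]; group
      by_contra h1
      have h2 := (hout _ hc h1).1
      have h3 : y * t * y⁻¹ * (y * t * y⁻¹) = 1 := congrArg Subtype.val h2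
      have h4 : (t : G) * t = 1 := by
        have h5 : y * ((t : G) * t) * y⁻¹ = 1 := by rw [← h3]; group
        rw [mul_inv_eq_one] at h5
        exact mul_eq_left.1 h5
      apply h1
      rcases huniq t ht (Subtype.ext h4) with h5 | h5
      · have h6 : (⟨y * t * y⁻¹, f.Kn y hyx t t.2⟩ : K) = 1 := by
          apply Subtype.ext
          change y * t * y⁻¹ = 1
          rw [h5, Subgroup.coe_one, mul_one, mul_inv_cancel]
        rw [h6]; exact one_mem _
      · have h6 : (⟨y * t * y⁻¹, f.Kn y hyx t t.2⟩ : K) = ⟨z, f.zK⟩ := by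
          apply Subtype.ext
          change y * t * y⁻¹ = z
          rw [h5]
          change y * z * y⁻¹ = z
          rw [hyz, mul_inv_cancel_right]
        rw [h6]; exact hzT
    -- (i) the 2-elements of `T`
    have h2T : ∀ j : ℕ, ∀ t : K, t ∈ T → t ^ 2 ^ j = 1 → y * (t : G) * y⁻¹ = t := by
      intro j
      induction j with
      | zero =>
        intro t _ h
        rw [pow_zero, pow_one] at h
        rw [h, Subgroup.coe_one, mul_one, mul_inv_cancel]
      | succ j ih =>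
        intro t ht h
        obtain ⟨t', ht', htt'⟩ := hTy t ht
        have h1 : y * ((t ^ 2 : K) : G) * y⁻¹ = (t ^ 2 : K) := ih (t ^ 2) (T.pow_mem ht _) (by
          rw [← pow_mul, ← pow_succ', h])
        have h3 : t' * t' = t * t := by
          apply Subtype.ext
          change (t' : G) * t' = t * t
          rw [htt']
          rw [Subgroup.coe_pow, sq] at h1
          rw [← h1]; group
        -- `m = t' t⁻¹` has order at most two
        have h4 : t' * t⁻¹ * (t' * t⁻¹) = 1 := by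
          have hc := hcomm t⁻¹ (T.inv_mem ht) t' ht'
          rw [mul_assoc, ← mul_assoc t⁻¹, hc, mul_assoc, ← mul_assoc t', h3]
          group
        have h5 : y * (t' * t⁻¹ : K) = (t' * t⁻¹ : K) * y := by
          rcases huniq _ (T.mul_mem ht' (T.inv_mem ht)) h4 with h6 | h6
          · rw [h6, Subgroup.coe_one, mul_one, one_mul]
          · rw [h6]; exact hyz
        have h6 := comm_eq_one (y := y) (v := (t : G)) (m := ((t' * t⁻¹ : K) : G)) (n := orderOf y)
          (j := 1) (pow_orderOf_eq_one y) hyo (by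
            rw [Subgroup.coe_mul, htt', Subgroup.coe_inv]) h5 (by
            rw [pow_one, sq]; exact congrArg Subtype.val h4)
        rw [Subgroup.coe_mul, Subgroup.coe_inv, mul_inv_eq_one, htt'] at h6
        exact h6
    have hTS : ∀ t : K, t ∈ T → (t : G) ∈ S := by
      intro t ht
      obtain ⟨k, m, hm, hkm⟩ := Nat.exists_eq_two_pow_mul_odd (orderOf_pos t).ne'
      have hcop : IsCoprime ((2 ^ k : ℕ) : ℤ) (m : ℤ) := by
        rw [Nat.isCoprime_iff_coprime]
        exact Nat.Coprime.pow_left k (Nat.coprime_two_left.2 hm)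
      obtain ⟨a, b, hab⟩ := hcop
      have h1 : t = (t ^ 2 ^ k) ^ a * (t ^ m) ^ b := by
        rw [← zpow_natCast t (2 ^ k), ← zpow_natCast t m, ← zpow_mul, ← zpow_mul, ← zpow_add,
          mul_comm _ a, mul_comm _ b, hab, zpow_one]
      have h2 : (((t ^ 2 ^ k : K) : K) : G) ∈ S := by
        apply hAS
        refine ⟨t ^ 2 ^ k, (hA _).2 ⟨hT _ (T.pow_mem ht _), ?_⟩, rfl⟩
        rw [orderOf_pow, hkm, Nat.gcd_eq_right (Dvd.intro _ rfl),
          Nat.mul_div_cancel_left _ (by positivity)]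
        exact hm
      have h3 : (((t ^ m : K) : K) : G) ∈ S := by
        have h4 := h2T k (t ^ m) (T.pow_mem ht _) (by
          rw [← pow_mul, mul_comm, ← hkm, pow_orderOf_eq_one])
        refine ⟨f.Kx _ (t ^ m).2, (hzc _).1 (hT _ (T.pow_mem ht _)), ?_⟩
        rw [h4, mul_inv_cancel]
        exact one_mem _
      rw [h1, Subgroup.coe_mul, Subgroup.coe_zpow, Subgroup.coe_zpow]
      exact S.mul_mem (S.zpow_mem h2 a) (S.zpow_mem h3 b)
    -- (ii) `C_K(z)`
    have hCK : ∀ k ∈ K, k * z = z * k → k ∈ S := by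
      intro k hk hkz
      by_cases hkT : (⟨k, hk⟩ : K) ∈ T
      · exact hTS _ hkT
      have hk' : y * k * y⁻¹ ∈ K := f.Kn y hyx k hk
      have hkz' : (y * k * y⁻¹) * z = z * (y * k * y⁻¹) := by
        calc y * k * y⁻¹ * z = y * k * y⁻¹ * (z * y) * y⁻¹ := by group
          _ = y * k * y⁻¹ * (y * z) * y⁻¹ := by rw [hyz]
          _ = y * (k * z) * y⁻¹ := by group
          _ = (y * z) * k * y⁻¹ := by rw [hkz]; group
          _ = z * (y * k * y⁻¹) := by rw [hyz]; group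
      have hT' : (⟨y * k * y⁻¹, hk'⟩ : K) ∉ T := by
        intro h
        apply hkT
        -- a power of `y` is `y⁻¹`
        have hpow : ∀ n : ℕ, ∀ t : K, t ∈ T → ∃ t' : K, t' ∈ T ∧ (t' : G) = y ^ n * t * (y ^ n)⁻¹ := by
          intro n
          induction n with
          | zero => intro t ht; exact ⟨t, ht, by simp⟩
          | succ n ih =>
            intro t ht
            obtain ⟨t', ht', e⟩ := ih t ht
            obtain ⟨t'', ht'', e'⟩ := hTy t' ht'
            exact ⟨t'', ht'', by rw [e', e, pow_succ']; group⟩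
        obtain ⟨t', ht', e⟩ := hpow (orderOf y - 1) _ h
        have h1 : y ^ (orderOf y - 1) = y⁻¹ := by
          rw [eq_inv_iff_mul_eq_one, ← pow_succ, Nat.sub_add_cancel (orderOf_pos y),
            pow_orderOf_eq_one]
        rw [h1] at e
        have h2 : t' = ⟨k, hk⟩ := by
          apply Subtype.ext
          rw [e]
          change y⁻¹ * (y * k * y⁻¹) * y⁻¹⁻¹ = k
          group
        rwa [← h2]
      have hk1 : k * k = 1 := congrArg Subtype.val (hout ⟨k, hk⟩ ((hzc _).2 hkz) hkT).1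
      have hki : k⁻¹ = k := inv_eq_of_mul_eq_one_left hk1
      have h1 : (⟨y * k * y⁻¹, hk'⟩ : K) * ⟨k, hk⟩ ∈ T :=
        hprod _ _ ((hzc _).2 hkz') hT' ((hzc _).2 hkz) hkT
      have h2 : y * k * y⁻¹ * k⁻¹ ∈ S := by
        rw [hki]
        exact hTS _ h1
      refine key k (f.Kx k hk) hkz h2 ?_
      rw [hki]
      exact hTpow _ h1
    -- (iii) `Q`: `y` centralises `Q`
    have hQx : ∀ q ∈ zpowers q₀, q * x = x * q := by
      intro q hq
      obtain ⟨k, rfl⟩ := mem_zpowers_iff.1 hq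
      exact ((show Commute q₀ x from f.Qx).zpow_left k)
    have hQK : ∀ q ∈ zpowers q₀, ∀ k ∈ K, q * k = k * q := by
      intro q hq k hk
      obtain ⟨i, rfl⟩ := mem_zpowers_iff.1 hq
      exact ((show Commute q₀ k from f.QK k hk).zpow_left i)
    have hyQ : ∀ q ∈ zpowers q₀, y * q * y⁻¹ ∈ zpowers q₀ := by
      intro q hq
      refine f.CK _ ?_ ?_
      · have h1 : ∀ u, u * x = x * u ↔ u ∈ centralizer ({x} : Set G) := fun u =>
          mem_centralizer_singleton_iff.symm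
        have h2 := hQx q hq
        rw [h1] at hyx h2 ⊢
        exact mul_mem (mul_mem hyx h2) (inv_mem hyx)
      · intro k hk
        have hyx' : y⁻¹ * x = x * y⁻¹ := by
          rw [inv_mul_eq_iff_eq_mul, ← mul_assoc, hyx, mul_inv_cancel_right]
        have h1 : y⁻¹ * k * y ∈ K := by
          have := f.Kn y⁻¹ hyx' k hk
          rwa [inv_inv] at this
        calc y * q * y⁻¹ * k = y * (q * (y⁻¹ * k * y)) * y⁻¹ := by group
          _ = y * ((y⁻¹ * k * y) * q) * y⁻¹ := by rw [hQK q hq _ h1]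
          _ = k * (y * q * y⁻¹) := by group
    have h2Q : ∀ j : ℕ, ∀ q ∈ zpowers q₀, q ^ 2 ^ j = 1 → y * q * y⁻¹ = q := by
      intro j
      induction j with
      | zero =>
        intro t _ h
        rw [pow_zero, pow_one] at h
        rw [h, mul_one, mul_inv_cancel]
      | succ j ih =>
        intro t ht h
        have h1 := ih (t ^ 2) (pow_mem ht 2) (by rw [← pow_mul, ← pow_succ', h])
        obtain ⟨t', ht'⟩ : ∃ t', t' = y * t * y⁻¹ := ⟨_, rfl⟩
        have ht'Q : t' ∈ zpowers q₀ := by rw [ht']; exact hyQ t ht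
        have hc : t⁻¹ * t' = t' * t⁻¹ := by
          obtain ⟨a, ha⟩ := mem_zpowers_iff.1 ((zpowers q₀).inv_mem ht)
          obtain ⟨b, hb⟩ := mem_zpowers_iff.1 ht'Q
          rw [← ha, ← hb, ← zpow_add, ← zpow_add, add_comm]
        have h3 : t' * t' = t * t := by
          rw [ht']
          rw [sq] at h1
          rw [← h1]; group
        have h4 : t' * t⁻¹ * (t' * t⁻¹) = 1 := by
          rw [mul_assoc, ← mul_assoc t⁻¹, hc, mul_assoc, ← mul_assoc t', h3]
          group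
        have h5 : y * (t' * t⁻¹) = (t' * t⁻¹) * y := by
          rcases f.Qi _ (mul_mem ht'Q (inv_mem ht)) h4 with h6 | h6
          · rw [h6, mul_one, one_mul]
          · rw [h6]; exact hyx
        have h6 := comm_eq_one (y := y) (v := t) (m := t' * t⁻¹) (n := orderOf y)
          (j := 1) (pow_orderOf_eq_one y) hyo (by rw [ht']) h5 (by rw [pow_one, sq, h4])
        rw [ht', mul_inv_eq_one] at h6
        exact h6
    obtain ⟨nQ, hnQ⟩ := f.Q2
    have hQpow : ∀ q ∈ zpowers q₀, q ^ 2 ^ nQ = 1 := by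
      intro q hq
      obtain ⟨k, rfl⟩ := mem_zpowers_iff.1 hq
      rw [← zpow_natCast, ← zpow_mul, mul_comm, zpow_mul, zpow_natCast, hnQ, one_zpow]
    have hQS : ∀ q ∈ zpowers q₀, q ∈ S := by
      intro q hq
      refine ⟨hQx q hq, hQK q hq z f.zK, ?_⟩
      rw [h2Q nQ q hq (hQpow q hq), mul_inv_cancel]
      exact one_mem _
    -- elements acting on `K` as an inner automorphism
    have hinn : ∀ v (hvx : v * x = x * v), v * z = z * v → act K v (f.norm hvx) ∈ L2Aut.Inn K →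
        v ∈ S ∧ ∃ j : ℕ, v ^ 2 ^ j ∈ A := by
      rintro v hvx hvz ⟨k, hk⟩
      have hk1 : ∀ l : K, (k : G) * l * (k : G)⁻¹ = v * l * v⁻¹ := fun l => by
        have h1 : act K v (f.norm hvx) l = k * l * k⁻¹ := by rw [← hk]; rfl
        exact (congrArg Subtype.val h1).symm
      have hkz : (k : G) * z = z * k := by
        have h1 := hk1 ⟨z, f.zK⟩
        change (k : G) * z * (k : G)⁻¹ = v * z * v⁻¹ at h1
        rw [hvz, mul_inv_cancel_right] at h1
        exact mul_inv_eq_iff_eq_mul.1 h1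
      have hkx := f.Kx k k.2
      have h2 : (k : G)⁻¹ * v ∈ zpowers q₀ := by
        refine f.CK _ ?_ ?_
        · calc (k : G)⁻¹ * v * x = (k : G)⁻¹ * (x * v) := by rw [mul_assoc, hvx]
            _ = (k : G)⁻¹ * (x * k) * (k : G)⁻¹ * v := by group
            _ = (k : G)⁻¹ * (k * x) * (k : G)⁻¹ * v := by rw [hkx]
            _ = x * ((k : G)⁻¹ * v) := by group
        · intro l hl
          have h3 := hk1 ⟨l, hl⟩
          change (k : G) * l * (k : G)⁻¹ = v * l * v⁻¹ at h3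
          calc (k : G)⁻¹ * v * l = (k : G)⁻¹ * (v * l * v⁻¹) * v := by group
            _ = (k : G)⁻¹ * (k * l * (k : G)⁻¹) * v := by rw [h3]
            _ = l * ((k : G)⁻¹ * v) := by group
      obtain ⟨j, hj⟩ := hCKpow k k.2 hkz
      obtain ⟨q, hq⟩ : ∃ q, q = (k : G)⁻¹ * v := ⟨_, rfl⟩
      rw [← hq] at h2
      have h3 : v = k * q := by rw [hq, mul_inv_cancel_left]
      rw [h3]
      refine ⟨S.mul_mem (hCK k k.2 hkz) (hQS q h2), j + nQ, ?_⟩
      rw [(show Commute (k : G) q from (hQK q h2 k k.2).symm).mul_pow]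
      have h4 : q ^ 2 ^ (j + nQ) = 1 := by
        rw [pow_add, mul_comm, pow_mul, hQpow q h2, one_pow]
      rw [h4, mul_one, pow_add, pow_mul]
      exact A.pow_mem hj _
    have hactc : ∀ v w (hvx : v * x = x * v) (hwx : w * x = x * w)
        (hm : (v * w * v⁻¹ * w⁻¹) * x = x * (v * w * v⁻¹ * w⁻¹)),
        act K (v * w * v⁻¹ * w⁻¹) (f.norm hm) = act K v (f.norm hvx) * act K w (f.norm hwx) *
          (act K v (f.norm hvx))⁻¹ * (act K w (f.norm hwx))⁻¹ := by
      intro v w hvx hwx hm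
      have hinv : ∀ u (hu : u * x = x * u), (act K u (f.norm hu))⁻¹ =
          act K u⁻¹ ((normalizer (K : Set G)).inv_mem (f.norm hu)) := by
        intro u hu
        rw [inv_eq_iff_mul_eq_one, act_mul, act_one_iff]
        intro l _
        rw [mul_inv_cancel, one_mul, mul_one]
      rw [hinv v hvx, hinv w hwx, act_mul, act_mul, act_mul]
    have hcx : ∀ v, v * x = x * v → (y * v * y⁻¹ * v⁻¹) * x = x * (y * v * y⁻¹ * v⁻¹) := by
      intro v hvx
      have h1 : ∀ u, u * x = x * u ↔ u ∈ centralizer ({x} : Set G) := fun u =>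
        mem_centralizer_singleton_iff.symm
      rw [h1] at hvx hyx ⊢
      exact mul_mem (mul_mem (mul_mem hyx hvx) (inv_mem hyx)) (inv_mem hvx)
    have hcz : ∀ v, v * z = z * v → (y * v * y⁻¹ * v⁻¹) * z = z * (y * v * y⁻¹ * v⁻¹) := by
      intro v hvz
      have h1 : ∀ u, u * z = z * u ↔ u ∈ centralizer ({z} : Set G) := fun u =>
        mem_centralizer_singleton_iff.symm
      rw [h1] at hvz hyz ⊢
      exact mul_mem (mul_mem (mul_mem hyz hvz) (inv_mem hyz)) (inv_mem hvz)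
    -- (iv) elements acting on `K` as elements of `PGL`
    have hpgl : ∀ v (hvx : v * x = x * v), v * z = z * v → act K v (f.norm hvx) ∈ R.PGL → v ∈ S := by
      intro v hvx hvz hv
      have h1 : act K (y * v * y⁻¹ * v⁻¹) (f.norm (hcx v hvx)) ∈ L2Aut.Inn K := by
        rw [hactc y v hyx hvx (hcx v hvx)]
        set α := act K y (f.norm hyx)
        set β := act K v (f.norm hvx)
        by_cases hβ : β ∈ L2Aut.Inn K
        · have h2 : α * β * α⁻¹ ∈ L2Aut.Inn K := by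
            obtain ⟨l, hl⟩ := hβ
            rw [← hl, L2Aut.conj_conj]
            exact ⟨_, rfl⟩
          exact mul_mem h2 (inv_mem hβ)
        · refine R.mul_mem_inn ((inferInstance : R.PGL.Normal).conj_mem _ hv α) ?_ (inv_mem hv) (fun h => hβ (inv_mem_iff.1 h))
          intro h
          apply hβ
          obtain ⟨l, hl⟩ := h
          have h2 : β = α⁻¹ * MulAut.conj l * α⁻¹⁻¹ := by
            rw [show MulAut.conj l = α * β * α⁻¹ from hl]; group
          rw [h2, L2Aut.conj_conj]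
          exact ⟨_, rfl⟩
      obtain ⟨h2, j, hj⟩ := hinn _ (hcx v hvx) (hcz v hvz) h1
      exact key v hvx hvz h2 ⟨j, hj⟩
    -- (v) the general case
    have h1 : act K (y * w * y⁻¹ * w⁻¹) (f.norm (hcx w hwx)) ∈ R.PGL := by
      rw [hactc y w hyx hwx (hcx w hwx), R.mem_PGL_iff_fld, map_mul, map_mul, map_mul, map_inv, map_inv,
        Cfsg.Agent.Lib.AutSL2Out.ringEquiv_comm (R.fld (act K y (f.norm hyx))), mul_inv_cancel_right,
        mul_inv_cancel]
    have h2 := hpgl _ (hcx w hwx) (hcz w hwz) h1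
    have h3 : ∃ j : ℕ, (y * w * y⁻¹ * w⁻¹) ^ 2 ^ j ∈ A := by
      obtain ⟨m, hm⟩ : ∃ m, m = y * w * y⁻¹ * w⁻¹ := ⟨_, rfl⟩
      have hmx : m * x = x * m := by rw [hm]; exact hcx w hwx
      have hmz : m * z = z * m := by rw [hm]; exact hcz w hwz
      have h4 : act K m (f.norm hmx) ∈ R.PGL := by
        rw [act_congr (f.norm hmx) (f.norm (hcx w hwx)) hm]; exact h1
      have hm2x : m * m * x = x * (m * m) := by rw [mul_assoc, hmx, ← mul_assoc, hmx, mul_assoc]
      have hm2z : m * m * z = z * (m * m) := by rw [mul_assoc, hmz, ← mul_assoc, hmz, mul_assoc]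
      have h5 : act K (m * m) (f.norm hm2x) ∈ L2Aut.Inn K := by
        have h6 : act K (m * m) (f.norm hm2x) = act K m (f.norm hmx) * act K m (f.norm hmx) :=
          (act_mul _ _).symm
        rw [h6]
        by_cases hi : act K m (f.norm hmx) ∈ L2Aut.Inn K
        · exact mul_mem hi hi
        · exact R.mul_mem_inn h4 hi h4 hi
      obtain ⟨-, j, hj⟩ := hinn _ hm2x hm2z h5
      refine ⟨j + 1, ?_⟩
      rw [← hm, pow_succ', pow_mul, sq]
      exact hj
    exact (key w hwx hwz h2 h3).2.2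

end FrQ

namespace Fr

variable {G : Type*} [Group G] [Finite G] {x z : G} {K : Subgroup G} (f : Fr x z K)

include f

theorem norm {c : G} (hc : c * x = x * c) : c ∈ normalizer (K : Set G) := mem_norm_of (f.Kn c hc)

omit [Finite G] in
theorem zx : z * x = x * z := f.Kx z f.zK

theorem exists_A {F : Type*} [Field F] [Finite F] (R : L2Aut.Rep F K) :
    ∃ (A : Subgroup G), (∀ a, a ∈ A ↔ a ∈ K ∧ a * z = z * a ∧ Odd (orderOf a)) ∧
      (∃ g ∈ A, ∀ a ∈ A, a ∈ zpowers g) ∧ Odd (Nat.card A) ∧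
      (∃ v ∈ K, v * z = z * v ∧ v * v = 1 ∧ v ≠ z ∧ v ≠ 1 ∧ ∀ a ∈ A, v * a * v⁻¹ = a⁻¹) ∧
      (∀ y v, y * x = x * y → v * x = x * v → y * z = z * y → v * z = z * v → Odd (orderOf y) →
        y * v * y⁻¹ * v⁻¹ ∈ A) := f.toQ.exists_A R

end Fr

end Cfsg.Agent.OddHalf.D6
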