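import Cfsg.Agent.OddHalf.CaseM.RankOne
import Cfsg.Agent.Cit.Comp
import Cfsg.Agent.SignalizersComponents.PConstrained
import Cfsg.Agent.SignalizersComponents.ComponentExists

/-!
# ODD half, D6, q = 3: step (2)

`X` a finite group (`= C_G(z)`), `z` a central involution, `t ≠ z` an involution of `X`, `hN`: every normal subgroup
of `C_X(t)` which does not contain `z` lies in `{1, z, t, tz}`. If `z ∉ E(X)`, then `X` has no component
(`no_component`), and `C_X(O₂(X)) ≤ O₂(X)` if moreover `O(X) = 1` (`constrained`).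

`comp`: without `z ∉ E(X)`: every component `M` with `C_M(t) ⊆ {1, z, t, tz}` has `z` as its only involution.
-/

set_option autoImplicit false

namespace Cfsg.Agent.OddHalf.D6.CoreTwo

open Subgroup Cfsg
open Cfsg.Agent.SignalizersComponents.Components
open Cfsg.Agent.Cit (cj mem_cj conj_mem_cj)

variable {X : Type*} [Group X] {z t : X}

/-- a component moved by `t` has a non-abelian diagonal subgroup centralised by `t` -/
theorem cj_eq_of_small [Finite X] (htt : t * t = 1) (hzc : ∀ x, x * z = z * x)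
    {M : Subgroup X} (hM : IsComponent M)
    (hC : ∀ x ∈ layer X, x * t = t * x → x = 1 ∨ x = z ∨ x = t ∨ x = t * z) : cj t M = M := by
  by_contra hne
  obtain ⟨D, hD1, hD2, -, hD3, -⟩ := Cfsg.Agent.Cit.Comp.exists_diag hM htt hne
  apply quasisimple_not_isMulCommutative hD3
  have hDl : D ≤ layer X := hD2.trans
    (sup_le (component_le_layer hM) (component_le_layer (Cfsg.Agent.Cit.Comp.isComponent_cj hM t)))
  have h4 : ∀ d ∈ D, d = 1 ∨ d = z ∨ d = t ∨ d = t * z := fun d hd =>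
    hC d (hDl hd) (mem_centralizer_singleton_iff.1 (hD1 hd))
  have hct : ∀ d ∈ D, d * t = t * d := fun d hd => mem_centralizer_singleton_iff.1 (hD1 hd)
  refine ⟨⟨fun a b => Subtype.ext ?_⟩⟩
  have ha := hct a a.2
  have haz := hzc (a : X)
  show (a : X) * b = b * a
  rcases h4 b b.2 with h | h | h | h
  · rw [h, mul_one, one_mul]
  · rw [h]; exact haz
  · rw [h]; exact ha
  · rw [h, ← mul_assoc, ha, mul_assoc, haz, mul_assoc]

/-- a component `M` with `C_M(t) ⊆ {1, z, t, tz}` has `z` as its only involution -/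
theorem comp [Finite X] (hzz : z * z = 1) (hz1 : z ≠ 1) (htt : t * t = 1) (ht1 : t ≠ 1) (htz : t ≠ z)
    (hzc : ∀ x, x * z = z * x) {M : Subgroup X} (hM : IsComponent M) (hev : 2 ∣ Nat.card M)
    (hMt : cj t M = M) (hC : ∀ x ∈ M, x * t = t * x → x = 1 ∨ x = z ∨ x = t ∨ x = t * z) :
    z ∈ M ∧ ∀ v ∈ M, v * v = 1 → v = 1 ∨ v = z := by
  refine CaseM.unique_involution hzz hz1 htt ht1 htz hzc hM hev (fun x hx => ?_) hC
  have := conj_mem_cj (g := t) hx
  rwa [hMt] at this

/-- **step (2)** -/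
theorem no_component [Finite X] (hzz : z * z = 1) (hz1 : z ≠ 1) (htt : t * t = 1) (ht1 : t ≠ 1) (htz : t ≠ z)
    (hzc : ∀ x, x * z = z * x) (hev : ∀ M : Subgroup X, IsComponent M → 2 ∣ Nat.card M)
    (hN : ∀ A : Subgroup X, (∀ a ∈ A, a * t = t * a) →
      (∀ x, x * t = t * x → ∀ a ∈ A, x * a * x⁻¹ ∈ A) → z ∉ A →
      ∀ a ∈ A, a = 1 ∨ a = z ∨ a = t ∨ a = t * z)
    (hzE : z ∉ layer X) (M : Subgroup X) : ¬ IsComponent M := by
  intro hM
  have hL : ∀ x : X, ∀ a ∈ layer X, x * a * x⁻¹ ∈ layer X := fun x a ha =>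
    (layer_normal X).conj_mem a ha x
  have hC : ∀ x ∈ layer X, x * t = t * x → x = 1 ∨ x = z ∨ x = t ∨ x = t * z := by
    intro x hx hxt
    refine hN (layer X ⊓ centralizer ({t} : Set X))
      (fun a ha => mem_centralizer_singleton_iff.1 ha.2) (fun x hx a ha => ⟨hL x a ha.1, ?_⟩)
      (fun h => hzE h.1) x ⟨hx, mem_centralizer_singleton_iff.2 hxt⟩
    have h1 : x ∈ centralizer ({t} : Set X) := mem_centralizer_singleton_iff.2 hx
    exact (centralizer ({t} : Set X)).mul_mem ((centralizer ({t} : Set X)).mul_mem h1 ha.2)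
      ((centralizer ({t} : Set X)).inv_mem h1)
  have h1 := comp hzz hz1 htt ht1 htz hzc hM (hev M hM) (cj_eq_of_small htt hzc hM hC)
    (fun x hx => hC x (component_le_layer hM hx))
  exact hzE (component_le_layer hM h1.1)

/-- **step (2)**: `C_X(O₂(X)) ≤ O₂(X)` -/
theorem constrained [Finite X] (hzz : z * z = 1) (hz1 : z ≠ 1) (htt : t * t = 1) (ht1 : t ≠ 1) (htz : t ≠ z)
    (hzc : ∀ x, x * z = z * x) (hev : ∀ M : Subgroup X, IsComponent M → 2 ∣ Nat.card M)
    (hO : pPrimeCore 2 X = ⊥)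
    (hN : ∀ A : Subgroup X, (∀ a ∈ A, a * t = t * a) →
      (∀ x, x * t = t * x → ∀ a ∈ A, x * a * x⁻¹ ∈ A) → z ∉ A →
      ∀ a ∈ A, a = 1 ∨ a = z ∨ a = t ∨ a = t * z)
    (hzE : z ∉ layer X) : centralizer (pCore 2 X : Set X) ≤ pCore 2 X := by
  have : Fact (Nat.Prime 2) := ⟨Nat.prime_two⟩
  rw [Cfsg.Agent.SignalizersComponents.PConstrained.centralizer_pCore_le_iff_layer_eq_bot 2 hO,
    Cfsg.Agent.SignalizersComponents.ComponentExists.layer_eq_bot_iff]
  exact no_component hzz hz1 htt ht1 htz hzc hev hN hzE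

end Cfsg.Agent.OddHalf.D6.CoreTwo
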