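import Cfsg.Agent.OddHalf.D6.FieldInv

/-!
# ODD D6, `K = L₂(q)`, `|Q| = 2`: the field involution centralizing `D` (helper708)
-/

set_option autoImplicit false

namespace Cfsg.Agent.OddHalf.D6

open Subgroup Cfsg.Agent.GH Cfsg.Agent.GH.L2Aut

variable {G : Type*} [Group G]

/-- two 2-groups, one normalizing the other -/
theorem isPGroup_sup {A B : Subgroup G} (hA : IsPGroup 2 A) (hB : IsPGroup 2 B)
    (h : B ≤ normalizer (A : Set G)) : IsPGroup 2 (A ⊔ B : Subgroup G) := by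
  rw [sup_comm]
  exact IsPGroup.to_sup_of_normal_right' hB hA h

theorem isPGroup_zp {y : G} (h : ∃ n, y ^ 2 ^ n = 1) : IsPGroup 2 (zpowers y) :=
  TypeA.isPGroup_zpowers h

namespace Setup

variable {x : G} {K T : Subgroup G}

/-- a field involution of `C(x)/⟨x⟩` in `T` centralizing `T ∩ K` -/
theorem exists_field [Finite G] (S : Setup x K T) {F : Type*} [Field F] [Finite F]
    (R : L2Aut.Rep F K) (h : ∃ t ∈ T, ∃ α, Acts K t α ∧ α * α = 1 ∧ R.fld α ≠ 1) :
    ∃ f ∈ T, ∃ α, Acts K f α ∧ α * α = 1 ∧ R.fld α ≠ 1 ∧ ∀ d ∈ T, d ∈ K → f * d = d * f := by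
  obtain ⟨t, ht, α, hα, hαα, hfα⟩ := h
  obtain ⟨P, hP⟩ := S.sylK
  obtain ⟨Q, hQ⟩ := R.ftype_syl (fun h1 => hfα (R.mem_PGL_iff_fld.1 h1)) hαα
  -- the 2-group generated by `Q` and `t`
  have hQt : ∀ q ∈ (Q : Subgroup K), t * (q : G) = q * t := fun q hq =>
    hα.comm_of_fix (hQ q hq)
  have hQ2 : IsPGroup 2 ((Q : Subgroup K).map K.subtype) := Q.isPGroup'.map _
  have hU : IsPGroup 2 ((Q : Subgroup K).map K.subtype ⊔ zpowers t : Subgroup G) := by
    refine isPGroup_sup hQ2 (isPGroup_zp (pow_of_mem S.pT ht)) ?_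
    rw [zpowers_le]
    refine mem_normalizer_fintype ?_
    rintro _ ⟨q, hq, rfl⟩
    refine ⟨q, hq, ?_⟩
    show (q : G) = t * q * t⁻¹
    rw [hQt q hq]; group
  obtain ⟨g, hg, hgU⟩ := S.syl _ hU (by
    have h5 : (Q : Subgroup K).map K.subtype ⊔ zpowers t ≤ centralizer ({x} : Set G) := by
      refine sup_le ?_ ?_
      · rintro _ ⟨q, -, rfl⟩
        exact mem_centralizer_singleton_iff.2 (S.Kx q q.2)
      · rw [zpowers_le]
        exact mem_centralizer_singleton_iff.2 (S.cx t ht)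
    intro y hy
    exact mem_centralizer_singleton_iff.1 (h5 hy))
  obtain ⟨γ, hγ⟩ := S.acts hg
  refine ⟨g * t * g⁻¹, hgU t (mem_sup_right (mem_zpowers t)), γ * α * γ⁻¹,
    (hγ.mul hα).mul hγ.inv, ?_, ?_, ?_⟩
  · rw [show γ * α * γ⁻¹ * (γ * α * γ⁻¹) = γ * (α * α) * γ⁻¹ by group, hαα]; group
  · intro h1
    apply hfα
    rw [map_mul, map_mul, map_inv, mul_inv_eq_one] at h1
    exact mul_eq_left.1 h1
  · -- `T ∩ K` is the conjugate of `Q`
    have hsub : ((Q : Subgroup K).map γ.toMonoidHom) = (P : Subgroup K) := by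
      have h1 : (Q : Subgroup K).map γ.toMonoidHom ≤ (P : Subgroup K) := by
        rintro _ ⟨q, hq, rfl⟩
        rw [hP, mem_subgroupOf]
        have h2 := hγ q
        show ((γ q : K) : G) ∈ T
        rw [h2]
        exact hgU _ (mem_sup_left ⟨q, hq, rfl⟩)
      apply Subgroup.eq_of_le_of_card_ge h1
      have h3 : Nat.card ((Q : Subgroup K).map γ.toMonoidHom) = Nat.card (Q : Subgroup K) :=
        Nat.card_congr ((Q : Subgroup K).equivMapOfInjective γ.toMonoidHom γ.injective).symm.toEquiv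
      rw [h3, Q.card_eq_multiplicity, P.card_eq_multiplicity]
    intro d hd hdK
    have h4 : (⟨d, hdK⟩ : K) ∈ (Q : Subgroup K).map γ.toMonoidHom := by
      rw [hsub, hP]; exact hd
    obtain ⟨q, hq, hqd⟩ := h4
    have h5 : g * (q : G) * g⁻¹ = d := by
      have h6 := hγ q
      rw [← h6]
      exact congrArg Subtype.val hqd
    rw [← h5]
    calc g * t * g⁻¹ * (g * q * g⁻¹) = g * (t * q) * g⁻¹ := by group
      _ = g * (q * t) * g⁻¹ := by rw [hQt q hq]
      _ = g * q * g⁻¹ * (g * t * g⁻¹) := by group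

end Setup

end Cfsg.Agent.OddHalf.D6
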