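import Cfsg.Agent.OddHalf.D6.FieldInvD
import Cfsg.Agent.OddHalf.D6.BalG
import Cfsg.Agent.OddHalf.D6.Beta

/-!
# ODD D6, `K = L₂(q)`, `|Q| = 2`, `q ≠ 9`: the end (helper708)

`main2`: `x` an involution of the finite group `G` without homomorphism onto `{±1}`, of sectional 2-rank at least 5,
`K ≅ PSL(2,F)` normal in `C(x)` with `C_{C(x)}(K) = {1, x}`, `|F| ≠ 9`; all involution centralizers have trivial core
and only components `PSL(2,F')`, `F'` of odd characteristic. Contradiction.
-/

set_option autoImplicit false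

namespace Cfsg.Agent.OddHalf.D6

open Subgroup Cfsg.Agent.GH Cfsg.Agent.GH.L2Aut

variable {G : Type*} [Group G]

theorem Setup.toFr {x z : G} {K T : Subgroup G} (S : Setup x K T) (zK : z ∈ K) (zz : z * z = 1)
    (z1 : z ≠ 1) : Fr x z K :=
  ⟨S.xx, S.Kx, S.Kn, S.CK, zK, zz, z1⟩

/-- type (a) -/
theorem false_of_typeA [Finite G] {x z f c r w a : G} {K T L : Subgroup G} {F : Type} [Field F]
    [Finite F] {R : L2Aut.Rep F K} (S : Setup x K T) (D : FData x z f c r K T R)
    (O : TypeA.Over x z T K L w) (hwT : w ∈ T)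
    (hw : ∀ c, c * x = x * c → c * z = z * c → c * w = w * c)
    (haK : a ∈ K) (haz : a * z = z * a) (hao : Odd (orderOf a)) (ha1 : a ≠ 1)
    (hfa : f * a * f⁻¹ = a⁻¹) : False := by
  have haw := hw a (S.Kx a haK) haz
  have hcen : ∀ t ∈ T, w * t = t * w := fun t ht => (hw t (S.cx t ht) (D.cz t ht)).symm
  obtain ⟨e, he, hwe⟩ := D.CD w hwT (fun d hd _ => hcen d hd)
  have hea : e * a = a * e := by
    have h1 := S.Kx a haK
    rcases he with rfl | rfl | rfl | rfl
    · rw [mul_one, one_mul]
    · exact h1.symm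
    · exact haz.symm
    · rw [mul_assoc, ← haz, ← mul_assoc, ← h1, mul_assoc]
  rcases hwe with rfl | rfl
  · have hz : w ≠ z := by
      rintro rfl
      exact O.w1 (O.center O.wL (fun m hm => (O.Lz m hm).symm))
    rcases he with h | h | h | h
    · exact O.w1 h
    · exact (D.base S).false_of_over O (Or.inl h)
    · exact hz h
    · exact (D.base S).false_of_over O (Or.inr h)
  · have h1 : a = a⁻¹ := by
      calc a = (f * e) * a * (f * e)⁻¹ := by rw [← haw]; group
        _ = f * (e * a * e⁻¹) * f⁻¹ := by group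
        _ = f * a * f⁻¹ := by rw [hea]; group
        _ = a⁻¹ := hfa
    have h2 : a * a = 1 := by nth_rw 2 [h1]; exact mul_inv_cancel a
    have h3 : orderOf a ∣ 2 := orderOf_dvd_of_pow_eq_one (by rw [pow_two]; exact h2)
    rcases (Nat.dvd_prime Nat.prime_two).1 h3 with h4 | h4
    · exact ha1 (orderOf_eq_one_iff.1 h4)
    · rw [h4] at hao; exact absurd hao (by decide)

/-- `x` acts on a component of `C(z)` as an element of `PGL(2,F)` -/
theorem fld_of_comp [Finite G] {x z : G} {K : Subgroup G} {F : Type*} [Field F] [Finite F]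
    {R : L2Aut.Rep F K} (fr : Fr x z K) {L : Subgroup G} (hL : Comp z L) {F' : Type*}
    [Field F'] [Finite F'] (RL : L2Aut.Rep F' L) {φ : MulAut L}
    (hφ : ∀ l : L, ((φ l : L) : G) = x * l * x⁻¹) : RL.fld φ = 1 := by
  have B := fr.toQ.bal R (hz_self (x := x) (z := z))
  by_contra h
  have hφφ : φ * φ = 1 := by
    ext l
    rw [MulAut.mul_apply, hφ, hφ, MulAut.one_apply]
    have hx : x⁻¹ = x := inv_eq_of_mul_eq_one_left fr.xx
    rw [hx]
    calc x * (x * l * x) * x = (x * x) * l * (x * x) := by group
      _ = l := by rw [fr.xx]; group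
  obtain ⟨a, b, y, hab, ha, hb, hy, hyyy, hya⟩ := RL.field_four (fun h1 => h (RL.mem_PGL_iff_fld.1 h1)) hφφ
  have hc : ∀ l : L, φ l = l → (l : G) * x = x * l := by
    intro l hl
    have h1 := hφ l
    rw [hl] at h1
    nth_rw 1 [h1]; group
  have hz : ∀ l : L, (l : G) ∈ centralizer ({z} : Set G) := fun l => mem_cent.2 (hL.comm l l.2)
  have e1 : (y : G) * y * y = 1 := congrArg Subtype.val hyyy
  have e2 : (y : G) * a * (y : G)⁻¹ = b := congrArg Subtype.val hya
  have e3 : (a : G) * a = 1 := congrArg Subtype.val hab.aa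
  have e4 : (b : G) * b = 1 := congrArg Subtype.val hab.bb
  have e5 : (a : G) * b = b * a := congrArg Subtype.val hab.comm
  have h2 := B.no_four (a := ⟨a, hz a⟩) (b := ⟨b, hz b⟩) (y := ⟨y, hz y⟩)
    (Subtype.ext (hc y hy)) (Subtype.ext (hc a ha)) (Subtype.ext e1) (Subtype.ext e2)
    (Subtype.ext e3) (Subtype.ext e4) (Subtype.ext e5)
  have h3 : (a : G) = b := congrArg (fun t : ↥(centralizer ({z} : Set G)) => (t : G)) h2
  exact hab.ne (Subtype.ext h3)

/-- **|Q| = 2** -/
theorem main2 [Finite G] (hG : ∀ (φ : G →* ℤˣ) (u : G), φ u = 1)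
    (h5 : ¬ SectionalPRankLE 2 4 G) {x : G} {K T : Subgroup G} (S : Setup x K T) {F : Type}
    [Field F] [Finite F] (R : L2Aut.Rep F K) (hF : Nat.card F ≠ 9)
    (hW : ∀ u : G, u * u = 1 → u ≠ 1 → World u) : False := by
  have hfield : ∃ t ∈ T, ∃ α, Acts K t α ∧ α * α = 1 ∧ R.fld α ≠ 1 := by
    by_contra h
    push Not at h
    exact h5 (S.harada R h)
  obtain ⟨z, f, c, r, D⟩ := S.exists_fdata R hfield
  have fr := S.toFr D.zK D.zz D.z1
  have W := hW z D.zz D.z1
  obtain ⟨a, haK, haz, hap, hao, hfa⟩ := D.exists_inv S hF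
  have ha1 : a ≠ 1 := by
    rintro rfl
    rw [orderOf_one] at hap
    exact Nat.not_prime_one hap
  have haA : a ∈ A0 z K := (fr.toQ.mem_A0 R).2 ⟨haK, haz, hao⟩
  obtain ⟨L, hL, haL⟩ := fr.toQ.exists_comp R hz_self W haA hap
  rcases fr.toQ.types_over R W hL haA haL ha1 S.pT S.cx D.cz (fun P hP hTP h => S.max hP hTP h) with
    ⟨w, O, hwT, hw⟩ | ⟨v, -, -, -, -, -, -, -, hout⟩
  · exact false_of_typeA S D O hwT hw haK haz hao ha1 hfa
  · obtain ⟨F', _, _, ⟨RL⟩⟩ := W.comp L hL
    have hF9 : 9 < Nat.card F := by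
      obtain ⟨α, hα⟩ := S.acts (S.cx f D.fT)
      obtain ⟨hαα, hαf⟩ := D.ftype α hα
      obtain ⟨K₀, hK₀, hcard⟩ := L2Aut.exists_fixed_field (R.fld α)
      have h2 : orderOf (R.fld α) = 2 := by
        apply orderOf_eq_prime
        · rw [pow_two, ← map_mul, hαα, map_one]
        · exact hαf
      rw [h2] at hcard
      have h3 := Lib.PSL2Torus.odd_card R.two
      have h4 : 1 < Nat.card F := Finite.one_lt_card
      set k := Nat.card K₀
      rw [hcard] at h3 h4 hF ⊢
      have h5 : k % 2 = 1 := by
        by_contra h6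
        have h7 : k % 2 = 0 := by omega
        have h8 : k ^ 2 % 2 = 0 := by rw [pow_two, Nat.mul_mod, h7]
        omega
      have h6 : k ≠ 1 := by
        intro h7
        rw [h7] at h4
        norm_num at h4
      have h7 : k ≠ 3 := by
        intro h7
        rw [h7] at hF
        norm_num at hF
      have h8 : 5 ≤ k := by omega
      nlinarith
    have BD : Beta.BData x z f c T K L R RL :=
      { hF := hF9
        xx := S.xx
        zz := D.zz
        z1 := D.z1
        xT := S.xT
        zK := D.zK
        cx := S.cx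
        cz := D.cz
        pT := S.pT
        max := fun P hP hTP h => S.max hP hTP h
        Kx := S.Kx
        Kn := S.Kn
        CK := S.CK
        fx := S.cx f D.fT
        fK := fun φ hφ => (D.ftype φ hφ).2
        Z := by
          intro t ht hcen
          obtain ⟨e, he, hte⟩ := D.CD t ht (fun d hd _ => (hcen d hd).symm)
          rcases hte with rfl | rfl
          · exact Or.inl he
          · right
            rw [← mul_assoc]
            rcases D.ff with h1 | h1
            · rw [h1, one_mul]; exact he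
            · rw [h1]
              rcases he with rfl | rfl | rfl | rfl
              · right; left; rw [mul_one]
              · left; exact S.xx
              · right; right; right; rfl
              · right; right; left
                rw [← mul_assoc, S.xx, one_mul]
        cT := D.cT
        zc := D.zc
        inv := by
          intro b v hbo hbx hbz hvx hvz hvb
          have h1 := (fr.toQ.A0_data R).2.2.2.2 b v hbx hvx hbz hvz hbo
          have h2 : b * v * b⁻¹ * v⁻¹ = b * b := by
            have h3 : v * b⁻¹ * v⁻¹ = b := by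
              have h4 := congrArg (fun y => y⁻¹) hvb
              simp only [mul_inv_rev, inv_inv] at h4
              rw [← mul_assoc] at h4
              exact h4
            calc b * v * b⁻¹ * v⁻¹ = b * (v * b⁻¹ * v⁻¹) := by group
              _ = b * b := by rw [h3]
          rw [h2] at h1
          have h3 := mem_of_sq_mem h1 hbo
          exact D.codd b ((fr.toQ.mem_A0 R).1 h3).1 hbz hbo
        Lz := hL.comm
        TL := fun t ht => fr.toQ.norm_comp R hz_self W hL haA haL ha1 (S.cx t ht) (D.cz t ht)
        hL := by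
          obtain ⟨L', hL', rfl⟩ := hL
          rw [Subgroup.subgroupOf,
            Subgroup.comap_map_eq_self_of_injective (centralizer ({z} : Set G)).subtype_injective]
          exact hL'
        out := by
          intro φ hφ
          have h1 := fld_of_comp (R := R) fr hL RL hφ
          by_contra h2
          have h3 : RL.o1 φ = 1 := by
            rcases Int.units_eq_one_or (RL.o1 φ) with h3 | h3
            · exact h3
            · exact absurd h3 h2
          obtain ⟨w, hw⟩ := RL.mem_inn_iff.2 ⟨h1, h3⟩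
          refine hout ⟨w, w.2, fun l hl => ?_⟩
          have h4 := hφ ⟨l, hl⟩
          rw [← hw] at h4
          exact h4.symm
        b := ⟨a, haL, ha1, hao, S.Kx a haK⟩ }
    exact BD.absurd_of hG

end Cfsg.Agent.OddHalf.D6
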