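import Cfsg.Agent.OddHalf.D6.AutFix
import Cfsg.Agent.GH.L2AutOut

/-!
# Involutory automorphisms `α` of `L ≅ PSL(2,F)` with `o1 α = -1` (PGL type) (ODD D6, helper446)

* `pgl_of` : `α ∈ PGL ∖ Inn`;
* `mul_self_of_fix` : a 2-element `γ` commuting with `α` and fixing an element `b ≠ 1` of odd order with
  `α b = b` has square one;
* `no_perfect` : `α` fixes no nontrivial perfect subgroup elementwise;
* `exists_fix_involution`, `exists_inv` : an involution fixed by `α` inverts all elements of odd order fixed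
  by `α`;
* `exists_fix_conj` : transport of fixed elements between two such `α`.
* `eq_one_of_sub` : an automorphism of odd order fixing elementwise the subfield subgroup of a field
  automorphism of order two is the identity.
-/

set_option autoImplicit false

namespace Cfsg.Agent.OddHalf.D6.PglType

open Cfsg.Agent.GH.L2Aut Cfsg.Agent.Lib.SL2Mat

theorem pow_two_pow {G : Type*} [Monoid G] {g : G} {n : ℕ} (h : g ^ 2 ^ n = 1) {m : ℕ} (hm : n ≤ m) :
    g ^ 2 ^ m = 1 := by
  obtain ⟨k, rfl⟩ := Nat.exists_eq_add_of_le hm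
  rw [pow_add, pow_mul, h, one_pow]

theorem eq_one_of_odd_two {G : Type*} [Group G] {g : G} (h : ∃ n, g ^ 2 ^ n = 1) (ho : Odd (orderOf g)) :
    g = 1 := by
  obtain ⟨n, hn⟩ := h
  obtain ⟨k, -, hk⟩ := (Nat.dvd_prime_pow Nat.prime_two).1 (orderOf_dvd_of_pow_eq_one hn)
  rcases Nat.eq_zero_or_pos k with rfl | hk0
  · rw [pow_zero] at hk; exact orderOf_eq_one_iff.1 hk
  · exfalso
    rw [hk] at ho
    exact (Nat.not_even_iff_odd.2 ho) ⟨2 ^ (k - 1), by rw [← two_mul, ← pow_succ']; congr 1; omega⟩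

theorem eq_one_of_odd_sq {G : Type*} [Group G] {g : G} (h : g * g = 1) (ho : Odd (orderOf g)) :
    g = 1 := eq_one_of_odd_two ⟨1, by rw [pow_one, pow_two, h]⟩ ho

/-- an element of odd order that is inverted and fixed by something is trivial -/
theorem eq_one_of_eq_inv {G : Type*} [Group G] {b : G} (h : b = b⁻¹) (ho : Odd (orderOf b)) : b = 1 :=
  eq_one_of_odd_sq (by nth_rw 1 [h]; exact inv_mul_cancel b) ho

variable {F : Type*} [Field F] [Finite F] {L : Type*} [Group L] (R : Cfsg.Agent.GH.L2Aut.Rep F L)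

/-- an involutory automorphism with `o1 = -1` is of PGL type -/
theorem pgl_of {α : MulAut L} (h : α * α = 1) (ho : R.o1 α = -1) : α ∈ R.PGL ∧ α ∉ Inn L := by
  constructor
  · rw [R.mem_PGL_iff_fld]
    by_contra hf
    have h1 := R.o1_of_sq h hf
    rw [ho] at h1
    exact absurd h1 (by decide)
  · intro hI
    have h1 := (R.mem_inn_iff.1 hI).2
    rw [ho] at h1
    exact absurd h1 (by decide)

theorem ne_one {α : MulAut L} (ho : R.o1 α = -1) : α ≠ 1 := by
  rintro rfl
  rw [map_one] at ho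
  exact absurd ho (by decide)

/-- a 2-element commuting with `α` (PGL type) and fixing an odd element `b ≠ 1` fixed by `α` has square one -/
theorem mul_self_of_fix {α : MulAut L} (h : α * α = 1) (ho : R.o1 α = -1) {b : L} (hb1 : b ≠ 1)
    (hbo : Odd (orderOf b)) (hb : α b = b) {γ : MulAut L} (hγ2 : ∃ n, γ ^ 2 ^ n = 1)
    (hγα : γ * α = α * γ) (hγb : γ b = b) : γ * γ = 1 := by
  obtain ⟨hα, hαI⟩ := pgl_of R h ho
  obtain ⟨A, hA, hαA, hcomm, huniq, hcov⟩ := R.inv_cent hα (ne_one R ho) h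
  have hbA : MulAut.conj b ∈ A := by
    rcases hcov (MulAut.conj b) (R.conj_mem_PGL b) (by rw [Cfsg.Agent.GH.L2Aut.Rep.conj_comm_iff, hb]) with h1 | ⟨h1, -⟩
    · exact h1
    · exfalso
      apply hb1
      apply eq_one_of_odd_sq _ hbo
      apply R.conj_injective
      rw [map_mul, h1, map_one]
  -- an element of `PGL` commuting with `α`, fixing `b`, lies in `A`; its square is one if it is a 2-element
  have key : ∀ δ : MulAut L, δ ∈ R.PGL → δ * α = α * δ → δ b = b → δ ∈ A := by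
    intro δ hδ hδα hδb
    rcases hcov δ hδ hδα with h1 | ⟨-, h1⟩
    · exact h1
    · exfalso
      have h2 := h1 _ hbA
      have h3 : δ * MulAut.conj b * δ⁻¹ = MulAut.conj b := by
        rw [conj_conj, hδb]
      rw [h3] at h2
      apply hb1
      apply eq_one_of_eq_inv _ hbo
      apply R.conj_injective
      rw [map_inv]
      exact h2
  -- a 2-element of `A` which is inner is trivial
  have key2 : ∀ δ : MulAut L, δ ∈ A → R.o1 δ = 1 → (∃ n, δ ^ 2 ^ n = 1) → δ = 1 := by
    intro δ hδA hδo hδ2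
    by_contra hne
    -- a power of `δ` is an involution
    obtain ⟨n, hn⟩ := hδ2
    classical
    have hex : ∃ n, δ ^ 2 ^ n = 1 := ⟨n, hn⟩
    have hm := Nat.find_spec hex
    have hmin : ∀ k, k < Nat.find hex → δ ^ 2 ^ k ≠ 1 := fun k hk => Nat.find_min hex hk
    have h0 : Nat.find hex ≠ 0 := by
      intro h0
      rw [h0, pow_zero, pow_one] at hm
      exact hne hm
    obtain ⟨k, hk⟩ := Nat.exists_eq_succ_of_ne_zero h0
    have h1 : δ ^ 2 ^ k ≠ 1 := hmin k (by omega)
    have h2 : δ ^ 2 ^ k * δ ^ 2 ^ k = 1 := by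
      rw [← pow_add, ← two_mul, ← pow_succ', ← Nat.succ_eq_add_one, ← hk]; exact hm
    rcases huniq _ (A.pow_mem hδA _) h2 with h3 | h3
    · exact h1 h3
    · have h4 : R.o1 (δ ^ 2 ^ k) = 1 := by rw [map_pow, hδo, one_pow]
      rw [h3, ho] at h4
      exact absurd h4 (by decide)
  have hfix_pow : ∀ k : ℕ, (γ ^ k) b = b := by
    intro k
    induction k with
    | zero => rw [pow_zero]; rfl
    | succ k ih => rw [pow_succ, MulAut.mul_apply, hγb, ih]
  have hcomm_pow : ∀ k : ℕ, γ ^ k * α = α * γ ^ k := fun k => (Commute.pow_left hγα k)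
  -- `fld γ = 1`
  have hfld : R.fld γ = 1 := by
    by_contra hf
    obtain ⟨n, hn⟩ := hγ2
    classical
    have hex : ∃ n, R.fld γ ^ 2 ^ n = 1 := ⟨n, by rw [← map_pow, hn, map_one]⟩
    have hm := Nat.find_spec hex
    have hmin : ∀ k, k < Nat.find hex → R.fld γ ^ 2 ^ k ≠ 1 := fun k hk => Nat.find_min hex hk
    have h0 : Nat.find hex ≠ 0 := by
      intro h0
      rw [h0, pow_zero, pow_one] at hm
      exact hf hm
    obtain ⟨k, hk⟩ := Nat.exists_eq_succ_of_ne_zero h0
    set δ := γ ^ 2 ^ k with hδ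
    have h1 : R.fld δ ≠ 1 := by rw [hδ, map_pow]; exact hmin k (by omega)
    have h2 : R.fld (δ * δ) = 1 := by
      rw [hδ, ← pow_add, ← two_mul, ← pow_succ', ← Nat.succ_eq_add_one, ← hk, map_pow]; exact hm
    have h3 : δ * δ ∈ A := by
      apply key _ (R.mem_PGL_iff_fld.2 h2)
      · rw [mul_assoc, hδ, hcomm_pow, ← mul_assoc, hcomm_pow, mul_assoc]
      · rw [MulAut.mul_apply, hδ, hfix_pow, hfix_pow]
    have h4 : R.o1 (δ * δ) = 1 := by
      rw [map_mul]
      rcases Int.units_eq_one_or (R.o1 δ) with h5 | h5 <;> rw [h5] <;> decide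
    have h5 : δ * δ = 1 := by
      apply key2 _ h3 h4
      refine ⟨n, ?_⟩
      have : (δ * δ) ^ 2 ^ n = (γ ^ 2 ^ n) ^ (2 ^ k + 2 ^ k) := by
        rw [hδ, ← pow_add, ← pow_mul, ← pow_mul, mul_comm]
      rw [this, hn, one_pow]
    have h6 := R.o1_of_comm h5 h1 (γ := α) (by rw [hδ]; exact (hcomm_pow _).symm)
    rw [ho] at h6
    exact absurd h6 (by decide)
  have hγA : γ ∈ A := key γ (R.mem_PGL_iff_fld.2 hfld) hγα hγb
  apply key2 _ (A.mul_mem hγA hγA)
  · rw [map_mul]
    rcases Int.units_eq_one_or (R.o1 γ) with h5 | h5 <;> rw [h5] <;> decide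
  · obtain ⟨n, hn⟩ := hγ2
    refine ⟨n, ?_⟩
    have : (γ * γ) ^ 2 ^ n = (γ ^ 2 ^ n) ^ 2 := by
      rw [← pow_two, ← pow_mul, ← pow_mul, mul_comm]
    rw [this, hn, one_pow]

/-- the fixed points of `α` (PGL type), normalised: an abelian `B` of odd order, inverted by the
remaining fixed points, which are involutions; and one of these -/
theorem fix_data {α : MulAut L} (h : α * α = 1) (ho : R.o1 α = -1) :
    ∃ (B : Subgroup L) (v : L), (∀ x ∈ B, ∀ y ∈ B, x * y = y * x) ∧
      (∀ x ∈ B, x * x = 1 → x = 1) ∧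
      (∀ x, α x = x → x ∈ B ∨ (x * x = 1 ∧ ∀ y ∈ B, x * y * x⁻¹ = y⁻¹)) ∧
      (∀ x y, α x = x → α y = y → x ∉ B → y ∉ B → x * y ∈ B) ∧
      α v = v ∧ v * v = 1 ∧ v ∉ B := by
  obtain ⟨hα, hαI⟩ := pgl_of R h ho
  obtain ⟨B, v, -, h2, h3, h4, h5, h6⟩ := R.cent_data hα (ne_one R ho) h
  refine ⟨B, v, h2, fun x hx hxx => ?_, h4, h5, h6⟩
  rcases h3 x hx hxx with h7 | h7
  · exact h7
  · exact absurd ⟨x, h7⟩ hαI

/-- `α` fixes an involution -/
theorem exists_fix_involution {α : MulAut L} (h : α * α = 1) (ho : R.o1 α = -1) :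
    ∃ v : L, α v = v ∧ v * v = 1 ∧ v ≠ 1 := by
  obtain ⟨B, v, -, -, -, -, h1, h2, h3⟩ := fix_data R h ho
  exact ⟨v, h1, h2, fun hv => h3 (by rw [hv]; exact one_mem _)⟩

/-- fixed involutions invert fixed elements of odd order -/
theorem inverts {α : MulAut L} (h : α * α = 1) (ho : R.o1 α = -1) {v b : L} (hv : α v = v)
    (hvv : v * v = 1) (hv1 : v ≠ 1) (hb : α b = b) (hbo : Odd (orderOf b)) : v * b * v⁻¹ = b⁻¹ := by
  obtain ⟨B, -, -, h2, h3, -, -, -, -⟩ := fix_data R h ho
  have hvB : v ∉ B := fun hvB => hv1 (h2 v hvB hvv)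
  rcases h3 b hb with hbB | ⟨hbb, -⟩
  · rcases h3 v hv with h4 | ⟨-, h4⟩
    · exact absurd h4 hvB
    · exact h4 b hbB
  · rw [eq_one_of_odd_sq hbb hbo]
    group

/-- two fixed involutions whose product has 2-power order are equal -/
theorem eq_of_two {α : MulAut L} (h : α * α = 1) (ho : R.o1 α = -1) {v w : L} (hv : α v = v)
    (hvv : v * v = 1) (hv1 : v ≠ 1) (hw : α w = w) (hww : w * w = 1) (hw1 : w ≠ 1)
    (h2 : ∃ n, (v * w) ^ 2 ^ n = 1) : v = w := by
  have := R.finite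
  obtain ⟨B, -, hcomm, h3, -, h5, -, -, -⟩ := fix_data R h ho
  have hvB : v ∉ B := fun hvB => hv1 (h3 v hvB hvv)
  have hwB : w ∉ B := fun hwB => hw1 (h3 w hwB hww)
  have hB := h5 v w hv hw hvB hwB
  have hodd : ∀ n : ℕ, (v * w) ^ 2 ^ n = 1 → v * w = 1 := by
    intro n
    induction n with
    | zero => intro h; rwa [pow_zero, pow_one] at h
    | succ n ih =>
      intro h
      apply ih
      apply h3 _ (B.pow_mem hB _)
      rw [← pow_add, ← two_mul, ← pow_succ']
      exact h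
  obtain ⟨n, hn⟩ := h2
  have h6 := hodd n hn
  calc v = v * (w * w) := by rw [hww, mul_one]
    _ = w := by rw [← mul_assoc, h6, one_mul]

/-- `α` fixes no nontrivial perfect subgroup elementwise -/
theorem no_perfect {α : MulAut L} (h : α * α = 1) (ho : R.o1 α = -1) {M : Subgroup L}
    (hM : ∀ m ∈ M, α m = m) (hp : M ≤ ⁅M, M⁆) : M = ⊥ := by
  obtain ⟨B, -, hcomm, h2, h3, h4, -, -, -⟩ := fix_data R h ho
  have hMB : M ≤ B := by
    refine hp.trans ?_
    rw [Subgroup.commutator_le]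
    intro x hx y hy
    rw [commutatorElement_def]
    by_cases hxB : x ∈ B
    · by_cases hyB : y ∈ B
      · have h5 : x * y * x⁻¹ * y⁻¹ = 1 := by
          rw [hcomm x hxB y hyB]
          group
        rw [h5]
        exact one_mem _
      · rcases h3 y (hM y hy) with h5 | ⟨h5, h6⟩
        · exact absurd h5 hyB
        · have h7 := h6 x hxB
          have h8 : y * x⁻¹ * y⁻¹ = x := by
            have h9 : y * x⁻¹ * y⁻¹ = (y * x * y⁻¹)⁻¹ := by group
            rw [h9, h7, inv_inv]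
          have h9 : x * y * x⁻¹ * y⁻¹ = x * x := by
            have h10 : x * y * x⁻¹ * y⁻¹ = x * (y * x⁻¹ * y⁻¹) := by group
            rw [h10, h8]
          rw [h9]
          exact mul_mem hxB hxB
    · rcases h3 x (hM x hx) with h5 | ⟨h5, h6⟩
      · exact absurd h5 hxB
      by_cases hyB : y ∈ B
      · rw [h6 y hyB]
        exact mul_mem (inv_mem hyB) (inv_mem hyB)
      · have h7 := h4 x y (hM x hx) (hM y hy) hxB hyB
        have h8 := h4 y x (hM y hy) (hM x hx) hyB hxB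
        have h9 : x * y * x⁻¹ * y⁻¹ = (x * y) * (y * x)⁻¹ := by group
        rw [h9]
        exact mul_mem h7 (inv_mem h8)
  have h5 : ⁅M, M⁆ = ⊥ := by
    rw [eq_bot_iff, Subgroup.commutator_le]
    intro x hx y hy
    rw [Subgroup.mem_bot, commutatorElement_eq_one_iff_mul_comm]
    exact hcomm x (hMB hx) y (hMB hy)
  rw [h5] at hp
  exact le_bot_iff.1 hp

/-- transport of a fixed element from one `α` of PGL type to another one -/
theorem exists_fix_conj {α α' : MulAut L} (h : α * α = 1) (ho : R.o1 α = -1) (h' : α' * α' = 1)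
    (ho' : R.o1 α' = -1) {b : L} (hb : α b = b) : ∃ y : L, α' (y * b * y⁻¹) = y * b * y⁻¹ := by
  obtain ⟨hα, hαI⟩ := pgl_of R h ho
  obtain ⟨hα', hαI'⟩ := pgl_of R h' ho'
  obtain ⟨y, hy⟩ := R.dtype_conj hα hαI h hα' hαI' h'
  refine ⟨y, ?_⟩
  rw [← hy]
  show (MulAut.conj y * α * (MulAut.conj y)⁻¹) (y * b * y⁻¹) = _
  rw [MulAut.mul_apply, MulAut.mul_apply, ← map_inv, MulAut.conj_apply, MulAut.conj_apply]
  have h1 : y⁻¹ * (y * b * y⁻¹) * y⁻¹⁻¹ = b := by group
  rw [h1, hb]

end Cfsg.Agent.OddHalf.D6.PglType
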