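import Mathlib
import Cfsg.Agent.GH.L2One.AutPslMain
import Cfsg.Agent.GH.L2AutF
import Cfsg.Agent.OddHalf.D6.FieldFacts

/-!
# ODD D6, `K = L₂(q)`, `|Q| = 2`: the setup (helper708)

`Setup x K T`: `x` is an involution, `K ⊴ C(x)`, `C_{C(x)}(K) = {1, x}`, `T` is a Sylow 2-subgroup of `C(x)`.

`Acts K g α`: `g` induces the automorphism `α` on `K`.
-/

set_option autoImplicit false

namespace Cfsg.Agent.OddHalf.D6

open Subgroup Cfsg.Agent.GH Cfsg.Agent.GH.L2Aut

/-- `g` induces the automorphism `α` on `K` -/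
def Acts {G : Type*} [Group G] (K : Subgroup G) (g : G) (α : MulAut K) : Prop :=
  ∀ k : K, ((α k : K) : G) = g * k * g⁻¹

/-- The setup. -/
structure Setup {G : Type*} [Group G] (x : G) (K T : Subgroup G) : Prop where
  xx : x * x = 1
  x1 : x ≠ 1
  Kx : ∀ k ∈ K, k * x = x * k
  Kn : ∀ c, c * x = x * c → ∀ k ∈ K, c * k * c⁻¹ ∈ K
  CK : ∀ c, c * x = x * c → (∀ k ∈ K, c * k = k * c) → c = 1 ∨ c = x
  pT : IsPGroup 2 T
  cx : ∀ t ∈ T, t * x = x * t
  /-- `T` is a Sylow 2-subgroup of `C(x)` -/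
  syl : ∀ P : Subgroup G, IsPGroup 2 P → (∀ y ∈ P, y * x = x * y) →
    ∃ g, g * x = x * g ∧ ∀ y ∈ P, g * y * g⁻¹ ∈ T

variable {G : Type*} [Group G]

namespace Acts

variable {K : Subgroup G} {g h : G} {α β : MulAut K}

theorem unique (h1 : Acts K g α) (h2 : Acts K g β) : α = β := by
  ext k
  rw [h1 k, h2 k]

theorem one : Acts K 1 1 := fun k => by simp

theorem mul (h1 : Acts K g α) (h2 : Acts K h β) : Acts K (g * h) (α * β) := by
  intro k
  rw [MulAut.mul_apply, h1, h2]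
  group

theorem inv (h1 : Acts K g α) : Acts K g⁻¹ α⁻¹ := by
  intro k
  have h2 := h1 (α⁻¹ k)
  rw [MulAut.apply_inv_self] at h2
  rw [h2]; group

theorem pow (h1 : Acts K g α) (n : ℕ) : Acts K (g ^ n) (α ^ n) := by
  induction n with
  | zero => rw [pow_zero, pow_zero]; exact one
  | succ n ih => rw [pow_succ, pow_succ]; exact ih.mul h1

theorem conj {k : G} (hk : k ∈ K) : Acts K k (MulAut.conj ⟨k, hk⟩) := fun _ => rfl

/-- elements acting trivially centralize `K` -/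
theorem comm (h1 : Acts K g 1) : ∀ k ∈ K, g * k = k * g := by
  intro k hk
  have h2 : k = g * k * g⁻¹ := h1 ⟨k, hk⟩
  nth_rw 2 [h2]; group

theorem one_of_comm (h : ∀ k ∈ K, g * k = k * g) : Acts K g 1 := by
  intro k
  show (k : G) = g * k * g⁻¹
  rw [h k k.2]; group

theorem fix (h1 : Acts K g α) {k : K} (h2 : g * k = k * g) : α k = k :=
  Subtype.ext (by rw [h1, h2]; group)

theorem comm_of_fix (h1 : Acts K g α) {k : K} (h2 : α k = k) : g * k = k * g := by
  have h3 := h1 k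
  rw [h2] at h3
  nth_rw 2 [h3]; group

end Acts

/-- the action of an element normalizing `K` -/
theorem exists_acts {K : Subgroup G} {g : G} (h1 : ∀ k ∈ K, g * k * g⁻¹ ∈ K)
    (h2 : ∀ k ∈ K, g⁻¹ * k * g ∈ K) : ∃ α, Acts K g α :=
  ⟨{ toFun := fun k => ⟨g * k * g⁻¹, h1 k k.2⟩
     invFun := fun k => ⟨g⁻¹ * k * g, h2 k k.2⟩
     left_inv := fun k => Subtype.ext (by show g⁻¹ * (g * (k : G) * g⁻¹) * g = k; group)
     right_inv := fun k => Subtype.ext (by show g * (g⁻¹ * (k : G) * g) * g⁻¹ = k; group)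
     map_mul' := fun a b => Subtype.ext (by
      show g * ((a : G) * b) * g⁻¹ = g * a * g⁻¹ * (g * b * g⁻¹)
      group) }, fun _ => rfl⟩

namespace Setup

variable {x : G} {K T : Subgroup G}

theorem xinv (S : Setup x K T) : x⁻¹ = x := inv_eq_of_mul_eq_one_right S.xx

/-- elements of `C(x)` act on `K` -/
theorem acts (S : Setup x K T) {c : G} (hc : c * x = x * c) : ∃ α, Acts K c α := by
  refine exists_acts (S.Kn c hc) ?_
  intro k hk
  have h1 : c⁻¹ * x = x * c⁻¹ := by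
    rw [inv_mul_eq_iff_eq_mul, ← mul_assoc, hc, mul_assoc, mul_inv_cancel, mul_one]
  have := S.Kn c⁻¹ h1 k hk
  rwa [inv_inv] at this

theorem ker (S : Setup x K T) {c : G} (hc : c * x = x * c) (h1 : Acts K c 1) : c = 1 ∨ c = x :=
  S.CK c hc h1.comm

theorem eq_or (S : Setup x K T) {c d : G} (hc : c * x = x * c) (hd : d * x = x * d) {α : MulAut K}
    (h1 : Acts K c α) (h2 : Acts K d α) : c = d ∨ c = d * x := by
  have h3 : Acts K (d⁻¹ * c) 1 := by
    have := h2.inv.mul h1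
    rwa [inv_mul_cancel] at this
  have h4 : d⁻¹ * c * x = x * (d⁻¹ * c) := by
    have h5 : d⁻¹ * x = x * d⁻¹ := by
      rw [inv_mul_eq_iff_eq_mul, ← mul_assoc, hd, mul_assoc, mul_inv_cancel, mul_one]
    rw [mul_assoc, hc, ← mul_assoc, h5, mul_assoc]
  rcases S.ker h4 h3 with h | h
  · left
    rw [inv_mul_eq_one] at h
    exact h.symm
  · right
    rw [inv_mul_eq_iff_eq_mul] at h
    exact h

theorem xT (S : Setup x K T) : x ∈ T := by
  have h1 : IsPGroup 2 (zpowers x) := by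
    rw [IsPGroup.iff_orderOf]
    rintro ⟨y, hy⟩
    obtain ⟨i, rfl⟩ := mem_zpowers_iff.1 hy
    have h2 : orderOf (⟨x ^ i, hy⟩ : zpowers x) ∣ 2 ^ 1 := by
      apply orderOf_dvd_of_pow_eq_one
      apply Subtype.ext
      show (x ^ i) ^ (2 ^ 1) = 1
      rw [pow_one, pow_two, ← zpow_add, ← two_mul, zpow_mul]
      rw [show (x : G) ^ (2 : ℤ) = x * x from zpow_two x, S.xx, one_zpow]
    obtain ⟨k, -, hk⟩ := (Nat.dvd_prime_pow Nat.prime_two).1 h2
    exact ⟨k, hk⟩
  obtain ⟨g, hg, h⟩ := S.syl (zpowers x) h1 (by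
    intro y hy
    obtain ⟨i, rfl⟩ := mem_zpowers_iff.1 hy
    rw [← zpow_add_one, ← zpow_one_add, add_comm])
  have h2 := h x (mem_zpowers x)
  rw [hg, mul_assoc, mul_inv_cancel, mul_one] at h2
  exact h2

theorem comm_inv {c : G} (hc : c * x = x * c) : c⁻¹ * x = x * c⁻¹ := by
  rw [inv_mul_eq_iff_eq_mul, ← mul_assoc, hc, mul_assoc, mul_inv_cancel, mul_one]

theorem comm_mul {c d : G} (hc : c * x = x * c) (hd : d * x = x * d) : c * d * x = x * (c * d) := by
  rw [mul_assoc, hd, ← mul_assoc, hc, mul_assoc]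

/-- a 2-group in `C(x)` containing `T` is `T` -/
theorem max [Finite G] (S : Setup x K T) {P : Subgroup G} (hP : IsPGroup 2 P) (hTP : T ≤ P)
    (h : ∀ y ∈ P, y * x = x * y) : P ≤ T := by
  obtain ⟨g, -, hg⟩ := S.syl P hP h
  have h1 : Nat.card P ≤ Nat.card T := by
    refine Nat.card_le_card_of_injective (fun y : P => (⟨g * y * g⁻¹, hg y y.2⟩ : T)) ?_
    intro a b hab
    have := congrArg Subtype.val hab
    exact Subtype.ext (mul_left_cancel (mul_right_cancel this))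
  exact (Subgroup.eq_of_le_of_card_ge hTP h1).ge

/-- a 2-element of `C(x)` normalizing `T` is in `T` -/
theorem mem_of_norm [Finite G] (S : Setup x K T) {y : G} (h2 : ∃ n, y ^ 2 ^ n = 1)
    (hy : y * x = x * y) (hn : ∀ t ∈ T, y * t * y⁻¹ ∈ T) : y ∈ T := by
  have hy' : zpowers y ≤ normalizer (T : Set G) := by
    rw [zpowers_le]
    exact mem_normalizer_fintype hn
  have hp : IsPGroup 2 (zpowers y) := by
    obtain ⟨n, hn⟩ := h2
    rintro ⟨a, ha⟩
    obtain ⟨i, rfl⟩ := mem_zpowers_iff.1 ha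
    refine ⟨n, Subtype.ext ?_⟩
    show (y ^ i) ^ (2 ^ n) = 1
    rw [← zpow_natCast (y ^ i), ← zpow_mul, mul_comm, zpow_mul, zpow_natCast, hn, one_zpow]
  have h3 : IsPGroup 2 (T ⊔ zpowers y : Subgroup G) := by
    rw [sup_comm]
    exact IsPGroup.to_sup_of_normal_right' hp S.pT hy'
  have h4 := S.max h3 le_sup_left (by
    have h5 : T ⊔ zpowers y ≤ centralizer ({x} : Set G) := by
      refine sup_le (fun t ht => mem_centralizer_singleton_iff.2 (S.cx t ht)) ?_
      rw [zpowers_le]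
      exact mem_centralizer_singleton_iff.2 hy
    intro t ht
    exact mem_centralizer_singleton_iff.1 (h5 ht))
  exact h4 (mem_sup_right (mem_zpowers y))

end Setup

end Cfsg.Agent.OddHalf.D6
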