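import Cfsg.Agent.OddHalf.D6.FieldInvC
import Cfsg.Agent.OddHalf.D6.CentRes

/-!
# ODD D6, `K = L₂(q)`, `Q = C_{C(x)}(K) = ⟨q₀⟩` cyclic: the setup (helper419)

`SetupQ x q₀ K T`: `x` is an involution, `K ⊴ C(x)`, `C_{C(x)}(K) = ⟨q₀⟩` is a cyclic 2-group containing `x`,
`T` is a Sylow 2-subgroup of `C(x)`. (After helper708's `Setup`.)
-/

set_option autoImplicit false

namespace Cfsg.Agent.OddHalf.D6

open Subgroup Cfsg.Agent.GH Cfsg.Agent.GH.L2Aut

/-- The setup with `Q = ⟨q₀⟩`. -/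
structure SetupQ {G : Type*} [Group G] (x q₀ : G) (K T : Subgroup G) : Prop where
  xx : x * x = 1
  x1 : x ≠ 1
  Kx : ∀ k ∈ K, k * x = x * k
  Kn : ∀ c, c * x = x * c → ∀ k ∈ K, c * k * c⁻¹ ∈ K
  Qx : q₀ * x = x * q₀
  QK : ∀ k ∈ K, q₀ * k = k * q₀
  Q2 : ∃ n, q₀ ^ 2 ^ n = 1
  Qi : ∀ q ∈ zpowers q₀, q * q = 1 → q = 1 ∨ q = x
  CK : ∀ c, c * x = x * c → (∀ k ∈ K, c * k = k * c) → c ∈ zpowers q₀
  pT : IsPGroup 2 T
  cx : ∀ t ∈ T, t * x = x * t
  /-- `T` is a Sylow 2-subgroup of `C(x)` -/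
  syl : ∀ P : Subgroup G, IsPGroup 2 P → (∀ y ∈ P, y * x = x * y) →
    ∃ g, g * x = x * g ∧ ∀ y ∈ P, g * y * g⁻¹ ∈ T

variable {G : Type*} [Group G]

namespace SetupQ

variable {x q₀ : G} {K T : Subgroup G}

/-- elements of `C(x)` act on `K` -/
theorem acts (S : SetupQ x q₀ K T) {c : G} (hc : c * x = x * c) : ∃ α, Acts K c α := by
  refine exists_acts (S.Kn c hc) ?_
  intro k hk
  have := S.Kn c⁻¹ (Setup.comm_inv hc) k hk
  rwa [inv_inv] at this

theorem ker (S : SetupQ x q₀ K T) {c : G} (hc : c * x = x * c) (h1 : Acts K c 1) :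
    c ∈ zpowers q₀ := S.CK c hc h1.comm

/-- `Q` centralizes `x` -/
theorem q_comm (S : SetupQ x q₀ K T) {q : G} (hq : q ∈ zpowers q₀) : q * x = x * q := by
  obtain ⟨i, rfl⟩ := mem_zpowers_iff.1 hq
  exact ((show Commute q₀ x from S.Qx).zpow_left i).eq

/-- `Q` centralizes `K` -/
theorem q_commK (S : SetupQ x q₀ K T) {q : G} (hq : q ∈ zpowers q₀) : ∀ k ∈ K, q * k = k * q := by
  intro k hk
  obtain ⟨i, rfl⟩ := mem_zpowers_iff.1 hq
  exact ((show Commute q₀ k from S.QK k hk).zpow_left i).eq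

/-- `Q ⊴ C(x)` -/
theorem q_norm (S : SetupQ x q₀ K T) {c q : G} (hc : c * x = x * c) (hq : q ∈ zpowers q₀) :
    c * q * c⁻¹ ∈ zpowers q₀ := by
  refine S.CK _ (Setup.comm_mul (Setup.comm_mul hc (S.q_comm hq)) (Setup.comm_inv hc)) ?_
  intro k hk
  have h1 : c⁻¹ * k * c ∈ K := by
    have := S.Kn c⁻¹ (Setup.comm_inv hc) k hk
    rwa [inv_inv] at this
  have h2 := S.q_commK hq _ h1
  calc c * q * c⁻¹ * k = c * (q * (c⁻¹ * k * c)) * c⁻¹ := by group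
    _ = c * (c⁻¹ * k * c * q) * c⁻¹ := by rw [h2]
    _ = k * (c * q * c⁻¹) := by group

theorem pQ (S : SetupQ x q₀ K T) : IsPGroup 2 (zpowers q₀) := TypeA.isPGroup_zpowers S.Q2

/-- `Q ≤ T` -/
theorem qT (S : SetupQ x q₀ K T) {q : G} (hq : q ∈ zpowers q₀) : q ∈ T := by
  obtain ⟨g, hg, h⟩ := S.syl _ S.pQ (fun y hy => S.q_comm hy)
  have h1 : g⁻¹ * q * g ∈ zpowers q₀ := by
    have := S.q_norm (Setup.comm_inv hg) hq
    rwa [inv_inv] at this
  have h2 := h _ h1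
  rwa [show g * (g⁻¹ * q * g) * g⁻¹ = q by group] at h2

/-- `x ∈ Q` -/
theorem xQ (S : SetupQ x q₀ K T) : x ∈ zpowers q₀ :=
  S.CK x rfl fun k hk => (S.Kx k hk).symm

theorem xT (S : SetupQ x q₀ K T) : x ∈ T := S.qT S.xQ

/-- a 2-group in `C(x)` containing `T` is `T` -/
theorem max [Finite G] (S : SetupQ x q₀ K T) {P : Subgroup G} (hP : IsPGroup 2 P) (hTP : T ≤ P)
    (h : ∀ y ∈ P, y * x = x * y) : P ≤ T := by
  obtain ⟨g, -, hg⟩ := S.syl P hP h
  have h1 : Nat.card P ≤ Nat.card T := by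
    refine Nat.card_le_card_of_injective (fun y : P => (⟨g * y * g⁻¹, hg y y.2⟩ : T)) ?_
    intro a b hab
    have := congrArg Subtype.val hab
    exact Subtype.ext (mul_left_cancel (mul_right_cancel this))
  exact (Subgroup.eq_of_le_of_card_ge hTP h1).ge

/-- a 2-element of `C(x)` normalizing `T` is in `T` -/
theorem mem_of_norm [Finite G] (S : SetupQ x q₀ K T) {y : G} (h2 : ∃ n, y ^ 2 ^ n = 1)
    (hy : y * x = x * y) (hn : ∀ t ∈ T, y * t * y⁻¹ ∈ T) : y ∈ T := by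
  have hy' : zpowers y ≤ normalizer (T : Set G) := by
    rw [zpowers_le]
    exact mem_normalizer_fintype hn
  have h3 : IsPGroup 2 (T ⊔ zpowers y : Subgroup G) := isPGroup_sup S.pT (isPGroup_zpowers h2) hy'
  have h4 := S.max h3 le_sup_left (by
    have h5 : T ⊔ zpowers y ≤ centralizer ({x} : Set G) := by
      refine sup_le (fun t ht => mem_centralizer_singleton_iff.2 (S.cx t ht)) ?_
      rw [zpowers_le]
      exact mem_centralizer_singleton_iff.2 hy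
    intro t ht
    exact mem_centralizer_singleton_iff.1 (h5 ht))
  exact h4 (mem_sup_right (mem_zpowers y))

/-- `T ∩ K` is a Sylow 2-subgroup of `K` -/
theorem sylK [Finite G] (S : SetupQ x q₀ K T) :
    ∃ P : Sylow 2 K, (P : Subgroup K) = T.subgroupOf K := by
  have h2 : IsPGroup 2 (T.subgroupOf K) := by
    have h3 : IsPGroup 2 ((T.subgroupOf K).map K.subtype) := by
      refine S.pT.to_le ?_
      rintro _ ⟨y, hy, rfl⟩
      exact hy
    exact IsPGroup.of_injective h3 ((T.subgroupOf K).equivMapOfInjective K.subtype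
      K.subtype_injective).toMonoidHom (MulEquiv.injective _)
  obtain ⟨P, hP⟩ := h2.exists_le_sylow
  refine ⟨P, (Subgroup.eq_of_le_of_card_ge hP ?_).symm⟩
  have h3 : IsPGroup 2 ((P : Subgroup K).map K.subtype) := P.isPGroup'.map _
  obtain ⟨g, hg, h⟩ := S.syl _ h3 (by
    rintro _ ⟨y, -, rfl⟩
    exact S.Kx y y.2)
  refine Nat.card_le_card_of_injective
    (fun y : (P : Subgroup K) => (⟨⟨g * ((y : K) : G) * g⁻¹, S.Kn g hg _ (y : K).2⟩,
      mem_subgroupOf.2 (h _ ⟨y, y.2, rfl⟩)⟩ : T.subgroupOf K)) ?_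
  intro a b hab
  have h4 : g * ((a : K) : G) * g⁻¹ = g * ((b : K) : G) * g⁻¹ :=
    congrArg (fun z : T.subgroupOf K => ((z : K) : G)) hab
  exact Subtype.ext (Subtype.ext (mul_left_cancel (mul_right_cancel h4)))

/-- `T` has sectional rank at most 4 -/
theorem rank_T [Finite G] (S : SetupQ x q₀ K T) {F : Type*} [Field F] [Finite F]
    (R : L2Aut.Rep F K) : SectionalPRankLE 2 4 T := by
  have hle : T ≤ normalizer (K : Set G) := fun t ht =>
    mem_normalizer_fintype fun k hk => S.Kn t (S.cx t ht) k hk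
  let f : T →* MulAut K := K.normalizerMonoidHom.comp (Subgroup.inclusion hle)
  have hf : ∀ t : T, Acts K t (f t) := fun t k => rfl
  have h1 : SectionalPRankLE 2 1 f.ker := by
    refine rank_of_zpowers (c := (⟨q₀, S.qT (mem_zpowers q₀)⟩ : T)) ?_
    intro t ht
    have h2 := hf t
    rw [MonoidHom.mem_ker] at ht
    rw [ht] at h2
    obtain ⟨i, hi⟩ := mem_zpowers_iff.1 (S.ker (S.cx t t.2) h2)
    exact mem_zpowers_iff.2 ⟨i, Subtype.ext hi⟩
  have h2 : SectionalPRankLE 2 3 f.range := by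
    exact rank_aut R _ (IsPGroup.of_surjective S.pT f.rangeRestrict f.rangeRestrict_surjective)
  exact Rank.of_extension f h1 h2

theorem exists_grow [Finite G] (S : SetupQ x q₀ K T) {F : Type*} [Field F] [Finite F]
    (R : L2Aut.Rep F K) (h : ¬ SectionalPRankLE 2 4 G) :
    ∃ s, (∀ t ∈ T, s * t * s⁻¹ ∈ T) ∧ s * s ∈ T ∧ s ∉ T ∧ s * x ≠ x * s ∧ ∃ n, s ^ 2 ^ n = 1 := by
  obtain ⟨S2, hTS⟩ := S.pT.exists_le_sylow
  have hlt : T < (S2 : Subgroup G) := by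
    refine lt_of_le_of_ne hTS ?_
    rintro rfl
    exact h ((Rank.sylow_iff S2).1 (S.rank_T R))
  have : Group.IsNilpotent (S2 : Subgroup G) := S2.isPGroup'.isNilpotent
  obtain ⟨y, hyS, hyT, hyN⟩ :=
    Cfsg.Agent.Transfer.FrobeniusFusion.exists_mem_normalizer_notMem hlt
  obtain ⟨n, hn⟩ := pow_of_mem S2.isPGroup' hyS
  obtain ⟨m, hm1, hm2⟩ : ∃ m, y ^ 2 ^ m ∉ T ∧ y ^ 2 ^ (m + 1) ∈ T := by
    have h1 : y ^ 2 ^ n ∈ T := by rw [hn]; exact one_mem T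
    clear hn
    induction n with
    | zero => rw [pow_zero, pow_one] at h1; exact absurd h1 hyT
    | succ n ih =>
      by_cases h2 : y ^ 2 ^ n ∈ T
      · exact ih h2
      · exact ⟨n, h2, h1⟩
  have hN : y ^ 2 ^ m ∈ normalizer (T : Set G) := (normalizer (T : Set G)).pow_mem hyN _
  have hc : ∀ t ∈ T, y ^ 2 ^ m * t * (y ^ 2 ^ m)⁻¹ ∈ T := fun t ht =>
    (mem_normalizer_iff.1 hN t).1 ht
  obtain ⟨k, hk⟩ := pow_of_mem S2.isPGroup' ((S2 : Subgroup G).pow_mem hyS (2 ^ m))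
  refine ⟨y ^ 2 ^ m, hc, ?_, hm1, ?_, k, hk⟩
  · rw [← pow_add, ← two_mul, ← pow_succ']; exact hm2
  · intro h3
    exact hm1 (S.mem_of_norm ⟨k, hk⟩ h3 hc)

/-- helper837's frame -/
theorem frQ (S : SetupQ x q₀ K T) {z : G} (zK : z ∈ K) (zz : z * z = 1) (z1 : z ≠ 1) :
    FrQ x z q₀ K where
  xx := S.xx
  Kx := S.Kx
  Kn := S.Kn
  Qx := S.Qx
  QK := S.QK
  Q2 := S.Q2
  Qi := S.Qi
  CK := S.CK
  zK := zK
  zz := zz
  z1 := z1

end SetupQ

end Cfsg.Agent.OddHalf.D6
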